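import Mathlib

set_option autoImplicit false

namespace Cfsg.Agent.Helper23

open scoped Pointwise

universe u

/-- The Camina--Herzog hypothesis: every element of 2-power order has a conjugacy class of
odd size. -/
def CHyp (G : Type*) [Group G] : Prop :=
  ∀ x : G, (∃ k : ℕ, orderOf x = 2 ^ k) → ¬ 2 ∣ (Subgroup.centralizer ({x} : Set G)).index

theorem ch_mem_conj_smul {G : Type*} [Group G] {H : Subgroup G} {g x : G} :
    x ∈ MulAut.conj g • H ↔ g⁻¹ * x * g ∈ H := by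
  rw [Subgroup.mem_pointwise_smul_iff_inv_smul_mem]
  simp [MulAut.smul_def]

theorem ch_mem_sylow_smul {G : Type*} [Group G] (S : Sylow 2 G) (g y : G) :
    y ∈ ((g • S : Sylow 2 G) : Subgroup G) ↔ g⁻¹ * y * g ∈ (S : Subgroup G) := by
  show y ∈ MulAut.conj g • (S : Subgroup G) ↔ _
  exact ch_mem_conj_smul

theorem ch_two_elt {G : Type*} [Group G] (P : Subgroup G) (hP : IsPGroup 2 P) (x : G)
    (hx : x ∈ P) : ∃ k : ℕ, orderOf x = 2 ^ k := by
  obtain ⟨k, hk⟩ := hP ⟨x, hx⟩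
  have h1 : x ^ 2 ^ k = 1 := congrArg Subtype.val hk
  obtain ⟨j, -, hj⟩ := (Nat.dvd_prime_pow Nat.prime_two).mp (orderOf_dvd_of_pow_eq_one h1)
  exact ⟨j, hj⟩

theorem ch_exists_sylow_le {G : Type*} [Group G] [Finite G]
    (K : Subgroup G) (h : ¬ 2 ∣ K.index) : ∃ P : Sylow 2 G, (P : Subgroup G) ≤ K := by
  obtain ⟨P'⟩ : Nonempty (Sylow 2 ↥K) := inferInstance
  have hidx : K.index ≠ 0 := fun h0 => h (by rw [h0]; exact dvd_zero 2)
  have hc : Nat.card ((P' : Subgroup ↥K).map K.subtype) = 2 ^ (Nat.card G).factorization 2 := by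
    rw [Subgroup.card_map_of_injective K.subtype_injective, P'.card_eq_multiplicity,
      ← K.card_mul_index, Nat.factorization_mul Nat.card_pos.ne' hidx, Finsupp.add_apply,
      Nat.factorization_eq_zero_of_not_dvd h, add_zero]
  exact ⟨Sylow.ofCard _ hc, Subgroup.map_subtype_le _⟩

/-- Inside a subgroup `H` containing a Sylow 2-subgroup `S` of `G`, every 2-subgroup of `H` is
conjugate into `S` by an element of `H`. -/
theorem ch_sylow_ge {G : Type*} [Group G] [Finite G] (H : Subgroup G) (S : Sylow 2 G)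
    (hS : (S : Subgroup G) ≤ H) (A : Subgroup G) (hA : A ≤ H) (hA2 : IsPGroup 2 A) :
    ∃ c ∈ H, ∀ a ∈ A, c⁻¹ * a * c ∈ (S : Subgroup G) := by
  obtain ⟨Q, hQ⟩ := (hA2.comap_subtype (K := H)).exists_le_sylow
  obtain ⟨g, hg⟩ := MulAction.exists_smul_eq ↥H (S.subtype hS) Q
  refine ⟨g, g.2, fun a ha => ?_⟩
  have h1 : (⟨a, hA ha⟩ : ↥H) ∈ (Q : Subgroup ↥H) :=
    hQ (show (⟨a, hA ha⟩ : ↥H) ∈ A.comap H.subtype from ha)
  rw [← hg] at h1
  have h3 : (⟨a, hA ha⟩ : ↥H) ∈ MulAut.conj g • ((S.subtype hS : Sylow 2 ↥H) : Subgroup ↥H) := h1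
  have h2 : g⁻¹ * (⟨a, hA ha⟩ : ↥H) * g ∈ ((S.subtype hS : Sylow 2 ↥H) : Subgroup ↥H) :=
    ch_mem_conj_smul.mp h3
  rw [Sylow.coe_subtype, Subgroup.mem_subgroupOf] at h2
  exact h2

/-- Two 2-subgroups of a subgroup `L` can be brought into a common 2-subgroup by
conjugating one of them with an element of `L`. -/
theorem ch_conj_join {G : Type*} [Group G] [Finite G] (L A B : Subgroup G) (hA : A ≤ L)
    (hB : B ≤ L) (hA2 : IsPGroup 2 A) (hB2 : IsPGroup 2 B) :
    ∃ l ∈ L, ∃ R : Subgroup G, IsPGroup 2 R ∧ B ≤ R ∧ ∀ a ∈ A, l * a * l⁻¹ ∈ R := by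
  obtain ⟨Q, hQ⟩ := (hA2.comap_subtype (K := L)).exists_le_sylow
  obtain ⟨Q₁, hQ₁⟩ := (hB2.comap_subtype (K := L)).exists_le_sylow
  obtain ⟨g, hg⟩ := MulAction.exists_smul_eq ↥L Q Q₁
  refine ⟨g, g.2, (Q₁ : Subgroup ↥L).map L.subtype, Q₁.isPGroup'.map L.subtype, ?_, ?_⟩
  · intro b hb
    exact Subgroup.mem_map.mpr
      ⟨⟨b, hB hb⟩, hQ₁ (show (⟨b, hB hb⟩ : ↥L) ∈ B.comap L.subtype from hb), rfl⟩
  · intro a ha
    have h1 : (⟨a, hA ha⟩ : ↥L) ∈ (Q : Subgroup ↥L) :=
      hQ (show (⟨a, hA ha⟩ : ↥L) ∈ A.comap L.subtype from ha)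
    have h3 : g * (⟨a, hA ha⟩ : ↥L) * g⁻¹ ∈ MulAut.conj g • (Q : Subgroup ↥L) := by
      rw [ch_mem_conj_smul]
      have h4 : g⁻¹ * (g * (⟨a, hA ha⟩ : ↥L) * g⁻¹) * g = ⟨a, hA ha⟩ := by group
      rw [h4]; exact h1
    have h2 : g * (⟨a, hA ha⟩ : ↥L) * g⁻¹ ∈ ((g • Q : Sylow 2 ↥L) : Subgroup ↥L) := h3
    rw [hg] at h2
    exact Subgroup.mem_map.mpr ⟨_, h2, rfl⟩

/-- An element with a conjugacy class of odd size which is conjugate to its inverse is an
involution or trivial. -/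
theorem ch_real {G : Type*} [Group G] [Finite G] (x s : G)
    (hodd : ¬ 2 ∣ (Subgroup.centralizer ({x} : Set G)).index) (hs : s * x * s⁻¹ = x⁻¹) :
    x * x = 1 := by
  classical
  by_contra hne
  apply hodd
  have hsurj : Function.Surjective (ConjAct.toConjAct (G := G)).toMonoidHom :=
    ConjAct.toConjAct.surjective
  have hidx : (Subgroup.centralizer ({x} : Set G)).index
      = (MulAction.orbit (ConjAct G) x).ncard := by
    have h1 : (Subgroup.centralizer ({x} : Set G)).index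
        = (MulAction.stabilizer (ConjAct G) x).index := by
      rw [Subgroup.centralizer_eq_comap_stabilizer]
      exact Subgroup.index_comap_of_surjective _ hsurj
    rw [h1, MulAction.index_stabilizer]
  rw [hidx]
  have hfin : (MulAction.orbit (ConjAct G) x).Finite := Set.toFinite _
  rw [Set.ncard_eq_toFinset_card _ hfin]
  have hmem : ∀ a : G, a ∈ hfin.toFinset ↔ ∃ c : G, c * a * c⁻¹ = x := by
    intro a
    rw [Set.Finite.mem_toFinset, ConjAct.mem_orbit_conjAct, isConj_iff]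
  have hsum : ∑ _y ∈ hfin.toFinset, (1 : ZMod 2) = 0 := by
    refine Finset.sum_involution (fun y _ => y⁻¹) ?_ ?_ ?_ ?_
    · intro a _
      exact CharTwo.add_self_eq_zero (1 : ZMod 2)
    · intro a ha _ hfix
      obtain ⟨c, hc⟩ := (hmem a).mp ha
      apply hne
      have h1 : a⁻¹ = a := hfix
      have haa : a * a = 1 := by
        calc a * a = a⁻¹ * a := by rw [h1]
          _ = 1 := inv_mul_cancel a
      rw [← hc]
      calc c * a * c⁻¹ * (c * a * c⁻¹) = c * (a * a) * c⁻¹ := by group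
        _ = 1 := by rw [haa]; group
    · intro a ha
      obtain ⟨c, hc⟩ := (hmem a).mp ha
      refine (hmem a⁻¹).mpr ⟨s⁻¹ * c, ?_⟩
      have h1 : c * a⁻¹ * c⁻¹ = x⁻¹ := by rw [← hc]; group
      calc s⁻¹ * c * a⁻¹ * (s⁻¹ * c)⁻¹ = s⁻¹ * (c * a⁻¹ * c⁻¹) * s := by group
        _ = s⁻¹ * (s * x * s⁻¹) * s := by rw [h1, hs]
        _ = x := by group
    · intro a _
      exact inv_inv a
  rw [Finset.sum_const, nsmul_one] at hsum
  exact (ZMod.natCast_eq_zero_iff _ 2).mp hsum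

/-- Under the hypothesis, two involutions of a 2-subgroup commute. -/
theorem ch_inv_comm {G : Type*} [Group G] [Finite G] (h : CHyp G) (P : Subgroup G)
    (hP : IsPGroup 2 P) (s t : G) (hs : s ∈ P) (ht : t ∈ P) (hs2 : s * s = 1)
    (ht2 : t * t = 1) : s * t = t * s := by
  have hsi : s⁻¹ = s := inv_eq_of_mul_eq_one_left hs2
  have hti : t⁻¹ = t := inv_eq_of_mul_eq_one_left ht2
  have hd : s * (s * t) * s⁻¹ = (s * t)⁻¹ := by
    calc s * (s * t) * s⁻¹ = (s * s) * t * s⁻¹ := by simp only [mul_assoc]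
      _ = t⁻¹ * s⁻¹ := by rw [hs2, one_mul, hti]
      _ = (s * t)⁻¹ := (mul_inv_rev s t).symm
  have h1 := ch_real (s * t) s (h (s * t) (ch_two_elt P hP (s * t) (mul_mem hs ht))) hd
  have h2 : (s * t)⁻¹ = s * t := inv_eq_of_mul_eq_one_left h1
  calc s * t = (s * t)⁻¹ := h2.symm
    _ = t⁻¹ * s⁻¹ := mul_inv_rev s t
    _ = t * s := by rw [hsi, hti]

/-- The subgroup generated by the elements of `P` of order at most two. -/
def chE {G : Type*} [Group G] (P : Subgroup G) : Subgroup G :=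
  Subgroup.closure {s : G | s ∈ P ∧ s * s = 1}

theorem ch_mem_E {G : Type*} [Group G] [Finite G] (h : CHyp G) (P : Subgroup G)
    (hP : IsPGroup 2 P) (x : G) : x ∈ chE P ↔ x ∈ P ∧ x * x = 1 := by
  constructor
  · intro hx
    refine Subgroup.closure_induction (p := fun y _ => y ∈ P ∧ y * y = 1) ?_ ?_ ?_ ?_ hx
    · intro y hy
      exact hy
    · exact ⟨one_mem P, one_mul 1⟩
    · rintro a b _ _ ⟨ha, ha2⟩ ⟨hb, hb2⟩
      refine ⟨mul_mem ha hb, ?_⟩
      have hc := ch_inv_comm h P hP a b ha hb ha2 hb2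
      calc a * b * (a * b) = a * (b * a) * b := by simp only [mul_assoc]
        _ = a * (a * b) * b := by rw [← hc]
        _ = (a * a) * (b * b) := by simp only [mul_assoc]
        _ = 1 := by rw [ha2, hb2, one_mul]
    · rintro a _ ⟨ha, ha2⟩
      refine ⟨inv_mem ha, ?_⟩
      rw [← mul_inv_rev, ha2, inv_one]
  · intro hx
    exact Subgroup.subset_closure hx

theorem ch_E_le {G : Type*} [Group G] [Finite G] (h : CHyp G) (P : Subgroup G)
    (hP : IsPGroup 2 P) : chE P ≤ P := fun x hx => ((ch_mem_E h P hP x).mp hx).1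

theorem ch_E_comm {G : Type*} [Group G] [Finite G] (h : CHyp G) (P : Subgroup G)
    (hP : IsPGroup 2 P) (a b : G) (ha : a ∈ chE P) (hb : b ∈ chE P) : a * b = b * a := by
  obtain ⟨ha1, ha2⟩ := (ch_mem_E h P hP a).mp ha
  obtain ⟨hb1, hb2⟩ := (ch_mem_E h P hP b).mp hb
  exact ch_inv_comm h P hP a b ha1 hb1 ha2 hb2

theorem ch_E_card {G : Type*} [Group G] [Finite G] (h : CHyp G) (S S' : Sylow 2 G) :
    Nat.card (chE (S' : Subgroup G)) = Nat.card (chE (S : Subgroup G)) := by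
  obtain ⟨g, hg⟩ := MulAction.exists_smul_eq G S S'
  have key : chE (S' : Subgroup G) = (chE (S : Subgroup G)).map (MulAut.conj g).toMonoidHom := by
    ext y
    rw [ch_mem_E h _ S'.isPGroup' y, Subgroup.mem_map]
    constructor
    · rintro ⟨hy, hy2⟩
      refine ⟨g⁻¹ * y * g, (ch_mem_E h _ S.isPGroup' _).mpr ⟨?_, ?_⟩, ?_⟩
      · rw [← hg] at hy
        exact (ch_mem_sylow_smul S g y).mp hy
      · calc g⁻¹ * y * g * (g⁻¹ * y * g) = g⁻¹ * (y * y) * g := by group
          _ = 1 := by rw [hy2]; group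
      · show g * (g⁻¹ * y * g) * g⁻¹ = y
        group
    · rintro ⟨z, hz, rfl⟩
      obtain ⟨hz1, hz2⟩ := (ch_mem_E h _ S.isPGroup' z).mp hz
      have hcz : (MulAut.conj g).toMonoidHom z = g * z * g⁻¹ := rfl
      rw [hcz]
      refine ⟨?_, ?_⟩
      · rw [← hg, ch_mem_sylow_smul]
        have h1 : g⁻¹ * (g * z * g⁻¹) * g = z := by group
        rw [h1]; exact hz1
      · calc g * z * g⁻¹ * (g * z * g⁻¹) = g * (z * z) * g⁻¹ := by group
          _ = 1 := by rw [hz2]; group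
  rw [key, Subgroup.card_map_of_injective (MulAut.conj g).injective]

/-- `Ω₁` of a Sylow 2-subgroup is weakly closed. -/
theorem ch_E_eq_of_le {G : Type*} [Group G] [Finite G] (h : CHyp G) (S S' : Sylow 2 G)
    (hle : chE (S : Subgroup G) ≤ (S' : Subgroup G)) :
    chE (S' : Subgroup G) = chE (S : Subgroup G) := by
  have h1 : chE (S : Subgroup G) ≤ chE (S' : Subgroup G) := by
    intro y hy
    exact (ch_mem_E h _ S'.isPGroup' y).mpr ⟨hle hy, ((ch_mem_E h _ S.isPGroup' y).mp hy).2⟩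
  exact (Subgroup.eq_of_le_of_card_ge h1 (le_of_eq (ch_E_card h S S'))).symm

/-- Core step: if `x ∈ S` and `x²` centralizes `Ω₁(S)`, then `x` centralizes `Ω₁(S)`. -/
theorem ch_central_core {G : Type*} [Group G] [Finite G] (h : CHyp G) (S : Sylow 2 G)
    (x : G) (hx : x ∈ (S : Subgroup G))
    (hx2 : ∀ e ∈ chE (S : Subgroup G), (x * x) * e = e * (x * x)) :
    ∀ e ∈ chE (S : Subgroup G), x * e = e * x := by
  have hS2 := S.isPGroup'
  have hmemE : ∀ y, y ∈ chE (S : Subgroup G) ↔ y ∈ (S : Subgroup G) ∧ y * y = 1 :=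
    ch_mem_E h _ hS2
  have hnorm : ∀ e ∈ chE (S : Subgroup G), x⁻¹ * e * x ∈ chE (S : Subgroup G) := by
    intro e he
    obtain ⟨he1, he2⟩ := (hmemE e).mp he
    refine (hmemE _).mpr ⟨mul_mem (mul_mem (inv_mem hx) he1) hx, ?_⟩
    calc x⁻¹ * e * x * (x⁻¹ * e * x) = x⁻¹ * (e * e) * x := by group
      _ = 1 := by rw [he2]; group
  have hx2e : ∃ k : ℕ, orderOf x = 2 ^ k := ch_two_elt _ hS2 x hx
  have hmemC : ∀ y, y ∈ Subgroup.centralizer ({x} : Set G) ↔ x * y = y * x := by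
    intro y
    rw [Subgroup.mem_centralizer_iff]
    constructor
    · intro hy
      exact hy x (Set.mem_singleton x)
    · intro hy z hz
      rw [Set.mem_singleton_iff] at hz
      rw [hz]; exact hy
  obtain ⟨S₀, hS₀⟩ := ch_exists_sylow_le (Subgroup.centralizer ({x} : Set G)) (h x hx2e)
  have hD2 : IsPGroup 2 (chE (S : Subgroup G) ⊓ Subgroup.centralizer ({x} : Set G) : Subgroup G) :=
    (hS2.to_le (ch_E_le h _ hS2)).to_le inf_le_left
  obtain ⟨c, hcC, hc⟩ := ch_sylow_ge (Subgroup.centralizer ({x} : Set G)) S₀ hS₀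
    (chE (S : Subgroup G) ⊓ Subgroup.centralizer ({x} : Set G)) inf_le_right hD2
  have hmemS₁ : ∀ y, y ∈ ((c • S₀ : Sylow 2 G) : Subgroup G) ↔ c⁻¹ * y * c ∈ (S₀ : Subgroup G) :=
    fun y => ch_mem_sylow_smul S₀ c y
  have hS₁C : ((c • S₀ : Sylow 2 G) : Subgroup G) ≤ Subgroup.centralizer ({x} : Set G) := by
    intro y hy
    have h1 : c⁻¹ * y * c ∈ Subgroup.centralizer ({x} : Set G) := hS₀ ((hmemS₁ y).mp hy)
    have h2 : y = c * (c⁻¹ * y * c) * c⁻¹ := by group
    rw [h2]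
    exact mul_mem (mul_mem hcC h1) (inv_mem hcC)
  have hDS₁ : ∀ d, d ∈ chE (S : Subgroup G) → x * d = d * x →
      d ∈ ((c • S₀ : Sylow 2 G) : Subgroup G) := by
    intro d hd hdx
    exact (hmemS₁ d).mpr (hc d ⟨hd, (hmemC d).mpr hdx⟩)
  have hS₁2 := (c • S₀ : Sylow 2 G).isPGroup'
  have hmemE₁ : ∀ y, y ∈ chE ((c • S₀ : Sylow 2 G) : Subgroup G) ↔
      y ∈ ((c • S₀ : Sylow 2 G) : Subgroup G) ∧ y * y = 1 := ch_mem_E h _ hS₁2
  have hE₁x : ∀ y ∈ chE ((c • S₀ : Sylow 2 G) : Subgroup G), x * y = y * x :=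
    fun y hy => (hmemC y).mp (hS₁C ((hmemE₁ y).mp hy).1)
  have hEc : ∀ a ∈ chE (S : Subgroup G), ∀ b ∈ chE (S : Subgroup G), a * b = b * a :=
    fun a ha b hb => ch_E_comm h _ hS2 a b ha hb
  have hE₁c : ∀ a ∈ chE ((c • S₀ : Sylow 2 G) : Subgroup G),
      ∀ b ∈ chE ((c • S₀ : Sylow 2 G) : Subgroup G), a * b = b * a :=
    fun a ha b hb => ch_E_comm h _ hS₁2 a b ha hb
  -- the "commutator" of a generator in `E` with `x` lies in `E ∩ E₁`
  have hδE : ∀ e ∈ chE (S : Subgroup G), e⁻¹ * (x⁻¹ * e * x) ∈ chE (S : Subgroup G) ∧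
      e⁻¹ * (x⁻¹ * e * x) ∈ chE ((c • S₀ : Sylow 2 G) : Subgroup G) := by
    intro e he
    have he' := hnorm e he
    have hδ : e⁻¹ * (x⁻¹ * e * x) ∈ chE (S : Subgroup G) := mul_mem (inv_mem he) he'
    refine ⟨hδ, ?_⟩
    have hδ2 : (e⁻¹ * (x⁻¹ * e * x)) * (e⁻¹ * (x⁻¹ * e * x)) = 1 := ((hmemE _).mp hδ).2
    refine (hmemE₁ _).mpr ⟨hDS₁ _ hδ ?_, hδ2⟩
    have he2 : e * e = 1 := ((hmemE e).mp he).2
    have hei : e⁻¹ = e := inv_eq_of_mul_eq_one_left he2
    have hcomm : e * (x⁻¹ * e * x) = (x⁻¹ * e * x) * e := hEc e he _ he'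
    have hxx : x⁻¹ * (x⁻¹ * e * x) * x = e := by
      have h1 := hx2 e he
      calc x⁻¹ * (x⁻¹ * e * x) * x = (x * x)⁻¹ * (e * (x * x)) := by group
        _ = (x * x)⁻¹ * ((x * x) * e) := by rw [h1]
        _ = e := by group
    have hx3 : x * e * x⁻¹ = x⁻¹ * e * x := by
      calc x * e * x⁻¹ = x * (x⁻¹ * (x⁻¹ * e * x) * x) * x⁻¹ := by rw [hxx]
        _ = x⁻¹ * e * x := by group
    rw [hei]
    calc x * (e * (x⁻¹ * e * x)) = (x * e * x⁻¹) * e * x := by group
      _ = (x⁻¹ * e * x) * e * x := by rw [hx3]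
      _ = e * (x⁻¹ * e * x) * x := by rw [hcomm]
  -- the subgroup generated by `E` and `E₁`
  have hEL : chE (S : Subgroup G) ≤ Subgroup.closure
      ((chE (S : Subgroup G) : Set G) ∪ (chE ((c • S₀ : Sylow 2 G) : Subgroup G) : Set G)) :=
    fun y hy => Subgroup.subset_closure (Or.inl hy)
  have hE₁L : chE ((c • S₀ : Sylow 2 G) : Subgroup G) ≤ Subgroup.closure
      ((chE (S : Subgroup G) : Set G) ∪ (chE ((c • S₀ : Sylow 2 G) : Subgroup G) : Set G)) :=
    fun y hy => Subgroup.subset_closure (Or.inr hy)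
  have hLc : ∀ l ∈ Subgroup.closure
      ((chE (S : Subgroup G) : Set G) ∪ (chE ((c • S₀ : Sylow 2 G) : Subgroup G) : Set G)),
      ∀ d, d ∈ chE (S : Subgroup G) → d ∈ chE ((c • S₀ : Sylow 2 G) : Subgroup G) →
      l * d = d * l := by
    intro l hl d hd hd₁
    refine Subgroup.closure_induction (p := fun y _ => y * d = d * y) ?_ ?_ ?_ ?_ hl
    · rintro y (hy | hy)
      · exact hEc y hy d hd
      · exact hE₁c y hy d hd₁
    · rw [one_mul, mul_one]
    · intro a b _ _ ha hb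
      calc a * b * d = a * (b * d) := mul_assoc a b d
        _ = a * (d * b) := by rw [hb]
        _ = a * d * b := (mul_assoc a d b).symm
        _ = d * a * b := by rw [ha]
        _ = d * (a * b) := mul_assoc d a b
    · intro a _ ha
      calc a⁻¹ * d = a⁻¹ * (d * a) * a⁻¹ := by group
        _ = a⁻¹ * (a * d) * a⁻¹ := by rw [ha]
        _ = d * a⁻¹ := by group
  have hP : ∀ l ∈ Subgroup.closure
      ((chE (S : Subgroup G) : Set G) ∪ (chE ((c • S₀ : Sylow 2 G) : Subgroup G) : Set G)),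
      l⁻¹ * (x⁻¹ * l * x) ∈ chE (S : Subgroup G) ∧
      l⁻¹ * (x⁻¹ * l * x) ∈ chE ((c • S₀ : Sylow 2 G) : Subgroup G) := by
    intro l hl
    refine Subgroup.closure_induction
      (p := fun y _ => y⁻¹ * (x⁻¹ * y * x) ∈ chE (S : Subgroup G) ∧
        y⁻¹ * (x⁻¹ * y * x) ∈ chE ((c • S₀ : Sylow 2 G) : Subgroup G)) ?_ ?_ ?_ ?_ hl
    · rintro y (hy | hy)
      · exact hδE y hy
      · have h1 : y⁻¹ * (x⁻¹ * y * x) = 1 := by
          have h2 := hE₁x y hy
          calc y⁻¹ * (x⁻¹ * y * x) = y⁻¹ * (x⁻¹ * (y * x)) := by group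
            _ = y⁻¹ * (x⁻¹ * (x * y)) := by rw [h2]
            _ = 1 := by group
        rw [h1]
        exact ⟨one_mem _, one_mem _⟩
    · have h1 : (1 : G)⁻¹ * (x⁻¹ * 1 * x) = 1 := by group
      rw [h1]
      exact ⟨one_mem _, one_mem _⟩
    · rintro a b _ hb ⟨ha1, ha2⟩ ⟨hb1, hb2⟩
      have hcomm := hLc b hb _ ha1 ha2
      have h1 : (a * b)⁻¹ * (x⁻¹ * (a * b) * x)
          = (a⁻¹ * (x⁻¹ * a * x)) * (b⁻¹ * (x⁻¹ * b * x)) := by
        calc (a * b)⁻¹ * (x⁻¹ * (a * b) * x)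
            = b⁻¹ * ((a⁻¹ * (x⁻¹ * a * x)) * b) * (b⁻¹ * (x⁻¹ * b * x)) := by group
          _ = b⁻¹ * (b * (a⁻¹ * (x⁻¹ * a * x))) * (b⁻¹ * (x⁻¹ * b * x)) := by rw [hcomm]
          _ = (a⁻¹ * (x⁻¹ * a * x)) * (b⁻¹ * (x⁻¹ * b * x)) := by group
      rw [h1]
      exact ⟨mul_mem ha1 hb1, mul_mem ha2 hb2⟩
    · rintro a ha ⟨ha1, ha2⟩
      have hcomm := hLc a ha _ ha1 ha2
      have h1 : (a⁻¹)⁻¹ * (x⁻¹ * a⁻¹ * x) = (a⁻¹ * (x⁻¹ * a * x))⁻¹ := by
        calc (a⁻¹)⁻¹ * (x⁻¹ * a⁻¹ * x) = a * (a⁻¹ * (x⁻¹ * a * x))⁻¹ * a⁻¹ := by group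
          _ = (a * (a⁻¹ * (x⁻¹ * a * x)) * a⁻¹)⁻¹ := by group
          _ = ((a⁻¹ * (x⁻¹ * a * x)) * a * a⁻¹)⁻¹ := by rw [hcomm]
          _ = (a⁻¹ * (x⁻¹ * a * x))⁻¹ := by group
      rw [h1]
      exact ⟨inv_mem ha1, inv_mem ha2⟩
  -- `E` and `E₁` are conjugate inside the subgroup they generate
  obtain ⟨l, hlL, R, hR2, hE₁R, hlR⟩ := ch_conj_join _ (chE (S : Subgroup G))
    (chE ((c • S₀ : Sylow 2 G) : Subgroup G)) hEL hE₁L (hS2.to_le (ch_E_le h _ hS2))
    (hS₁2.to_le (ch_E_le h _ hS₁2))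
  obtain ⟨S₃, hS₃⟩ := hR2.exists_le_sylow
  have hE₃ : chE (S₃ : Subgroup G) = chE ((c • S₀ : Sylow 2 G) : Subgroup G) :=
    ch_E_eq_of_le h (c • S₀) S₃ (fun y hy => hS₃ (hE₁R hy))
  have hconj : ∀ e ∈ chE (S : Subgroup G),
      l * e * l⁻¹ ∈ chE ((c • S₀ : Sylow 2 G) : Subgroup G) := by
    intro e he
    rw [← hE₃]
    refine (ch_mem_E h _ S₃.isPGroup' _).mpr ⟨hS₃ (hlR e he), ?_⟩
    have he2 : e * e = 1 := ((hmemE e).mp he).2
    calc l * e * l⁻¹ * (l * e * l⁻¹) = l * (e * e) * l⁻¹ := by group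
      _ = 1 := by rw [he2]; group
  intro e he
  have he' := hconj e he
  obtain ⟨hδ1, -⟩ := hP l hlL
  have h1 : x * (l * e * l⁻¹) = (l * e * l⁻¹) * x := hE₁x _ he'
  have h3 : (l⁻¹ * (x⁻¹ * l * x)) * e = e * (l⁻¹ * (x⁻¹ * l * x)) := hEc _ hδ1 e he
  have h4 : x⁻¹ * e * x = e := by
    calc x⁻¹ * e * x
        = x⁻¹ * l⁻¹ * x * x⁻¹ * ((l * e * l⁻¹) * x) * x⁻¹ * l * x := by group
      _ = x⁻¹ * l⁻¹ * x * x⁻¹ * (x * (l * e * l⁻¹)) * x⁻¹ * l * x := by rw [h1]
      _ = (l⁻¹ * (x⁻¹ * l * x))⁻¹ * (e * (l⁻¹ * (x⁻¹ * l * x))) := by group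
      _ = (l⁻¹ * (x⁻¹ * l * x))⁻¹ * ((l⁻¹ * (x⁻¹ * l * x)) * e) := by rw [h3]
      _ = e := by group
  calc x * e = x * (x⁻¹ * e * x) := by rw [h4]
    _ = e * x := by group

/-- `Ω₁` of a Sylow 2-subgroup is central in it. -/
theorem ch_central {G : Type*} [Group G] [Finite G] (h : CHyp G) (S : Sylow 2 G) :
    ∀ x ∈ (S : Subgroup G), ∀ e ∈ chE (S : Subgroup G), x * e = e * x := by
  have key : ∀ k : ℕ, ∀ x ∈ (S : Subgroup G),
      (∀ e ∈ chE (S : Subgroup G), x ^ 2 ^ k * e = e * x ^ 2 ^ k) →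
      ∀ e ∈ chE (S : Subgroup G), x * e = e * x := by
    intro k
    induction k with
    | zero =>
      intro x _ hx
      simpa using hx
    | succ k ih =>
      intro x hx hxk
      apply ih x hx
      have hy : x ^ 2 ^ k ∈ (S : Subgroup G) := pow_mem hx _
      apply ch_central_core h S (x ^ 2 ^ k) hy
      intro e he
      have h1 : x ^ 2 ^ k * x ^ 2 ^ k = x ^ 2 ^ (k + 1) := by
        rw [← pow_add, ← two_mul, ← pow_succ']
      rw [h1]
      exact hxk e he
  intro x hx e he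
  obtain ⟨k, hk⟩ := ch_two_elt _ S.isPGroup' x hx
  refine key k x hx ?_ e he
  intro e' _
  rw [← hk, pow_orderOf_eq_one, one_mul, mul_one]

/-- The normalizer of `Ω₁(S)` inherits the hypothesis. -/
theorem ch_normalizer {G : Type u} [Group G] [Finite G] (h : CHyp G) (S : Sylow 2 G) :
    CHyp ↥(Subgroup.normalizer (chE (S : Subgroup G) : Set G)) := by
  intro x hx
  have hS2 := S.isPGroup'
  have hE2 : IsPGroup 2 (chE (S : Subgroup G)) := hS2.to_le (ch_E_le h _ hS2)
  have hx' : ∃ k : ℕ, orderOf (x : G) = 2 ^ k := by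
    obtain ⟨k, hk⟩ := hx
    exact ⟨k, by rw [Subgroup.orderOf_coe]; exact hk⟩
  have hxz : IsPGroup 2 (Subgroup.zpowers (x : G)) := by
    obtain ⟨k, hk⟩ := hx'
    exact IsPGroup.of_card (n := k) (by rw [Nat.card_zpowers]; exact hk)
  have hsup : IsPGroup 2 (Subgroup.zpowers (x : G) ⊔ chE (S : Subgroup G) : Subgroup G) :=
    hxz.to_sup_of_normal_right' hE2 (Subgroup.zpowers_le.mpr x.2)
  obtain ⟨P, hP⟩ := hsup.exists_le_sylow
  have hEP : chE (P : Subgroup G) = chE (S : Subgroup G) :=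
    ch_E_eq_of_le h S P (le_trans le_sup_right hP)
  have hxP : (x : G) ∈ (P : Subgroup G) :=
    hP (Subgroup.mem_sup_left (Subgroup.mem_zpowers _))
  have hxE : ∀ e ∈ chE (S : Subgroup G), (x : G) * e = e * (x : G) := by
    intro e he
    exact ch_central h P _ hxP e (by rw [hEP]; exact he)
  have hEC : chE (S : Subgroup G) ≤ Subgroup.centralizer ({(x : G)} : Set G) := by
    intro e he
    rw [Subgroup.mem_centralizer_iff]
    intro y hy
    rw [Set.mem_singleton_iff] at hy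
    rw [hy]; exact hxE e he
  obtain ⟨S₀, hS₀⟩ := ch_exists_sylow_le (Subgroup.centralizer ({(x : G)} : Set G)) (h _ hx')
  obtain ⟨c, hcC, hc⟩ := ch_sylow_ge (Subgroup.centralizer ({(x : G)} : Set G)) S₀ hS₀
    (chE (S : Subgroup G)) hEC hE2
  have hmemS₂ : ∀ y, y ∈ ((c • S₀ : Sylow 2 G) : Subgroup G) ↔ c⁻¹ * y * c ∈ (S₀ : Subgroup G) :=
    fun y => ch_mem_sylow_smul S₀ c y
  have hS₂C : ((c • S₀ : Sylow 2 G) : Subgroup G) ≤ Subgroup.centralizer ({(x : G)} : Set G) := by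
    intro y hy
    have h1 : c⁻¹ * y * c ∈ Subgroup.centralizer ({(x : G)} : Set G) := hS₀ ((hmemS₂ y).mp hy)
    have h2 : y = c * (c⁻¹ * y * c) * c⁻¹ := by group
    rw [h2]
    exact mul_mem (mul_mem hcC h1) (inv_mem hcC)
  have hES₂ : chE (S : Subgroup G) ≤ ((c • S₀ : Sylow 2 G) : Subgroup G) :=
    fun e he => (hmemS₂ e).mpr (hc e he)
  have hE₂ : chE ((c • S₀ : Sylow 2 G) : Subgroup G) = chE (S : Subgroup G) :=
    ch_E_eq_of_le h S (c • S₀) hES₂
  have hS₂2 := (c • S₀ : Sylow 2 G).isPGroup'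
  have hS₂M : ((c • S₀ : Sylow 2 G) : Subgroup G)
      ≤ Subgroup.normalizer (chE (S : Subgroup G) : Set G) := by
    intro s hs
    rw [Subgroup.mem_normalizer_iff]
    intro e
    rw [← hE₂, ch_mem_E h _ hS₂2, ch_mem_E h _ hS₂2]
    constructor
    · rintro ⟨he1, he2⟩
      refine ⟨mul_mem (mul_mem hs he1) (inv_mem hs), ?_⟩
      calc s * e * s⁻¹ * (s * e * s⁻¹) = s * (e * e) * s⁻¹ := by group
        _ = 1 := by rw [he2]; group
    · rintro ⟨he1, he2⟩
      refine ⟨?_, ?_⟩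
      · have h1 : e = s⁻¹ * (s * e * s⁻¹) * s := by group
        rw [h1]
        exact mul_mem (mul_mem (inv_mem hs) he1) hs
      · have h1 : e * e = s⁻¹ * (s * e * s⁻¹ * (s * e * s⁻¹)) * s := by group
        rw [h1, he2]; group
  intro hdvd
  have hle : ((c • S₀ : Sylow 2 G) : Subgroup G) ≤ (Subgroup.centralizer
      ({x} : Set ↥(Subgroup.normalizer (chE (S : Subgroup G) : Set G)))).map
        (Subgroup.normalizer (chE (S : Subgroup G) : Set G)).subtype := by
    intro s hs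
    refine Subgroup.mem_map.mpr ⟨⟨s, hS₂M hs⟩, ?_, rfl⟩
    rw [Subgroup.mem_centralizer_iff]
    intro y hy
    rw [Set.mem_singleton_iff] at hy
    rw [hy]
    apply Subtype.ext
    have h1 : s ∈ Subgroup.centralizer ({(x : G)} : Set G) := hS₂C hs
    rw [Subgroup.mem_centralizer_iff] at h1
    exact h1 (x : G) (Set.mem_singleton _)
  have h1 := Subgroup.index_dvd_of_le hle
  rw [Subgroup.index_map_subtype] at h1
  exact (c • S₀ : Sylow 2 G).not_dvd_index (dvd_trans (dvd_mul_of_dvd_left hdvd _) h1)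

/-- Quotients by normal 2-subgroups inherit the hypothesis. -/
theorem ch_quot {G : Type u} [Group G] [Finite G] (h : CHyp G) (E : Subgroup G) [E.Normal]
    (hE2 : IsPGroup 2 E) : CHyp (G ⧸ E) := by
  intro y hy
  obtain ⟨x, rfl⟩ := QuotientGroup.mk_surjective y
  obtain ⟨k, hk⟩ := hy
  have h1 : x ^ 2 ^ k ∈ E := by
    rw [← QuotientGroup.eq_one_iff, QuotientGroup.mk_pow, ← hk]
    exact pow_orderOf_eq_one _
  obtain ⟨j, hj⟩ := hE2 ⟨x ^ 2 ^ k, h1⟩
  have h2 : (x ^ 2 ^ k) ^ 2 ^ j = 1 := congrArg Subtype.val hj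
  have h3 : x ^ 2 ^ (k + j) = 1 := by rw [pow_add, pow_mul]; exact h2
  obtain ⟨i, -, hi⟩ := (Nat.dvd_prime_pow Nat.prime_two).mp (orderOf_dvd_of_pow_eq_one h3)
  have hodd := h x ⟨i, hi⟩
  intro hdvd
  apply hodd
  have hle : (Subgroup.centralizer ({x} : Set G)).map (QuotientGroup.mk' E)
      ≤ Subgroup.centralizer ({(QuotientGroup.mk x : G ⧸ E)} : Set (G ⧸ E)) := by
    rintro _ ⟨c, hc, rfl⟩
    have hc' : c ∈ Subgroup.centralizer ({x} : Set G) := hc
    rw [Subgroup.mem_centralizer_iff] at hc'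
    rw [Subgroup.mem_centralizer_iff]
    intro z hz
    rw [Set.mem_singleton_iff] at hz
    rw [hz]
    have h4 := hc' x (Set.mem_singleton _)
    show (QuotientGroup.mk x : G ⧸ E) * QuotientGroup.mk c
      = QuotientGroup.mk c * QuotientGroup.mk x
    rw [← QuotientGroup.mk_mul, ← QuotientGroup.mk_mul, h4]
  exact dvd_trans (dvd_trans hdvd (Subgroup.index_dvd_of_le hle))
    (Subgroup.index_map_dvd _ (QuotientGroup.mk'_surjective E))

/-- Camina--Herzog: if every 2-element has a conjugacy class of odd size, then all 2-subgroups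
are abelian. -/
theorem ch_main : ∀ (n : ℕ) (G : Type u) [Group G] [Finite G], Nat.card G = n → CHyp G →
    ∀ P : Subgroup G, IsPGroup 2 P → ∀ a ∈ P, ∀ b ∈ P, a * b = b * a := by
  intro n
  induction n using Nat.strong_induction_on with
  | _ n ih =>
    intro G _ _ hn h P hP a ha b hb
    obtain ⟨S, hPS⟩ := hP.exists_le_sylow
    have hS2 := S.isPGroup'
    have hmemE : ∀ y, y ∈ chE (S : Subgroup G) ↔ y ∈ (S : Subgroup G) ∧ y * y = 1 :=
      ch_mem_E h _ hS2
    have hE2 : IsPGroup 2 (chE (S : Subgroup G)) := hS2.to_le (ch_E_le h _ hS2)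
    have hcen : ∀ x ∈ (S : Subgroup G), ∀ e ∈ chE (S : Subgroup G), x * e = e * x :=
      ch_central h S
    have hSM : (S : Subgroup G) ≤ Subgroup.normalizer (chE (S : Subgroup G) : Set G) := by
      intro s hs
      rw [Subgroup.mem_normalizer_iff]
      intro e
      constructor
      · intro he
        have h1 : s * e * s⁻¹ = e := by rw [hcen s hs e he]; group
        rw [h1]; exact he
      · intro he
        have h1 := hcen s⁻¹ (inv_mem hs) _ he
        have h2 : e = s * e * s⁻¹ := by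
          calc e = s⁻¹ * (s * e * s⁻¹) * s := by group
            _ = (s * e * s⁻¹) * s⁻¹ * s := by rw [h1]
            _ = s * e * s⁻¹ := by group
        rw [h2]; exact he
    by_cases hM : Subgroup.normalizer (chE (S : Subgroup G) : Set G) = ⊤
    · have hEn : (chE (S : Subgroup G)).Normal := Subgroup.normalizer_eq_top_iff.mp hM
      suffices hSab : ∀ x ∈ (S : Subgroup G), ∀ s ∈ (S : Subgroup G), x * s = s * x from
        hSab a (hPS ha) b (hPS hb)
      by_cases hEb : chE (S : Subgroup G) = ⊥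
      · have htriv : ∀ k : ℕ, ∀ x ∈ (S : Subgroup G), x ^ 2 ^ k = 1 → x = 1 := by
          intro k
          induction k with
          | zero =>
            intro x _ hx
            simpa using hx
          | succ k ihk =>
            intro x hx hxk
            apply ihk x hx
            have h1 : x ^ 2 ^ k ∈ chE (S : Subgroup G) := by
              refine (hmemE _).mpr ⟨pow_mem hx _, ?_⟩
              rw [← pow_add, ← two_mul, ← pow_succ']
              exact hxk
            rw [hEb, Subgroup.mem_bot] at h1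
            exact h1
        intro x hx s _
        obtain ⟨k, hk⟩ := ch_two_elt _ hS2 x hx
        have hx1 : x = 1 := htriv k x hx (by rw [← hk]; exact pow_orderOf_eq_one x)
        rw [hx1, one_mul, mul_one]
      · have hlt : Nat.card (G ⧸ chE (S : Subgroup G)) < n := by
          have h1 := Subgroup.card_eq_card_quotient_mul_card_subgroup (chE (S : Subgroup G))
          have h2 : 1 < Nat.card (chE (S : Subgroup G)) :=
            (Subgroup.one_lt_card_iff_ne_bot _).mpr hEb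
          have h3 : 0 < Nat.card (G ⧸ chE (S : Subgroup G)) := Nat.card_pos
          rw [← hn, h1]
          nlinarith
        have hq := ih (Nat.card (G ⧸ chE (S : Subgroup G))) hlt (G ⧸ chE (S : Subgroup G)) rfl
          (ch_quot h (chE (S : Subgroup G)) hE2)
          ((S : Subgroup G).map (QuotientGroup.mk' (chE (S : Subgroup G)))) (hS2.map _)
        have hSE : ∀ x ∈ (S : Subgroup G), ∀ s ∈ (S : Subgroup G),
            (s * x)⁻¹ * (x * s) ∈ chE (S : Subgroup G) := by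
          intro x hx s hs
          have h1 := hq (QuotientGroup.mk' (chE (S : Subgroup G)) x)
            (Subgroup.mem_map_of_mem _ hx)
            (QuotientGroup.mk' (chE (S : Subgroup G)) s) (Subgroup.mem_map_of_mem _ hs)
          rw [← map_mul, ← map_mul] at h1
          have h2 : ((s * x : G) : G ⧸ chE (S : Subgroup G)) = ((x * s : G) : G ⧸ chE (S : Subgroup G)) :=
            h1.symm
          exact QuotientGroup.eq.mp h2
        intro x hx s hs
        obtain ⟨S₀, hS₀⟩ := ch_exists_sylow_le (Subgroup.centralizer ({x} : Set G))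
          (h x (ch_two_elt _ hS2 x hx))
        have hmemCs : ∀ y, y ∈ (Subgroup.centralizer
            ({(QuotientGroup.mk' (chE (S : Subgroup G)) x)} : Set (G ⧸ chE (S : Subgroup G)))).comap
              (QuotientGroup.mk' (chE (S : Subgroup G))) ↔
            (y * x)⁻¹ * (x * y) ∈ chE (S : Subgroup G) := by
          intro y
          rw [Subgroup.mem_comap, Subgroup.mem_centralizer_iff]
          constructor
          · intro hy
            have h1 := hy _ (Set.mem_singleton _)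
            rw [← map_mul, ← map_mul] at h1
            have h2 : ((y * x : G) : G ⧸ chE (S : Subgroup G))
                = ((x * y : G) : G ⧸ chE (S : Subgroup G)) := h1.symm
            exact QuotientGroup.eq.mp h2
          · intro hy z hz
            rw [Set.mem_singleton_iff] at hz
            rw [hz, ← map_mul, ← map_mul]
            have h2 : ((y * x : G) : G ⧸ chE (S : Subgroup G))
                = ((x * y : G) : G ⧸ chE (S : Subgroup G)) := QuotientGroup.eq.mpr hy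
            exact h2.symm
        have hSCs : (S : Subgroup G) ≤ (Subgroup.centralizer
            ({(QuotientGroup.mk' (chE (S : Subgroup G)) x)} : Set (G ⧸ chE (S : Subgroup G)))).comap
              (QuotientGroup.mk' (chE (S : Subgroup G))) :=
          fun y hy => (hmemCs y).mpr (hSE x hx y hy)
        have hS₀Cs : (S₀ : Subgroup G) ≤ (Subgroup.centralizer
            ({(QuotientGroup.mk' (chE (S : Subgroup G)) x)} : Set (G ⧸ chE (S : Subgroup G)))).comap
              (QuotientGroup.mk' (chE (S : Subgroup G))) := by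
          intro y hy
          rw [hmemCs]
          have h1 : y ∈ Subgroup.centralizer ({x} : Set G) := hS₀ hy
          rw [Subgroup.mem_centralizer_iff] at h1
          have h2 : x * y = y * x := h1 x (Set.mem_singleton _)
          rw [h2, inv_mul_cancel]
          exact one_mem _
        obtain ⟨c, hcCs, hc⟩ := ch_sylow_ge _ S₀ hS₀Cs (S : Subgroup G) hSCs hS2
        have hy : ∀ t ∈ (S : Subgroup G), (c * x * c⁻¹) * t = t * (c * x * c⁻¹) := by
          intro t ht
          have h1 : c⁻¹ * t * c ∈ Subgroup.centralizer ({x} : Set G) := hS₀ (hc t ht)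
          rw [Subgroup.mem_centralizer_iff] at h1
          have h2 : x * (c⁻¹ * t * c) = (c⁻¹ * t * c) * x := h1 x (Set.mem_singleton _)
          calc c * x * c⁻¹ * t = c * (x * (c⁻¹ * t * c)) * c⁻¹ := by group
            _ = c * ((c⁻¹ * t * c) * x) * c⁻¹ := by rw [h2]
            _ = t * (c * x * c⁻¹) := by group
        have he : x⁻¹ * (c * x * c⁻¹) ∈ chE (S : Subgroup G) := by
          have h1 := (hmemCs c⁻¹).mp (inv_mem hcCs)
          have h2 : (c⁻¹ * x)⁻¹ * (x * c⁻¹) = x⁻¹ * (c * x * c⁻¹) := by group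
          rw [h2] at h1
          exact h1
        have h3 : (c * x * c⁻¹) * s = s * (c * x * c⁻¹) := hy s hs
        have h4 : s * (x⁻¹ * (c * x * c⁻¹)) = (x⁻¹ * (c * x * c⁻¹)) * s := hcen s hs _ he
        have h5 : x⁻¹ * s = s * x⁻¹ := by
          calc x⁻¹ * s = x⁻¹ * (s * (c * x * c⁻¹)) * (c * x * c⁻¹)⁻¹ := by group
            _ = x⁻¹ * ((c * x * c⁻¹) * s) * (c * x * c⁻¹)⁻¹ := by rw [h3]
            _ = ((x⁻¹ * (c * x * c⁻¹)) * s) * (c * x * c⁻¹)⁻¹ := by group
            _ = (s * (x⁻¹ * (c * x * c⁻¹))) * (c * x * c⁻¹)⁻¹ := by rw [h4]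
            _ = s * x⁻¹ := by group
        calc x * s = x * (s * x⁻¹) * x := by group
          _ = x * (x⁻¹ * s) * x := by rw [h5]
          _ = s * x := by group
    · have hlt : Nat.card ↥(Subgroup.normalizer (chE (S : Subgroup G) : Set G)) < n := by
        rw [← hn]
        have h1 : Nat.card ↥(Subgroup.normalizer (chE (S : Subgroup G) : Set G)) ≤ Nat.card G :=
          Subgroup.card_le_card_group _
        have h2 : Nat.card ↥(Subgroup.normalizer (chE (S : Subgroup G) : Set G)) ≠ Nat.card G :=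
          fun h3 => hM (Subgroup.eq_top_of_card_eq _ h3)
        omega
      have hq := ih (Nat.card ↥(Subgroup.normalizer (chE (S : Subgroup G) : Set G))) hlt
        ↥(Subgroup.normalizer (chE (S : Subgroup G) : Set G)) rfl (ch_normalizer h S)
        ((S : Subgroup G).subgroupOf (Subgroup.normalizer (chE (S : Subgroup G) : Set G)))
        (hS2.comap_subtype)
      have h1 := hq ⟨a, hSM (hPS ha)⟩ (Subgroup.mem_subgroupOf.mpr (hPS ha))
        ⟨b, hSM (hPS hb)⟩ (Subgroup.mem_subgroupOf.mpr (hPS hb))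
      exact congrArg Subtype.val h1

end Cfsg.Agent.Helper23
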