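import Mathlib
import Cfsg.Agent.Lead.Transfer
import Cfsg.Agent.Lead.AbelianSylow
import Cfsg.Agent.Helper4.CardMul

set_option autoImplicit false

namespace Cfsg.Agent.Helper23.Cyc

open Subgroup

theorem not_dvd_of_coprime {p n : ℕ} (hp : p.Prime) (h : n.Coprime p) : ¬ p ∣ n := by
  intro hd
  exact hp.one_lt.ne' (h.symm.eq_one_of_dvd hd)

theorem coprime_of_not_dvd {p n : ℕ} (hp : p.Prime) (h : ¬ p ∣ n) : n.Coprime p :=
  ((Nat.Prime.coprime_iff_not_dvd hp).mpr h).symm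

/-- The join of two `p'`-subgroups, one normalising the other, is a `p'`-subgroup. -/
theorem not_dvd_card_sup {G : Type*} [Group G] [Finite G] (p : ℕ) [hp : Fact p.Prime]
    (H K : Subgroup G) (hn : K ≤ normalizer (H : Set G)) (hH : ¬ p ∣ Nat.card H)
    (hK : ¬ p ∣ Nat.card K) : ¬ p ∣ Nat.card (H ⊔ K : Subgroup G) := by
  intro h
  have h1 := Cfsg.Agent.Helper4.card_sup_mul_card_inf K H hn
  have h' : p ∣ Nat.card (K ⊔ H : Subgroup G) := by rw [sup_comm]; exact h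
  have h2 : p ∣ Nat.card K * Nat.card H := by
    rw [← h1]; exact Dvd.dvd.mul_right h' _
  rcases (Nat.Prime.dvd_mul hp.1).mp h2 with h3 | h3
  · exact hK h3
  · exact hH h3

theorem mem_of_coprime_index {G : Type*} [Group G] (M : Subgroup G) [M.Normal] (x : G)
    (h : (M.index).Coprime (orderOf x)) : x ∈ M := by
  obtain ⟨m, hm⟩ := exists_pow_eq_self_of_coprime h
  rw [← hm]
  exact M.pow_mem (M.pow_index_mem x) m

/-- A `p'`-element normalising a `p'`-subgroup centralises it, when `p'`-subgroups are abelian. -/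
theorem comm_of_pprime {G : Type*} [Group G] [Finite G] (p : ℕ) [hp : Fact p.Prime]
    (hab : ∀ H : Subgroup G, ¬ p ∣ Nat.card H → IsMulCommutative H)
    (K : Subgroup G) (hK : ¬ p ∣ Nat.card K) (c : G) (hc : (orderOf c).Coprime p)
    (hn : c ∈ normalizer (K : Set G)) : ∀ k ∈ K, c * k = k * c := by
  intro k hk
  have h1 : ¬ p ∣ Nat.card (zpowers c) := by
    rw [Nat.card_zpowers]; exact not_dvd_of_coprime hp.1 hc
  have h2 : zpowers c ≤ normalizer (K : Set G) := (zpowers_le).mpr hn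
  have h3 := hab _ (not_dvd_card_sup p K (zpowers c) h2 hK h1)
  have h4 := isMulCommutative_iff.mp h3 ⟨c, mem_sup_right (mem_zpowers c)⟩ ⟨k, mem_sup_left hk⟩
  exact congrArg Subtype.val h4

theorem eq_one_of_ppow_of_coprime {G : Type*} [Group G] {p : ℕ} (x : G) (k : ℕ)
    (h1 : x ^ p ^ k = 1) (h2 : (orderOf x).Coprime p) : x = 1 := by
  have h3 : orderOf x ∣ p ^ k := orderOf_dvd_of_pow_eq_one h1
  have h4 : (orderOf x).Coprime (p ^ k) := Nat.Coprime.pow_right k h2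
  exact orderOf_eq_one_iff.mp (h4.eq_one_of_dvd h3)

theorem exists_order_p_power {G : Type*} [Group G] {p : ℕ} [hp : Fact p.Prime] (x : G)
    (k : ℕ) (h1 : x ^ p ^ k = 1) (hx : x ≠ 1) : ∃ i : ℕ, orderOf (x ^ i) = p := by
  have h3 : orderOf x ∣ p ^ k := orderOf_dvd_of_pow_eq_one h1
  obtain ⟨j, hj, hj'⟩ := (Nat.dvd_prime_pow hp.1).mp h3
  have hj0 : j ≠ 0 := by
    rintro rfl
    rw [pow_zero] at hj'
    exact hx (orderOf_eq_one_iff.mp hj')
  obtain ⟨j', rfl⟩ := Nat.exists_eq_add_one_of_ne_zero hj0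
  refine ⟨p ^ j', ?_⟩
  have hd : p ^ j' ∣ orderOf x := by rw [hj']; exact pow_dvd_pow p (Nat.le_succ j')
  rw [orderOf_pow_of_dvd (pow_ne_zero _ hp.1.ne_zero) hd, hj', pow_succ]
  exact Nat.mul_div_cancel_left p (pow_pos hp.1.pos j')

theorem orderOf_conj' {G : Type*} [Group G] (g v : G) : orderOf (g⁻¹ * v * g) = orderOf v := by
  have := orderOf_injective (MulAut.conj g⁻¹).toMonoidHom (MulAut.conj g⁻¹).injective v
  simpa using this

theorem conj_comm_iff {G : Type*} [Group G] (g a b : G) :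
    (g⁻¹ * a * g) * (g⁻¹ * b * g) = (g⁻¹ * b * g) * (g⁻¹ * a * g) ↔ a * b = b * a := by
  constructor
  · intro h
    have h1 : g⁻¹ * (a * b) * g = g⁻¹ * (b * a) * g := by
      calc g⁻¹ * (a * b) * g = (g⁻¹ * a * g) * (g⁻¹ * b * g) := by group
        _ = (g⁻¹ * b * g) * (g⁻¹ * a * g) := h
        _ = g⁻¹ * (b * a) * g := by group
    exact mul_left_cancel (mul_right_cancel h1)
  · intro h
    calc (g⁻¹ * a * g) * (g⁻¹ * b * g) = g⁻¹ * (a * b) * g := by group
      _ = g⁻¹ * (b * a) * g := by rw [h]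
      _ = (g⁻¹ * b * g) * (g⁻¹ * a * g) := by group

/-- In a cyclic `p`-group `P`, a `p'`-element normalising `P` and centralising a nonidentity
element of `P` centralises `P`. -/
theorem cyc_centralize {G : Type*} [Group G] [Finite G] {p : ℕ} [hp : Fact p.Prime]
    (P : Subgroup G) (hP : IsPGroup p P) [hc : IsCyclic P]
    (h : G) (hn : h ∈ normalizer (P : Set G)) (hcop : (orderOf h).Coprime p)
    (x : G) (hx : x ∈ P) (hx1 : x ≠ 1) (hcomm : h * x = x * h) :
    ∀ u ∈ P, h * u = u * h := by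
  have hab : ∀ a ∈ P, ∀ b ∈ P, a * b = b * a := by
    intro a ha b hb
    obtain ⟨g, hg⟩ := IsCyclic.exists_generator (α := ↥P)
    obtain ⟨m, hm⟩ := Subgroup.mem_zpowers_iff.mp (hg ⟨a, ha⟩)
    obtain ⟨n, hn'⟩ := Subgroup.mem_zpowers_iff.mp (hg ⟨b, hb⟩)
    have h1 : (⟨a, ha⟩ : ↥P) * ⟨b, hb⟩ = ⟨b, hb⟩ * ⟨a, ha⟩ := by
      rw [← hm, ← hn', ← zpow_add, ← zpow_add, add_comm]
    exact congrArg Subtype.val h1
  have hppow : ∀ a ∈ P, ∃ k : ℕ, a ^ p ^ k = 1 := by
    intro a ha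
    obtain ⟨k, hk⟩ := hP ⟨a, ha⟩
    exact ⟨k, by simpa using congrArg Subtype.val hk⟩
  have hconj : ∀ a ∈ P, h * a * h⁻¹ ∈ P := fun a ha => (Subgroup.mem_normalizer_iff.mp hn a).mp ha
  obtain ⟨k, hk⟩ := hppow x hx
  obtain ⟨i, hi⟩ := exists_order_p_power x k hk hx1
  have hx1P : x ^ i ∈ P := pow_mem hx i
  have hcx1 : h * x ^ i = x ^ i * h := Commute.pow_right (show Commute h x from hcomm) i
  by_contra hcon
  have hex : ∃ u, u ∈ P ∧ h * u ≠ u * h := by
    by_contra h'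
    apply hcon
    intro u hu
    by_contra h''
    exact h' ⟨u, hu, h''⟩
  obtain ⟨u, hu, hne⟩ := hex
  have heP : u⁻¹ * (h * u * h⁻¹) ∈ P := mul_mem (inv_mem hu) (hconj u hu)
  have he1 : u⁻¹ * (h * u * h⁻¹) ≠ 1 := by
    intro h0
    apply hne
    have h5 : h * u * h⁻¹ = u := by
      calc h * u * h⁻¹ = u * (u⁻¹ * (h * u * h⁻¹)) := by group
        _ = u := by rw [h0, mul_one]
    calc h * u = h * u * h⁻¹ * h := by group
      _ = u * h := by rw [h5]
  obtain ⟨k2, hk2⟩ := hppow _ heP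
  obtain ⟨i2, hi2⟩ := exists_order_p_power _ k2 hk2 he1
  have hmem := Cfsg.Agent.Lead.mem_zpowers_of_orderOf_eq_prime (P := ↥P) (p := p)
    (⟨x ^ i, hx1P⟩ : ↥P) (⟨(u⁻¹ * (h * u * h⁻¹)) ^ i2, pow_mem heP i2⟩ : ↥P)
    (by rw [Subgroup.orderOf_mk]; exact hi)
    (by
      apply Subtype.ext
      show ((u⁻¹ * (h * u * h⁻¹)) ^ i2) ^ p = 1
      rw [← hi2]; exact pow_orderOf_eq_one _)
  obtain ⟨j, hj⟩ := Subgroup.mem_zpowers_iff.mp hmem
  have hj' : (x ^ i) ^ j = (u⁻¹ * (h * u * h⁻¹)) ^ i2 := by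
    have := congrArg Subtype.val hj
    simpa using this
  have hce : h * (u⁻¹ * (h * u * h⁻¹)) ^ i2 = (u⁻¹ * (h * u * h⁻¹)) ^ i2 * h := by
    rw [← hj']
    exact Commute.zpow_right (show Commute h (x ^ i) from hcx1) j
  have hu' : h * u ^ i2 * h⁻¹ = u ^ i2 * (u⁻¹ * (h * u * h⁻¹)) ^ i2 := by
    have h1 : Commute u⁻¹ (h * u * h⁻¹) := hab _ (inv_mem hu) _ (hconj u hu)
    rw [h1.mul_pow i2, conj_pow, inv_pow]
    group
  generalize hu'def : u ^ i2 = u' at hu'
  generalize he'def : (u⁻¹ * (h * u * h⁻¹)) ^ i2 = e' at hu' hce hi2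
  have hstep : ∀ n : ℕ, h ^ n * u' * (h ^ n)⁻¹ = u' * e' ^ n := by
    intro n
    induction n with
    | zero => simp
    | succ n ih =>
      have h2 : h ^ (n + 1) * u' * (h ^ (n + 1))⁻¹ = h * (h ^ n * u' * (h ^ n)⁻¹) * h⁻¹ := by
        rw [pow_succ', mul_inv_rev]; simp only [mul_assoc]
      rw [h2, ih]
      have h3 : h * (u' * e' ^ n) * h⁻¹ = (h * u' * h⁻¹) * (h * e' ^ n * h⁻¹) := by group
      rw [h3, hu']
      have h4 : h * e' ^ n * h⁻¹ = e' ^ n := by
        have hc' : Commute h (e' ^ n) := (show Commute h e' from hce).pow_right n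
        rw [hc'.eq, mul_inv_cancel_right]
      rw [h4, mul_assoc, ← pow_succ']
  have hfin := hstep (orderOf h)
  rw [pow_orderOf_eq_one] at hfin
  have he'1 : e' ^ orderOf h = 1 := by simpa using hfin
  have hdvd : p ∣ orderOf h := by
    have := orderOf_dvd_of_pow_eq_one he'1
    rwa [hi2] at this
  exact not_dvd_of_coprime hp.1 hcop hdvd

/-- If `y` normalises `P` and fixes no nonidentity element of `P`, every element of `P` is a
commutator with `y`. -/
theorem comm_surj {G : Type*} [Group G] [Finite G] (P : Subgroup G)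
    (y : G) (hn : y ∈ normalizer (P : Set G))
    (hfix : ∀ u ∈ P, y * u = u * y → u = 1) :
    ∀ u ∈ P, ∃ w ∈ P, u = w⁻¹ * (y * w * y⁻¹) := by
  have hconj : ∀ a ∈ P, y * a * y⁻¹ ∈ P := fun a ha => (Subgroup.mem_normalizer_iff.mp hn a).mp ha
  let f : ↥P → ↥P := fun w =>
    ⟨(w : G)⁻¹ * (y * (w : G) * y⁻¹), mul_mem (inv_mem w.2) (hconj _ w.2)⟩
  have hinj : Function.Injective f := by
    intro w w' hww
    have h1 : (w : G)⁻¹ * (y * (w : G) * y⁻¹) = (w' : G)⁻¹ * (y * (w' : G) * y⁻¹) :=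
      congrArg Subtype.val hww
    have h2 : y * ((w' : G) * (w : G)⁻¹) = ((w' : G) * (w : G)⁻¹) * y := by
      have h3 : y * (w' : G) * y⁻¹ = (w' : G) * ((w : G)⁻¹ * (y * (w : G) * y⁻¹)) := by
        rw [h1]; group
      calc y * ((w' : G) * (w : G)⁻¹)
          = (y * (w' : G) * y⁻¹) * (y * (w : G) * y⁻¹)⁻¹ * y := by group
        _ = ((w' : G) * (w : G)⁻¹) * y := by rw [h3]; group
    have h4 := hfix _ (mul_mem w'.2 (inv_mem w.2)) h2
    apply Subtype.ext
    exact (mul_inv_eq_one.mp h4).symm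
  have hsurj := Finite.injective_iff_surjective.mp hinj
  intro u hu
  obtain ⟨w, hw⟩ := hsurj ⟨u, hu⟩
  exact ⟨w, w.2, (congrArg Subtype.val hw).symm⟩

/-- A `p`-group acting by conjugation without nontrivial fixed points on `R`. -/
theorem card_modEq_one_of_fpf {G : Type*} [Group G] [Finite G] {p : ℕ} [hp : Fact p.Prime]
    (Q R : Subgroup G) (hQ : IsPGroup p Q) (hn : Q ≤ normalizer (R : Set G))
    (hfix : ∀ v ∈ R, (∀ q ∈ Q, q * v = v * q) → v = 1) :
    Nat.card R ≡ 1 [MOD p] := by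
  have hΓ : IsPGroup p (Q.subgroupOf (normalizer (R : Set G))) := hQ.comap_subtype
  have h1 := hΓ.card_modEq_card_fixedPoints (↥R)
  have h2 : MulAction.fixedPoints (↥(Q.subgroupOf (normalizer (R : Set G)))) ↥R = {1} := by
    ext v
    simp only [MulAction.mem_fixedPoints, Set.mem_singleton_iff]
    constructor
    · intro hv
      apply Subtype.ext
      apply hfix v.1 v.2
      intro q hq
      have h3 := hv ⟨⟨q, hn hq⟩, hq⟩
      have h4 : q * (v : G) * q⁻¹ = (v : G) := congrArg Subtype.val h3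
      calc q * (v : G) = q * (v : G) * q⁻¹ * q := by group
        _ = (v : G) * q := by rw [h4]
    · rintro rfl γ
      apply Subtype.ext
      show (γ : G) * (1 : G) * (γ : G)⁻¹ = 1
      group
  rw [h2] at h1
  simpa using h1

open scoped IsMulCommutative in
/-- An abelian Sylow subgroup with a nonidentity element central in its normaliser gives a
proper normal subgroup containing all elements of order prime to `r`. -/
theorem exists_normal_of_central_sylow {G : Type*} [Group G] [Finite G] {r : ℕ}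
    [hr : Fact r.Prime] (R : Sylow r G) [hRc : IsMulCommutative (R : Subgroup G)]
    (v : G) (hv : v ∈ (R : Subgroup G)) (hv1 : v ≠ 1)
    (hcen : ∀ n ∈ normalizer ((R : Subgroup G) : Set G), n * v = v * n) :
    ∃ M : Subgroup G, M.Normal ∧ M ≠ ⊤ ∧ ∀ x : G, (orderOf x).Coprime r → x ∈ M := by
  have key : ∀ (k : ℕ) (g₀ : G), g₀⁻¹ * v ^ k * g₀ ∈ (R : Subgroup G) →
      g₀⁻¹ * v ^ k * g₀ = v ^ k := by
    intro k g₀ hmem
    obtain ⟨n, hn, hnn⟩ := Sylow.conj_eq_normalizer_conj_of_mem R (v ^ k) g₀ (pow_mem hv k) hmem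
    rw [hnn]
    have h1 : n * v ^ k = v ^ k * n := Commute.pow_right (show Commute n v from hcen n hn) k
    rw [mul_assoc, ← h1, inv_mul_cancel_left]
  have h1 := MonoidHom.transfer_eq_pow (MonoidHom.id ↥(R : Subgroup G)) v key
  refine ⟨(MonoidHom.transfer (MonoidHom.id ↥(R : Subgroup G))).ker, inferInstance, ?_, ?_⟩
  · intro htop
    have hvM : v ∈ (MonoidHom.transfer (MonoidHom.id ↥(R : Subgroup G))).ker := by
      rw [htop]; exact Subgroup.mem_top v
    have h2 : MonoidHom.transfer (MonoidHom.id ↥(R : Subgroup G)) v = 1 := MonoidHom.mem_ker.mp hvM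
    rw [h2] at h1
    have h3 : v ^ (R : Subgroup G).index = 1 := by
      have := congrArg Subtype.val h1
      simpa using this.symm
    have h4 : orderOf v ∣ (R : Subgroup G).index := orderOf_dvd_of_pow_eq_one h3
    have h5 : orderOf v ∣ Nat.card (R : Subgroup G) := by
      have := orderOf_dvd_natCard (⟨v, hv⟩ : ↥(R : Subgroup G))
      rwa [Subgroup.orderOf_mk] at this
    have h6 : orderOf v = 1 := Nat.Coprime.eq_one_of_dvd
      (Nat.Coprime.coprime_dvd_left h5 (Sylow.card_coprime_index R)) h4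
    exact hv1 (orderOf_eq_one_iff.mp h6)
  · intro x hx
    rw [MonoidHom.mem_ker]
    have h2 : orderOf (MonoidHom.transfer (MonoidHom.id ↥(R : Subgroup G)) x) ∣ orderOf x :=
      orderOf_map_dvd _ x
    have h3 : orderOf (MonoidHom.transfer (MonoidHom.id ↥(R : Subgroup G)) x) ∣
        Nat.card (R : Subgroup G) := orderOf_dvd_natCard _
    obtain ⟨n, hn⟩ := IsPGroup.iff_card.mp R.isPGroup'
    rw [hn] at h3
    have h4 : (orderOf (MonoidHom.transfer (MonoidHom.id ↥(R : Subgroup G)) x)).Coprime (r ^ n) :=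
      Nat.Coprime.pow_right n (Nat.Coprime.coprime_dvd_left h2 hx)
    exact orderOf_eq_one_iff.mp (h4.eq_one_of_dvd h3)

theorem inv_conj_a {G : Type*} [Group G] (a b : G) (ha : a ^ 2 = 1) (hb : b ^ 2 = 1) (i : ℤ) :
    a * (a * b) ^ i * a⁻¹ = ((a * b) ^ i)⁻¹ := by
  have hainv : a⁻¹ = a := by rw [inv_eq_iff_mul_eq_one, ← sq, ha]
  have hbinv : b⁻¹ = b := by rw [inv_eq_iff_mul_eq_one, ← sq, hb]
  have h1 : a * (a * b) * a⁻¹ = (a * b)⁻¹ := by
    rw [mul_inv_rev, hainv, hbinv, ← mul_assoc, ← sq, ha, one_mul]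
  rw [← conj_zpow, h1, inv_zpow]

theorem inv_conj_b {G : Type*} [Group G] (a b : G) (ha : a ^ 2 = 1) (hb : b ^ 2 = 1) (i : ℤ) :
    b * (a * b) ^ i * b⁻¹ = ((a * b) ^ i)⁻¹ := by
  have hainv : a⁻¹ = a := by rw [inv_eq_iff_mul_eq_one, ← sq, ha]
  have hbinv : b⁻¹ = b := by rw [inv_eq_iff_mul_eq_one, ← sq, hb]
  have h1 : b * (a * b) * b⁻¹ = (a * b)⁻¹ := by
    rw [mul_inv_rev, hainv, hbinv, mul_assoc, mul_assoc, ← sq, hb, mul_one]
  rw [← conj_zpow, h1, inv_zpow]

/-- Elements of the group generated by two involutions. -/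
theorem dihedral_elts {G : Type*} [Group G] (a b : G) (ha : a ^ 2 = 1) (hb : b ^ 2 = 1) :
    ∀ g ∈ closure ({a, b} : Set G), ∃ i : ℤ, g = (a * b) ^ i ∨ g = (a * b) ^ i * a := by
  have hainv : a⁻¹ = a := by rw [inv_eq_iff_mul_eq_one, ← sq, ha]
  have hbinv : b⁻¹ = b := by rw [inv_eq_iff_mul_eq_one, ← sq, hb]
  have hconj : ∀ i : ℤ, a * (a * b) ^ i = (a * b) ^ (-i) * a := by
    intro i
    rw [zpow_neg, ← inv_conj_a a b ha hb i]
    group
  intro g hg
  induction hg using Subgroup.closure_induction with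
  | mem x hx =>
    rcases hx with rfl | hx
    · exact ⟨0, Or.inr (by simp)⟩
    · rw [Set.mem_singleton_iff] at hx
      refine ⟨-1, Or.inr ?_⟩
      rw [hx, zpow_neg, zpow_one, mul_inv_rev, hainv, hbinv, mul_assoc, ← sq, ha, mul_one]
  | one => exact ⟨0, Or.inl (by simp)⟩
  | mul x y _ _ hx hy =>
    obtain ⟨i, hi | hi⟩ := hx <;> obtain ⟨j, hj | hj⟩ := hy
    · exact ⟨i + j, Or.inl (by rw [hi, hj, zpow_add])⟩
    · exact ⟨i + j, Or.inr (by rw [hi, hj, zpow_add, mul_assoc])⟩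
    · refine ⟨i - j, Or.inr ?_⟩
      rw [hi, hj, mul_assoc, hconj, ← mul_assoc, ← zpow_add, sub_eq_add_neg]
    · refine ⟨i - j, Or.inl ?_⟩
      rw [hi, hj, mul_assoc, ← mul_assoc a, hconj, mul_assoc, ← sq, ha, mul_one, ← zpow_add,
        sub_eq_add_neg]
  | inv x _ hx =>
    obtain ⟨i, hi | hi⟩ := hx
    · exact ⟨-i, Or.inl (by rw [hi, zpow_neg])⟩
    · refine ⟨i, Or.inr ?_⟩
      rw [hi, mul_inv_rev, hainv, ← zpow_neg, hconj, neg_neg]

/-- Two non-commuting involutions invert a common element of order `p`, when `p'`-subgroups are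
abelian and `p` is odd. -/
theorem exists_inverted_of_not_comm {G : Type*} [Group G] [Finite G] (p : ℕ) [hp : Fact p.Prime]
    (hp2 : p ≠ 2)
    (hab : ∀ H : Subgroup G, ¬ p ∣ Nat.card H → IsMulCommutative H)
    (a b : G) (ha : a ^ 2 = 1) (hb : b ^ 2 = 1) (hne : a * b ≠ b * a) :
    ∃ x : G, orderOf x = p ∧ a * x * a⁻¹ = x⁻¹ ∧ b * x * b⁻¹ = x⁻¹ := by
  have hdvd : p ∣ Nat.card (closure ({a, b} : Set G)) := by
    by_contra hnd
    have h1 := hab _ hnd
    have h2 := isMulCommutative_iff.mp h1 ⟨a, subset_closure (by simp)⟩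
      ⟨b, subset_closure (by simp)⟩
    exact hne (congrArg Subtype.val h2)
  obtain ⟨x, hx⟩ := exists_prime_orderOf_dvd_card' p hdvd
  have hxo : orderOf (x : G) = p := by rw [Subgroup.orderOf_coe]; exact hx
  obtain ⟨i, hi | hi⟩ := dihedral_elts a b ha hb (x : G) x.2
  · refine ⟨(x : G), hxo, ?_, ?_⟩
    · rw [hi]; exact inv_conj_a a b ha hb i
    · rw [hi]; exact inv_conj_b a b ha hb i
  · exfalso
    have hsq : (x : G) ^ 2 = 1 := by
      rw [hi, sq]
      have h1 := inv_conj_a a b ha hb i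
      have hainv : a⁻¹ = a := by rw [inv_eq_iff_mul_eq_one, ← sq, ha]
      rw [hainv] at h1
      calc (a * b) ^ i * a * ((a * b) ^ i * a)
          = (a * b) ^ i * (a * (a * b) ^ i * a) := by simp only [mul_assoc]
        _ = 1 := by rw [h1, mul_inv_cancel]
    have h2 : p ∣ 2 := by rw [← hxo]; exact orderOf_dvd_of_pow_eq_one hsq
    exact hp2 ((Nat.prime_dvd_prime_iff_eq hp.1 Nat.prime_two).mp h2)

theorem modEq_one_of_prime_powers (p : ℕ) (m : ℕ) (hm : m ≠ 0)
    (h : ∀ r : ℕ, r.Prime → r ∣ m → r ^ (m.factorization r) ≡ 1 [MOD p]) : m ≡ 1 [MOD p] := by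
  have h1 := Nat.prod_factorization_pow_eq_self hm
  have h2 : (m.factorization.prod fun x1 x2 => x1 ^ x2) ≡ 1 [MOD p] := by
    rw [Finsupp.prod]
    apply Finset.prod_induction _ (fun x => x ≡ 1 [MOD p])
    · intro a b ha hb
      simpa using ha.mul hb
    · exact Nat.ModEq.refl 1
    · intro r hr
      rw [Nat.support_factorization] at hr
      exact h r (Nat.prime_of_mem_primeFactors hr) (Nat.dvd_of_mem_primeFactors hr)
  rwa [h1] at h2

/-- A `p`-subgroup is conjugate into a given Sylow `p`-subgroup. -/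
theorem exists_conj_mem_sylow {G : Type*} [Group G] [Finite G] {p : ℕ} [hp : Fact p.Prime]
    (P : Sylow p G) (Q : Subgroup G) (hQ : IsPGroup p Q) :
    ∃ g : G, ∀ q ∈ Q, g⁻¹ * q * g ∈ (P : Subgroup G) := by
  obtain ⟨P', hP'⟩ := hQ.exists_le_sylow
  obtain ⟨g, hg⟩ := MulAction.exists_smul_eq G P P'
  refine ⟨g, fun q hq => ?_⟩
  have h1 : q ∈ ((g • P : Sylow p G) : Subgroup G) := by rw [hg]; exact hP' hq
  rw [Sylow.coe_subgroup_smul, Subgroup.mem_pointwise_smul_iff_inv_smul_mem] at h1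
  simpa [MulAut.smul_def] using h1

theorem mulAut_prime_card {G : Type*} [Group G] [Finite G] (Z : Subgroup G) {p : ℕ}
    [hp : Fact p.Prime] (hZ : Nat.card Z = p) :
    IsCyclic (MulAut Z) ∧ Nat.card (MulAut Z) = p - 1 := by
  haveI : IsCyclic Z := isCyclic_of_prime_card hZ
  haveI : Fact (Nat.card ↥Z).Prime := ⟨by rw [hZ]; exact hp.1⟩
  refine ⟨?_, ?_⟩
  · exact isCyclic_of_surjective (IsCyclic.mulAutMulEquiv ↥Z).symm
      (IsCyclic.mulAutMulEquiv ↥Z).symm.surjective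
  · rw [IsCyclic.card_mulAut, hZ, Nat.totient_prime hp.1]

/-- A group of exponent `r` normalising a subgroup `Z` of prime order, such that an element
centralising `Z` whose `z`-conjugate also centralises `Z` is trivial, has order at most `r²`. -/
theorem card_le_sq_of_two_actions {G : Type*} [Group G] [Finite G] {p : ℕ} [hp : Fact p.Prime]
    (Z : Subgroup G) (hZ : Nat.card Z = p) (W : Subgroup G) (r : ℕ) (hr : 0 < r)
    (hW : ∀ v ∈ W, v ^ r = 1)
    (hWn : W ≤ normalizer (Z : Set G))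
    (z : G) (hz : ∀ v ∈ W, z⁻¹ * v * z ∈ W)
    (hinj : ∀ w ∈ W, (∀ u ∈ Z, w * u = u * w) →
      (∀ u ∈ Z, (z⁻¹ * w * z) * u = u * (z⁻¹ * w * z)) → w = 1) :
    Nat.card W ≤ r ^ 2 := by
  classical
  obtain ⟨hcyc, hcard⟩ := mulAut_prime_card Z hZ
  haveI := hcyc
  haveI : Finite (MulAut ↥Z) := by
    apply Nat.finite_of_card_ne_zero
    rw [hcard]
    have := hp.1.two_le
    omega
  haveI : Fintype (MulAut ↥Z) := Fintype.ofFinite _
  have hT : Nat.card {a : MulAut ↥Z // a ^ r = 1} ≤ r := by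
    rw [Nat.card_eq_fintype_card, Fintype.card_subtype]
    exact IsCyclic.card_pow_eq_one_le hr
  have hker : ∀ w : G, ∀ hw : w ∈ normalizer (Z : Set G),
      Z.normalizerMonoidHom ⟨w, hw⟩ = 1 → ∀ u ∈ Z, w * u = u * w := by
    intro w hw h1 u hu
    have h2 : (⟨w, hw⟩ : ↥(normalizer (Z : Set G))) ∈ Z.normalizerMonoidHom.ker :=
      MonoidHom.mem_ker.mpr h1
    rw [Subgroup.normalizerMonoidHom_ker, Subgroup.mem_subgroupOf] at h2
    exact (Subgroup.mem_centralizer_iff.mp h2 u hu).symm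
  have hpow : ∀ w : G, ∀ hw : w ∈ normalizer (Z : Set G), w ^ r = 1 →
      (Z.normalizerMonoidHom ⟨w, hw⟩) ^ r = 1 := by
    intro w hw h1
    rw [← map_pow]
    have : (⟨w, hw⟩ : ↥(normalizer (Z : Set G))) ^ r = 1 := Subtype.ext (by simpa using h1)
    rw [this, map_one]
  let Φ : ↥W → {a : MulAut ↥Z // a ^ r = 1} × {a : MulAut ↥Z // a ^ r = 1} := fun v =>
    (⟨Z.normalizerMonoidHom ⟨(v : G), hWn v.2⟩, hpow _ _ (hW _ v.2)⟩,
     ⟨Z.normalizerMonoidHom ⟨z⁻¹ * (v : G) * z, hWn (hz _ v.2)⟩, hpow _ _ (hW _ (hz _ v.2))⟩)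
  have hΦ : Function.Injective Φ := by
    intro v v' hvv
    have e1 : Z.normalizerMonoidHom ⟨(v : G), hWn v.2⟩ =
        Z.normalizerMonoidHom ⟨(v' : G), hWn v'.2⟩ :=
      congrArg Subtype.val (congrArg Prod.fst hvv)
    have e2 : Z.normalizerMonoidHom ⟨z⁻¹ * (v : G) * z, hWn (hz _ v.2)⟩ =
        Z.normalizerMonoidHom ⟨z⁻¹ * (v' : G) * z, hWn (hz _ v'.2)⟩ :=
      congrArg Subtype.val (congrArg Prod.snd hvv)
    have hwW : (v : G) * (v' : G)⁻¹ ∈ W := mul_mem v.2 (inv_mem v'.2)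
    have k1 : Z.normalizerMonoidHom ⟨(v : G) * (v' : G)⁻¹, hWn hwW⟩ = 1 := by
      have : (⟨(v : G) * (v' : G)⁻¹, hWn hwW⟩ : ↥(normalizer (Z : Set G))) =
          ⟨(v : G), hWn v.2⟩ * (⟨(v' : G), hWn v'.2⟩)⁻¹ := rfl
      rw [this, map_mul, map_inv, e1, mul_inv_cancel]
    have k2 : Z.normalizerMonoidHom ⟨z⁻¹ * ((v : G) * (v' : G)⁻¹) * z, hWn (hz _ hwW)⟩ = 1 := by
      have : (⟨z⁻¹ * ((v : G) * (v' : G)⁻¹) * z, hWn (hz _ hwW)⟩ : ↥(normalizer (Z : Set G))) =
          ⟨z⁻¹ * (v : G) * z, hWn (hz _ v.2)⟩ * (⟨z⁻¹ * (v' : G) * z, hWn (hz _ v'.2)⟩)⁻¹ := by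
        apply Subtype.ext
        show z⁻¹ * ((v : G) * (v' : G)⁻¹) * z = z⁻¹ * (v : G) * z * (z⁻¹ * (v' : G) * z)⁻¹
        group
      rw [this, map_mul, map_inv, e2, mul_inv_cancel]
    have h1 := hinj _ hwW (hker _ _ k1) (hker _ _ k2)
    apply Subtype.ext
    exact mul_inv_eq_one.mp h1
  calc Nat.card W ≤ Nat.card ({a : MulAut ↥Z // a ^ r = 1} × {a : MulAut ↥Z // a ^ r = 1}) :=
        Nat.card_le_card_of_injective Φ hΦ
    _ = Nat.card {a : MulAut ↥Z // a ^ r = 1} * Nat.card {a : MulAut ↥Z // a ^ r = 1} :=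
        Nat.card_prod _ _
    _ ≤ r * r := Nat.mul_le_mul hT hT
    _ = r ^ 2 := (sq r).symm

/-- An element of prime order `r` acting nontrivially on a group of prime order `p`. -/
theorem prime_dvd_pred_of_action {G : Type*} [Group G] [Finite G] {p : ℕ} [hp : Fact p.Prime]
    (Z : Subgroup G) (hZ : Nat.card Z = p) (r : ℕ) (hr : r.Prime) (v : G)
    (hv : v ∈ normalizer (Z : Set G)) (hvr : v ^ r = 1)
    (hnc : ¬ ∀ u ∈ Z, v * u = u * v) : r ∣ p - 1 := by
  obtain ⟨hcyc, hcard⟩ := mulAut_prime_card Z hZ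
  haveI : Fact r.Prime := ⟨hr⟩
  have h1 : Z.normalizerMonoidHom ⟨v, hv⟩ ≠ 1 := by
    intro h1
    apply hnc
    intro u hu
    have h2 : (⟨v, hv⟩ : ↥(normalizer (Z : Set G))) ∈ Z.normalizerMonoidHom.ker :=
      MonoidHom.mem_ker.mpr h1
    rw [Subgroup.normalizerMonoidHom_ker, Subgroup.mem_subgroupOf] at h2
    exact (Subgroup.mem_centralizer_iff.mp h2 u hu).symm
  have h2 : (Z.normalizerMonoidHom ⟨v, hv⟩) ^ r = 1 := by
    rw [← map_pow]
    have : (⟨v, hv⟩ : ↥(normalizer (Z : Set G))) ^ r = 1 := Subtype.ext (by simpa using hvr)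
    rw [this, map_one]
  have h3 : orderOf (Z.normalizerMonoidHom ⟨v, hv⟩) = r := orderOf_eq_prime h2 h1
  rw [← hcard, ← h3]
  exact orderOf_dvd_natCard _

/-- The elements of order dividing `r` in an abelian subgroup. -/
def omegaSub {G : Type*} [Group G] (R : Subgroup G)
    (hR : ∀ a ∈ R, ∀ b ∈ R, a * b = b * a) (r : ℕ) : Subgroup G where
  carrier := {v | v ∈ R ∧ v ^ r = 1}
  mul_mem' := by
    rintro a b ⟨ha, ha'⟩ ⟨hb, hb'⟩
    exact ⟨mul_mem ha hb, by rw [(show Commute a b from hR a ha b hb).mul_pow, ha', hb', one_mul]⟩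
  one_mem' := ⟨one_mem _, one_pow _⟩
  inv_mem' := by
    rintro a ⟨ha, ha'⟩
    exact ⟨inv_mem ha, by rw [inv_pow, ha', inv_one]⟩

theorem mem_omegaSub {G : Type*} [Group G] (R : Subgroup G)
    (hR : ∀ a ∈ R, ∀ b ∈ R, a * b = b * a) (r : ℕ) (v : G) :
    v ∈ omegaSub R hR r ↔ v ∈ R ∧ v ^ r = 1 := Iff.rfl

/-- Normal `p`-complement of a normal subgroup `K ⊇ P` in which `N_K(P) ≤ C_K(P)`; it is normal
in the whole group. -/
theorem exists_normal_pcompl_of_sub {G : Type*} [Group G] [Finite G] {p : ℕ} [hp : Fact p.Prime]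
    (P : Sylow p G) (K : Subgroup G) [hK : K.Normal] (hle : (P : Subgroup G) ≤ K)
    (h : ∀ x ∈ K, x ∈ normalizer ((P : Subgroup G) : Set G) →
      x ∈ centralizer ((P : Subgroup G) : Set G)) :
    ∃ M : Subgroup G, M.Normal ∧ ¬ p ∣ Nat.card M ∧
      Nat.card M * Nat.card (P : Subgroup G) = Nat.card K := by
  have hNC : normalizer (((P.subtype hle : Sylow p ↥K) : Subgroup ↥K) : Set ↥K)
      ≤ centralizer (((P.subtype hle : Sylow p ↥K) : Subgroup ↥K) : Set ↥K) := by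
    intro x hx
    have h1 : (x : G) ∈ normalizer ((P : Subgroup G) : Set G) := by
      rw [Subgroup.mem_normalizer_iff]
      intro u
      constructor
      · intro hu
        exact (Subgroup.mem_normalizer_iff.mp hx ⟨u, hle hu⟩).mp hu
      · intro hu
        have huK : u ∈ K := by
          have : u = (x : G)⁻¹ * ((x : G) * u * (x : G)⁻¹) * (x : G) := by group
          rw [this]
          exact K.mul_mem (K.mul_mem (K.inv_mem x.2) (hle hu)) x.2
        exact (Subgroup.mem_normalizer_iff.mp hx ⟨u, huK⟩).mpr hu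
    have h2 := h x.1 x.2 h1
    rw [Subgroup.mem_centralizer_iff]
    intro u hu
    have h3 := Subgroup.mem_centralizer_iff.mp h2 u.1 hu
    exact Subtype.ext h3
  obtain ⟨M', hM'n, hM'c⟩ := (Cfsg.Agent.Lead.hasNormalPComplement_iff (P.subtype hle)).mp
    (Cfsg.Agent.Lead.burnside_npc (P.subtype hle) hNC)
  haveI := hM'n
  have hcardP : Nat.card ((P.subtype hle : Sylow p ↥K) : Subgroup ↥K) =
      Nat.card (P : Subgroup G) :=
    Nat.card_congr (Subgroup.subgroupOfEquivOfLe hle).toEquiv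
  have hmul : Nat.card M' * Nat.card ((P.subtype hle : Sylow p ↥K) : Subgroup ↥K) =
      Nat.card ↥K := hM'c.card_mul_card
  have hidx : M'.index = Nat.card ((P.subtype hle : Sylow p ↥K) : Subgroup ↥K) := by
    have := M'.card_mul_index
    rw [← hmul] at this
    exact Nat.eq_of_mul_eq_mul_left Nat.card_pos this
  have hcop : ¬ p ∣ Nat.card M' := by
    have h1 := ((P.subtype hle : Sylow p ↥K) : Subgroup ↥K).card_mul_index
    have h3 : Nat.card ((P.subtype hle : Sylow p ↥K) : Subgroup ↥K) *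
        ((P.subtype hle : Sylow p ↥K) : Subgroup ↥K).index =
        Nat.card ((P.subtype hle : Sylow p ↥K) : Subgroup ↥K) * Nat.card M' := by
      rw [h1, ← hmul, mul_comm]
    rw [← Nat.eq_of_mul_eq_mul_left Nat.card_pos h3]
    exact (P.subtype hle).not_dvd_index
  refine ⟨M'.map K.subtype, ?_, ?_, ?_⟩
  · constructor
    intro m hm g
    obtain ⟨m', hm', rfl⟩ := hm
    have hgK : g * (m' : G) * g⁻¹ ∈ K := hK.conj_mem _ m'.2 g
    refine ⟨⟨g * (m' : G) * g⁻¹, hgK⟩, ?_, rfl⟩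
    apply mem_of_coprime_index M'
    rw [hidx]
    have ho : orderOf (⟨g * (m' : G) * g⁻¹, hgK⟩ : ↥K) = orderOf m' := by
      rw [Subgroup.orderOf_mk, ← Subgroup.orderOf_coe m']
      exact orderOf_injective (MulAut.conj g).toMonoidHom (MulAut.conj g).injective (m' : G)
    rw [ho]
    obtain ⟨n, hn⟩ := IsPGroup.iff_card.mp (P.subtype hle).isPGroup'
    rw [hn]
    have h1 : orderOf m' ∣ Nat.card M' := by
      have := orderOf_dvd_natCard (⟨m', hm'⟩ : ↥M')
      rwa [Subgroup.orderOf_mk] at this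
    have h2 : (Nat.card M').Coprime p := coprime_of_not_dvd hp.1 hcop
    exact Nat.Coprime.pow_left n (Nat.Coprime.coprime_dvd_left h1 h2).symm
  · rw [Subgroup.card_map_of_injective K.subtype_injective]
    exact hcop
  · rw [Subgroup.card_map_of_injective K.subtype_injective, ← hcardP]
    exact hmul

end Cfsg.Agent.Helper23.Cyc
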