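import Mathlib
import Cfsg.Agent.Helper23.CycBasic

set_option autoImplicit false

namespace Cfsg.Agent.Helper23.Cyc

open Subgroup

theorem mem_normalizer_of_conj_mem' {G : Type*} [Group G] (H : Subgroup G) [Finite H] (g : G)
    (h : ∀ u ∈ H, g * u * g⁻¹ ∈ H) : g ∈ normalizer (H : Set G) := by
  let f : ↥H → ↥H := fun u => ⟨g * (u : G) * g⁻¹, h _ u.2⟩
  have hinj : Function.Injective f := by
    intro a b hab'
    have h1 : g * (a : G) * g⁻¹ = g * (b : G) * g⁻¹ := congrArg Subtype.val hab'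
    apply Subtype.ext
    exact mul_left_cancel (mul_right_cancel h1)
  have hsurj := Finite.injective_iff_surjective.mp hinj
  rw [Subgroup.mem_normalizer_iff]
  intro u
  constructor
  · intro hu
    exact h u hu
  · intro hu
    obtain ⟨w, hw⟩ := hsurj ⟨g * u * g⁻¹, hu⟩
    have h1 : g * (w : G) * g⁻¹ = g * u * g⁻¹ := congrArg Subtype.val hw
    have h2 : (w : G) = u := mul_left_cancel (mul_right_cancel h1)
    rw [← h2]
    exact w.2

theorem conjN {G : Type*} [Group G] (H : Subgroup G) (n : G)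
    (hn : n ∈ normalizer (H : Set G)) : ∀ a ∈ H, n * a * n⁻¹ ∈ H :=
  fun a ha => (Subgroup.mem_normalizer_iff.mp hn a).mp ha

theorem conjN' {G : Type*} [Group G] (H : Subgroup G) (n : G)
    (hn : n ∈ normalizer (H : Set G)) : ∀ a ∈ H, n⁻¹ * a * n ∈ H := by
  intro a ha
  have h1 := conjN H n⁻¹ (inv_mem hn) a ha
  rwa [inv_inv] at h1

theorem cyc_comm {G : Type*} [Group G] (P : Subgroup G) [IsCyclic P] :
    ∀ a ∈ P, ∀ b ∈ P, a * b = b * a := by
  intro a ha b hb
  obtain ⟨g, hg⟩ := IsCyclic.exists_generator (α := ↥P)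
  obtain ⟨m, hm⟩ := Subgroup.mem_zpowers_iff.mp (hg ⟨a, ha⟩)
  obtain ⟨n, hn'⟩ := Subgroup.mem_zpowers_iff.mp (hg ⟨b, hb⟩)
  have h1 : (⟨a, ha⟩ : ↥P) * ⟨b, hb⟩ = ⟨b, hb⟩ * ⟨a, ha⟩ := by
    rw [← hm, ← hn', ← zpow_add, ← zpow_add, add_comm]
  exact congrArg Subtype.val h1

theorem sylow_ppow {G : Type*} [Group G] {p : ℕ} (P : Sylow p G) :
    ∀ a ∈ (P : Subgroup G), ∃ k : ℕ, a ^ p ^ k = 1 := by
  intro a ha
  obtain ⟨k, hk⟩ := P.isPGroup' ⟨a, ha⟩
  exact ⟨k, by simpa using congrArg Subtype.val hk⟩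

theorem coprime_orderOf_of_mem {G : Type*} [Group G] [Finite G] {p : ℕ} [hp : Fact p.Prime]
    (K : Subgroup G) (hK : ¬ p ∣ Nat.card K) (k : G) (hk : k ∈ K) : (orderOf k).Coprime p := by
  have h1 : orderOf k ∣ Nat.card K := by
    have := orderOf_dvd_natCard (⟨k, hk⟩ : ↥K)
    rwa [Subgroup.orderOf_mk] at this
  exact Nat.Coprime.coprime_dvd_left h1 (coprime_of_not_dvd hp.1 hK)

theorem orderOf_conj'' {G : Type*} [Group G] (g v : G) : orderOf (g * v * g⁻¹) = orderOf v := by
  have := orderOf_conj' g⁻¹ v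
  rwa [inv_inv] at this

theorem coprime_of_pow_prime_eq_one {G : Type*} [Group G] {p r : ℕ} (hp : p.Prime) (hr : r.Prime)
    (hrp : r ≠ p) (w : G) (hw : w ^ r = 1) : (orderOf w).Coprime p := by
  have h1 : orderOf w ∣ r := orderOf_dvd_of_pow_eq_one hw
  have h2 : r.Coprime p := (Nat.coprime_primes hr hp).mpr hrp
  exact Nat.Coprime.coprime_dvd_left h1 h2

theorem mem_zpowers_of_order_p {G : Type*} [Group G] [Finite G] {p : ℕ} [hp : Fact p.Prime]
    (P : Subgroup G) [IsCyclic P] (a b : G) (ha : a ∈ P) (hb : b ∈ P) (hao : orderOf a = p)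
    (hbp : b ^ p = 1) : b ∈ zpowers a := by
  have hmem := Cfsg.Agent.Lead.mem_zpowers_of_orderOf_eq_prime (P := ↥P) (p := p)
    (⟨a, ha⟩ : ↥P) (⟨b, hb⟩ : ↥P) (by rw [Subgroup.orderOf_mk]; exact hao)
    (by
      apply Subtype.ext
      show b ^ p = 1
      exact hbp)
  obtain ⟨j, hj⟩ := Subgroup.mem_zpowers_iff.mp hmem
  have hj' : a ^ j = b := by
    have := congrArg Subtype.val hj
    simpa using this
  rw [← hj']
  exact zpow_mem (mem_zpowers a) j

theorem centralizer_normal_of_normal {G : Type*} [Group G] (Z : Subgroup G) [hZ : Z.Normal] :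
    (centralizer (Z : Set G)).Normal := by
  constructor
  intro c hc g
  rw [Subgroup.mem_centralizer_iff] at hc ⊢
  intro u hu
  have hu' : g⁻¹ * u * g ∈ Z := by
    have := hZ.conj_mem u hu g⁻¹
    rwa [inv_inv] at this
  have h3 := hc (g⁻¹ * u * g) hu'
  calc u * (g * c * g⁻¹) = g * ((g⁻¹ * u * g) * c) * g⁻¹ := by group
    _ = g * (c * (g⁻¹ * u * g)) * g⁻¹ := by rw [h3]
    _ = g * c * g⁻¹ * u := by group

/-- `p`-complement of a subgroup `K ⊇ P` in which `N_K(P) ≤ C_K(P)`: it contains all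
`p'`-elements of `K`. -/
theorem exists_pcompl_of_sub {G : Type*} [Group G] [Finite G] {p : ℕ} [hp : Fact p.Prime]
    (P : Sylow p G) (K : Subgroup G) (hle : (P : Subgroup G) ≤ K)
    (h : ∀ x ∈ K, x ∈ normalizer ((P : Subgroup G) : Set G) →
      x ∈ centralizer ((P : Subgroup G) : Set G)) :
    ∃ M : Subgroup G, M ≤ K ∧ ¬ p ∣ Nat.card M ∧
      ∀ x ∈ K, (orderOf x).Coprime p → x ∈ M := by
  have hNC : normalizer (((P.subtype hle : Sylow p ↥K) : Subgroup ↥K) : Set ↥K)
      ≤ centralizer (((P.subtype hle : Sylow p ↥K) : Subgroup ↥K) : Set ↥K) := by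
    intro x hx
    have h1 : (x : G) ∈ normalizer ((P : Subgroup G) : Set G) := by
      apply mem_normalizer_of_conj_mem'
      intro u hu
      exact (Subgroup.mem_normalizer_iff.mp hx ⟨u, hle hu⟩).mp hu
    have h2 := h x.1 x.2 h1
    rw [Subgroup.mem_centralizer_iff]
    intro u hu
    have h3 := Subgroup.mem_centralizer_iff.mp h2 u.1 hu
    exact Subtype.ext h3
  obtain ⟨M', hM'n, hM'c⟩ := (Cfsg.Agent.Lead.hasNormalPComplement_iff (P.subtype hle)).mp
    (Cfsg.Agent.Lead.burnside_npc (P.subtype hle) hNC)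
  haveI := hM'n
  have hmul : Nat.card M' * Nat.card ((P.subtype hle : Sylow p ↥K) : Subgroup ↥K) =
      Nat.card ↥K := hM'c.card_mul_card
  have hidx : M'.index = Nat.card ((P.subtype hle : Sylow p ↥K) : Subgroup ↥K) := by
    have := M'.card_mul_index
    rw [← hmul] at this
    exact Nat.eq_of_mul_eq_mul_left Nat.card_pos this
  have hcop : ¬ p ∣ Nat.card M' := by
    have h1 := ((P.subtype hle : Sylow p ↥K) : Subgroup ↥K).card_mul_index
    have h3 : Nat.card ((P.subtype hle : Sylow p ↥K) : Subgroup ↥K) *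
        ((P.subtype hle : Sylow p ↥K) : Subgroup ↥K).index =
        Nat.card ((P.subtype hle : Sylow p ↥K) : Subgroup ↥K) * Nat.card M' := by
      rw [h1, ← hmul, mul_comm]
    rw [← Nat.eq_of_mul_eq_mul_left Nat.card_pos h3]
    exact (P.subtype hle).not_dvd_index
  refine ⟨M'.map K.subtype, ?_, ?_, ?_⟩
  · intro m hm
    obtain ⟨m', _, hm'⟩ := Subgroup.mem_map.mp hm
    rw [← hm']
    exact m'.2
  · rw [Subgroup.card_map_of_injective K.subtype_injective]
    exact hcop
  · intro x hx hxc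
    refine Subgroup.mem_map.mpr ⟨⟨x, hx⟩, ?_, rfl⟩
    apply mem_of_coprime_index M'
    rw [hidx, Subgroup.orderOf_mk]
    obtain ⟨n, hn⟩ := IsPGroup.iff_card.mp (P.subtype hle).isPGroup'
    rw [hn]
    exact Nat.Coprime.pow_left n hxc.symm

/-- `p'`-elements centralising an abelian Sylow `p`-subgroup `P` are central in `N_G(P)`. -/
theorem pcent_central {G : Type*} [Group G] [Finite G] {p : ℕ} [hp : Fact p.Prime]
    (P : Sylow p G) (hPab : ∀ a ∈ (P : Subgroup G), ∀ b ∈ (P : Subgroup G), a * b = b * a)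
    (hab : ∀ H : Subgroup G, ¬ p ∣ Nat.card H → IsMulCommutative H)
    (w : G) (hw : ∀ u ∈ (P : Subgroup G), w * u = u * w) (hwc : (orderOf w).Coprime p)
    (n : G) (hn : n ∈ normalizer ((P : Subgroup G) : Set G)) : n * w = w * n := by
  have hle : (P : Subgroup G) ≤ centralizer ((P : Subgroup G) : Set G) := by
    intro a ha
    rw [Subgroup.mem_centralizer_iff]
    intro b hb
    exact hPab b hb a ha
  obtain ⟨M, hMle, hMp, hMall⟩ := exists_pcompl_of_sub P
    (centralizer ((P : Subgroup G) : Set G)) hle (fun x hx _ => hx)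
  have hwC : w ∈ centralizer ((P : Subgroup G) : Set G) := by
    rw [Subgroup.mem_centralizer_iff]
    intro b hb
    exact (hw b hb).symm
  have hwM : w ∈ M := hMall w hwC hwc
  have hnorm : ∀ g ∈ normalizer ((P : Subgroup G) : Set G), g ∈ normalizer (M : Set G) := by
    intro g hg
    apply mem_normalizer_of_conj_mem'
    intro k hk
    apply hMall
    · rw [Subgroup.mem_centralizer_iff]
      intro b hb
      have hkC := Subgroup.mem_centralizer_iff.mp (hMle hk)
      have hb' : g⁻¹ * b * g ∈ (P : Subgroup G) := conjN' _ g hg b hb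
      have h3 := hkC (g⁻¹ * b * g) hb'
      calc b * (g * k * g⁻¹) = g * ((g⁻¹ * b * g) * k) * g⁻¹ := by group
        _ = g * (k * (g⁻¹ * b * g)) * g⁻¹ := by rw [h3]
        _ = g * k * g⁻¹ * b := by group
    · rw [orderOf_conj'']
      exact coprime_orderOf_of_mem M hMp k hk
  obtain ⟨c, a, k, hc, ha, hnca, hck, hac⟩ := Cfsg.Agent.Lead.exists_p_decomp p n
  have hcN : c ∈ normalizer ((P : Subgroup G) : Set G) := by
    obtain ⟨i, hi⟩ := Subgroup.mem_zpowers_iff.mp hc
    rw [← hi]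
    exact zpow_mem hn i
  have haN : a ∈ normalizer ((P : Subgroup G) : Set G) := by
    obtain ⟨i, hi⟩ := Subgroup.mem_zpowers_iff.mp ha
    rw [← hi]
    exact zpow_mem hn i
  have hcP : c ∈ (P : Subgroup G) := Cfsg.Agent.Lead.mem_sylow_of_mem_normalizer P c k hck hcN
  have h1 : c * w = w * c := (hw c hcP).symm
  have h2 : a * w = w * a := comm_of_pprime p hab M hMp a hac (hnorm a haN) w hwM
  calc n * w = c * (a * w) := by rw [hnca, mul_assoc]
    _ = c * (w * a) := by rw [h2]
    _ = (c * w) * a := by rw [mul_assoc]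
    _ = (w * c) * a := by rw [h1]
    _ = w * n := by rw [hnca, mul_assoc]

theorem hab_subgroup {G : Type*} [Group G] [Finite G] (p : ℕ)
    (hab : ∀ H : Subgroup G, ¬ p ∣ Nat.card H → IsMulCommutative H) (H : Subgroup G) :
    ∀ K : Subgroup ↥H, ¬ p ∣ Nat.card K → IsMulCommutative K := by
  intro K hK
  have h1 : ¬ p ∣ Nat.card (K.map H.subtype) := by
    rw [Subgroup.card_map_of_injective H.subtype_injective]
    exact hK
  have h2 := hab _ h1
  refine isMulCommutative_iff.mpr (fun a b => ?_)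
  have h3 := isMulCommutative_iff.mp h2 ⟨a.1.1, Subgroup.mem_map.mpr ⟨a.1, a.2, rfl⟩⟩
    ⟨b.1.1, Subgroup.mem_map.mpr ⟨b.1, b.2, rfl⟩⟩
  have h4 : a.1.1 * b.1.1 = b.1.1 * a.1.1 := congrArg Subtype.val h3
  apply Subtype.ext
  apply Subtype.ext
  exact h4

theorem hab_quotient {G : Type*} [Group G] [Finite G] (p : ℕ) [hp : Fact p.Prime]
    (hab : ∀ H : Subgroup G, ¬ p ∣ Nat.card H → IsMulCommutative H) (K : Subgroup G) [K.Normal]
    (hK : ¬ p ∣ Nat.card K) :
    ∀ L : Subgroup (G ⧸ K), ¬ p ∣ Nat.card L → IsMulCommutative L := by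
  intro L hL
  have h1 : (L.comap (QuotientGroup.mk' K)).index = L.index := by
    apply Subgroup.index_comap_of_surjective
    exact QuotientGroup.mk'_surjective K
  have h2 := (L.comap (QuotientGroup.mk' K)).card_mul_index
  have h3 := L.card_mul_index
  have h4 := Subgroup.card_eq_card_quotient_mul_card_subgroup K
  have hpos : 0 < L.index := Nat.pos_of_ne_zero Subgroup.index_ne_zero_of_finite
  have h5 : Nat.card (L.comap (QuotientGroup.mk' K)) = Nat.card L * Nat.card K := by
    apply Nat.eq_of_mul_eq_mul_right hpos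
    calc Nat.card (L.comap (QuotientGroup.mk' K)) * L.index
        = Nat.card (L.comap (QuotientGroup.mk' K)) * (L.comap (QuotientGroup.mk' K)).index := by
          rw [h1]
      _ = Nat.card G := h2
      _ = Nat.card (G ⧸ K) * Nat.card K := h4
      _ = (Nat.card L * L.index) * Nat.card K := by rw [h3]
      _ = (Nat.card L * Nat.card K) * L.index := by ring
  have h6 : ¬ p ∣ Nat.card (L.comap (QuotientGroup.mk' K)) := by
    rw [h5]
    intro hd
    rcases (Nat.Prime.dvd_mul hp.1).mp hd with hd | hd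
    · exact hL hd
    · exact hK hd
  have h7 := hab _ h6
  refine isMulCommutative_iff.mpr (fun a b => ?_)
  obtain ⟨x, hx⟩ := QuotientGroup.mk'_surjective K (a : G ⧸ K)
  obtain ⟨x', hx'⟩ := QuotientGroup.mk'_surjective K (b : G ⧸ K)
  have hxL : x ∈ L.comap (QuotientGroup.mk' K) := by
    rw [Subgroup.mem_comap, hx]; exact a.2
  have hx'L : x' ∈ L.comap (QuotientGroup.mk' K) := by
    rw [Subgroup.mem_comap, hx']; exact b.2
  have h8 := isMulCommutative_iff.mp h7 ⟨x, hxL⟩ ⟨x', hx'L⟩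
  have h9 : x * x' = x' * x := congrArg Subtype.val h8
  apply Subtype.ext
  show (a : G ⧸ K) * (b : G ⧸ K) = (b : G ⧸ K) * (a : G ⧸ K)
  rw [← hx, ← hx', ← map_mul, ← map_mul, h9]

theorem arith_p3 (p r d : ℕ) (hp : p.Prime) (hr : r.Prime) (hrd : r ∣ p - 1)
    (h1 : r ^ d ≡ 1 [MOD p]) (h2 : r ^ d ≤ r ^ 2) (h3 : 1 < r ^ d) :
    p = 3 ∧ r = 2 ∧ d = 2 := by
  have hp2 := hp.two_le
  have hr2 := hr.two_le
  have hrp : r < p := by
    have : r ≤ p - 1 := Nat.le_of_dvd (by omega) hrd
    omega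
  have hd2 : d ≤ 2 := by
    by_contra hcon
    have hcon' : 2 < d := by omega
    have : r ^ 2 < r ^ d := Nat.pow_lt_pow_right hr.one_lt hcon'
    omega
  have hd0 : d ≠ 0 := by
    intro h0
    rw [h0, pow_zero] at h3
    omega
  have hd1 : 1 ≤ d := Nat.one_le_iff_ne_zero.mpr hd0
  have hpd : p ∣ r ^ d - 1 := (Nat.modEq_iff_dvd' h3.le).mp h1.symm
  interval_cases d
  · exfalso
    rw [pow_one] at hpd
    have : p ≤ r - 1 := Nat.le_of_dvd (by omega) hpd
    omega
  · have hfac : r ^ 2 - 1 = (r - 1) * (r + 1) := by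
      obtain ⟨s, hs⟩ : ∃ s, r = s + 1 := ⟨r - 1, by omega⟩
      rw [hs]
      have e1 : (s + 1) ^ 2 = s * (s + 1 + 1) + 1 := by ring
      rw [e1, Nat.add_sub_cancel, Nat.add_sub_cancel]
    rw [hfac] at hpd
    rcases (Nat.Prime.dvd_mul hp).mp hpd with h | h
    · exfalso
      have : p ≤ r - 1 := Nat.le_of_dvd (by omega) h
      omega
    · have hle : p ≤ r + 1 := Nat.le_of_dvd (by omega) h
      have hpr : p = r + 1 := by omega
      have hr2' : r = 2 := by
        rcases hr.eq_two_or_odd with h2' | hodd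
        · exact h2'
        · exfalso
          rcases hp.eq_two_or_odd with hp2' | hpodd
          · omega
          · omega
      exact ⟨by omega, hr2', rfl⟩

/-- The common centraliser of two elements. -/
def cent2 {G : Type*} [Group G] (a b : G) : Subgroup G where
  carrier := {g | g * a = a * g ∧ g * b = b * g}
  mul_mem' := by
    rintro g h ⟨h1, h2⟩ ⟨h3, h4⟩
    exact ⟨(Commute.mul_left (show Commute g a from h1) (show Commute h a from h3)).eq,
      (Commute.mul_left (show Commute g b from h2) (show Commute h b from h4)).eq⟩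
  one_mem' := ⟨(Commute.one_left a).eq, (Commute.one_left b).eq⟩
  inv_mem' := by
    rintro g ⟨h1, h2⟩
    exact ⟨(Commute.inv_left (show Commute g a from h1)).eq,
      (Commute.inv_left (show Commute g b from h2)).eq⟩

theorem mem_cent2 {G : Type*} [Group G] (a b g : G) :
    g ∈ cent2 a b ↔ g * a = a * g ∧ g * b = b * g := Iff.rfl

theorem no_four_of_card_le {G : Type*} [Group G] [Finite G] (W : Subgroup G)
    (hW4 : Nat.card W ≤ 4) (a b c d : G) (ha : a ∈ W) (hb : b ∈ W) (hc : c ∈ W) (hd : d ∈ W)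
    (ha1 : a ≠ 1) (hb1 : b ≠ 1) (hc1 : c ≠ 1) (hd1 : d ≠ 1)
    (hab' : a ≠ b) (hac : a ≠ c) (had : a ≠ d) (hbc : b ≠ c) (hbd : b ≠ d) (hcd : c ≠ d) :
    False := by
  classical
  have h1 : c ∉ ({d} : Finset G) := by simp [hcd]
  have h2 : b ∉ ({c, d} : Finset G) := by simp [hbc, hbd]
  have h3 : a ∉ ({b, c, d} : Finset G) := by simp [hab', hac, had]
  have h4 : (1 : G) ∉ ({a, b, c, d} : Finset G) := by
    simp [ha1.symm, hb1.symm, hc1.symm, hd1.symm]
  have hcard5 : ({1, a, b, c, d} : Finset G).card = 5 := by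
    rw [Finset.card_insert_of_notMem h4, Finset.card_insert_of_notMem h3,
      Finset.card_insert_of_notMem h2, Finset.card_insert_of_notMem h1, Finset.card_singleton]
  have hsub : (({1, a, b, c, d} : Finset G) : Set G) ⊆ (W : Set G) := by
    intro x hx
    have hx' : x ∈ ({1, a, b, c, d} : Finset G) := Finset.mem_coe.mp hx
    simp only [Finset.mem_insert, Finset.mem_singleton] at hx'
    rcases hx' with h | h | h | h | h
    · rw [h]; exact W.one_mem
    · rw [h]; exact ha
    · rw [h]; exact hb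
    · rw [h]; exact hc
    · rw [h]; exact hd
  have h5 := Set.ncard_le_ncard hsub (Set.toFinite _)
  rw [Set.ncard_coe_finset, hcard5] at h5
  have h6 : Nat.card ↥W = (W : Set G).ncard := Nat.card_coe_set_eq (W : Set G)
  omega

end Cfsg.Agent.Helper23.Cyc
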