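import Mathlib
import Cfsg.Agent.Helper23.CycA

set_option autoImplicit false

universe u

namespace Cfsg.Agent.Helper23.Cyc

open Subgroup

/-- The statement proved by induction on the group order. -/
def CycStmt (p : ℕ) [Fact p.Prime] (G : Type u) [Group G] [Finite G] : Prop :=
  ∀ P : Sylow p G, IsCyclic (P : Subgroup G) →
    (∀ H : Subgroup G, ¬ p ∣ Nat.card H → IsMulCommutative H) →
    normalizer ((P : Subgroup G) : Set G) ≤ centralizer ((P : Subgroup G) : Set G) ∨
      (P : Subgroup G).Normal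

/-- Data of a minimal counterexample. -/
structure MinCE (p : ℕ) [Fact p.Prime] (G : Type u) [Group G] [Finite G] (P : Sylow p G)
    (y x₁ : G) : Prop where
  ih : ∀ (H : Type u) [Group H] [Finite H], Nat.card H < Nat.card G → CycStmt p H
  cyc : IsCyclic (P : Subgroup G)
  hab : ∀ H : Subgroup G, ¬ p ∣ Nat.card H → IsMulCommutative H
  nn : ¬ (P : Subgroup G).Normal
  yN : y ∈ normalizer ((P : Subgroup G) : Set G)
  ycop : (orderOf y).Coprime p
  yfix : ∀ u ∈ (P : Subgroup G), y * u = u * y → u = 1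
  x₁P : x₁ ∈ (P : Subgroup G)
  x₁ord : orderOf x₁ = p

namespace MinCE

variable {p : ℕ} [hp : Fact p.Prime] {G : Type u} [Group G] [Finite G] {P : Sylow p G} {y x₁ : G}

theorem x₁ne (h : MinCE p G P y x₁) : x₁ ≠ 1 := by
  intro h1
  have h2 := h.x₁ord
  rw [h1, orderOf_one] at h2
  exact hp.1.one_lt.ne h2

theorem x₁pow (h : MinCE p G P y x₁) : x₁ ^ p = 1 := by
  have := pow_orderOf_eq_one x₁
  rwa [h.x₁ord] at this

theorem Pab (h : MinCE p G P y x₁) :
    ∀ a ∈ (P : Subgroup G), ∀ b ∈ (P : Subgroup G), a * b = b * a :=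
  haveI := h.cyc
  cyc_comm (P : Subgroup G)

theorem ync (h : MinCE p G P y x₁) : y * x₁ ≠ x₁ * y :=
  fun h1 => h.x₁ne (h.yfix x₁ h.x₁P h1)

/-- `p'`-elements of the normaliser commuting with a nonidentity element of `P` centralise `P`. -/
theorem centP (h : MinCE p G P y x₁) (c : G) (hc : c ∈ normalizer ((P : Subgroup G) : Set G))
    (hcop : (orderOf c).Coprime p) (x : G) (hx : x ∈ (P : Subgroup G)) (hx1 : x ≠ 1)
    (hcomm : c * x = x * c) : ∀ u ∈ (P : Subgroup G), c * u = u * c :=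
  haveI := h.cyc
  cyc_centralize (P : Subgroup G) P.isPGroup' c hc hcop x hx hx1 hcomm

theorem sub_cases (h : MinCE p G P y x₁) (H : Subgroup G) (hle : (P : Subgroup G) ≤ H)
    (hH : H ≠ ⊤) :
    (∀ x ∈ H, x ∈ normalizer ((P : Subgroup G) : Set G) →
        ∀ u ∈ (P : Subgroup G), x * u = u * x) ∨
      H ≤ normalizer ((P : Subgroup G) : Set G) := by
  have hlt : Nat.card H < Nat.card G :=
    lt_of_le_of_ne (Subgroup.card_le_card_group H)
      (fun hh => hH ((Subgroup.card_eq_iff_eq_top H).mp hh))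
  have hcycH : IsCyclic ((P.subtype hle : Sylow p ↥H) : Subgroup ↥H) := by
    haveI := h.cyc
    exact isCyclic_of_surjective (Subgroup.subgroupOfEquivOfLe hle).symm
      (Subgroup.subgroupOfEquivOfLe hle).symm.surjective
  rcases h.ih ↥H hlt (P.subtype hle) hcycH (hab_subgroup p h.hab H) with h1 | h1
  · left
    intro x hx hxN u hu
    have hxN' : (⟨x, hx⟩ : ↥H) ∈
        normalizer (((P.subtype hle : Sylow p ↥H) : Subgroup ↥H) : Set ↥H) := by
      apply mem_normalizer_of_conj_mem'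
      intro v hv
      exact (Subgroup.mem_normalizer_iff.mp hxN (v : G)).mp hv
    have h2 := Subgroup.mem_centralizer_iff.mp (h1 hxN') ⟨u, hle hu⟩ hu
    exact (congrArg Subtype.val h2).symm
  · right
    exact (Subgroup.normal_subgroupOf_iff_le_normalizer hle).mp h1

theorem sub_le_of_y (h : MinCE p G P y x₁) (H : Subgroup G) (hle : (P : Subgroup G) ≤ H)
    (hH : H ≠ ⊤) (hy : y ∈ H) : H ≤ normalizer ((P : Subgroup G) : Set G) := by
  rcases h.sub_cases H hle hH with h1 | h1
  · exact absurd (h1 y hy h.yN x₁ h.x₁P) h.ync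
  · exact h1

/-- (SQ) There is no nontrivial normal `p'`-subgroup. -/
theorem no_normal_pprime (h : MinCE p G P y x₁) (K : Subgroup G) [hKn : K.Normal]
    (hK : ¬ p ∣ Nat.card K) : K = ⊥ := by
  by_contra hKbot
  have hPab := h.Pab
  have hppow := sylow_ppow P
  have hPK : ∀ e ∈ (P : Subgroup G), e ∈ K → e = 1 := by
    intro e heP heK
    obtain ⟨k, hk⟩ := hppow e heP
    exact eq_one_of_ppow_of_coprime e k hk (coprime_orderOf_of_mem K hK e heK)
  have hlt : Nat.card (G ⧸ K) < Nat.card G := by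
    have h1 := Subgroup.card_eq_card_quotient_mul_card_subgroup K
    have h2 : 1 < Nat.card K := (Subgroup.one_lt_card_iff_ne_bot K).mpr hKbot
    have h3 : 0 < Nat.card (G ⧸ K) := Nat.card_pos
    rw [h1]
    nlinarith [h2, h3]
  have hsurj := QuotientGroup.mk'_surjective K
  have hcycQ : IsCyclic ((P.mapSurjective hsurj : Sylow p (G ⧸ K)) : Subgroup (G ⧸ K)) := by
    haveI := h.cyc
    exact isCyclic_of_surjective ((QuotientGroup.mk' K).subgroupMap (P : Subgroup G))
      ((QuotientGroup.mk' K).subgroupMap_surjective (P : Subgroup G))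
  rcases h.ih (G ⧸ K) hlt (P.mapSurjective hsurj) hcycQ (hab_quotient p h.hab K hK) with h1 | h1
  · -- `y` centralises `P` modulo `K`
    have hyN' : (QuotientGroup.mk' K y) ∈ normalizer
        (((P.mapSurjective hsurj : Sylow p (G ⧸ K)) : Subgroup (G ⧸ K)) : Set (G ⧸ K)) := by
      apply mem_normalizer_of_conj_mem'
      intro ū hū
      have hū' : ū ∈ (P : Subgroup G).map (QuotientGroup.mk' K) := hū
      obtain ⟨u, hu, huū⟩ := Subgroup.mem_map.mp hū'
      have hgoal : QuotientGroup.mk' K y * ū * (QuotientGroup.mk' K y)⁻¹ ∈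
          (P : Subgroup G).map (QuotientGroup.mk' K) := by
        refine Subgroup.mem_map.mpr ⟨y * u * y⁻¹, conjN _ y h.yN u hu, ?_⟩
        rw [map_mul, map_mul, map_inv, huū]
      exact hgoal
    have hyC := Subgroup.mem_centralizer_iff.mp (h1 hyN')
    apply h.ync
    have hx₁mem : QuotientGroup.mk' K x₁ ∈ (P : Subgroup G).map (QuotientGroup.mk' K) :=
      Subgroup.mem_map.mpr ⟨x₁, h.x₁P, rfl⟩
    have h2 : QuotientGroup.mk' K x₁ * QuotientGroup.mk' K y =
        QuotientGroup.mk' K y * QuotientGroup.mk' K x₁ := hyC (QuotientGroup.mk' K x₁) hx₁mem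
    have h3 : QuotientGroup.mk' K (x₁⁻¹ * (y * x₁ * y⁻¹)) = 1 := by
      have e : QuotientGroup.mk' K (x₁⁻¹ * (y * x₁ * y⁻¹)) =
          (QuotientGroup.mk' K x₁)⁻¹ * (QuotientGroup.mk' K y * QuotientGroup.mk' K x₁) *
            (QuotientGroup.mk' K y)⁻¹ := by
        simp only [map_mul, map_inv, mul_assoc]
      rw [e, ← h2]
      group
    have h4 : x₁⁻¹ * (y * x₁ * y⁻¹) ∈ K := by
      have h4' : x₁⁻¹ * (y * x₁ * y⁻¹) ∈ (QuotientGroup.mk' K).ker := MonoidHom.mem_ker.mpr h3
      rwa [QuotientGroup.ker_mk' K] at h4'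
    have h5 : x₁⁻¹ * (y * x₁ * y⁻¹) ∈ (P : Subgroup G) :=
      mul_mem (inv_mem h.x₁P) (conjN _ y h.yN x₁ h.x₁P)
    have h6 := hPK _ h5 h4
    calc y * x₁ = x₁ * (x₁⁻¹ * (y * x₁ * y⁻¹)) * y := by group
      _ = x₁ * y := by rw [h6, mul_one]
  · -- `P K` is normal
    have hyK : ∀ k ∈ K, y * k = k * y :=
      comm_of_pprime p h.hab K hK y h.ycop (by
        rw [Subgroup.normalizer_eq_top_iff.mpr hKn]; exact Subgroup.mem_top y)
    have hPcK : ∀ u ∈ (P : Subgroup G), ∀ k ∈ K, u * k = k * u := by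
      intro u hu k hk
      obtain ⟨w, hw, huw⟩ := comm_surj (P : Subgroup G) y h.yN h.yfix u hu
      have hk' : w * k * w⁻¹ ∈ K := hKn.conj_mem k hk w
      have e1 := hyK k hk
      have e2 := hyK _ hk'
      have e3 : (y * w * y⁻¹) * k = (w * k * w⁻¹) * (y * w * y⁻¹) := by
        calc (y * w * y⁻¹) * k = y * w * (y⁻¹ * k * y) * y⁻¹ := by group
          _ = y * w * k * y⁻¹ := by
            have e0 : y⁻¹ * k * y = k := by rw [mul_assoc, ← e1, inv_mul_cancel_left]
            rw [e0]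
          _ = (y * (w * k * w⁻¹)) * w * y⁻¹ := by group
          _ = ((w * k * w⁻¹) * y) * w * y⁻¹ := by rw [e2]
          _ = (w * k * w⁻¹) * (y * w * y⁻¹) := by group
      rw [huw]
      calc w⁻¹ * (y * w * y⁻¹) * k = w⁻¹ * ((y * w * y⁻¹) * k) := by group
        _ = w⁻¹ * ((w * k * w⁻¹) * (y * w * y⁻¹)) := by rw [e3]
        _ = k * (w⁻¹ * (y * w * y⁻¹)) := by group
    apply h.nn
    constructor
    intro u hu g
    have hmem : QuotientGroup.mk' K (g * u * g⁻¹) ∈
        (P : Subgroup G).map (QuotientGroup.mk' K) := by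
      have h2 : QuotientGroup.mk' K u ∈ (P : Subgroup G).map (QuotientGroup.mk' K) :=
        Subgroup.mem_map.mpr ⟨u, hu, rfl⟩
      have h3 : QuotientGroup.mk' K g * QuotientGroup.mk' K u * (QuotientGroup.mk' K g)⁻¹ ∈
          (P : Subgroup G).map (QuotientGroup.mk' K) := h1.conj_mem _ h2 (QuotientGroup.mk' K g)
      rw [map_mul, map_mul, map_inv]
      exact h3
    obtain ⟨u', hu', hu'eq⟩ := Subgroup.mem_map.mp hmem
    have hkK : u'⁻¹ * (g * u * g⁻¹) ∈ K := by
      have h4' : u'⁻¹ * (g * u * g⁻¹) ∈ (QuotientGroup.mk' K).ker := by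
        apply MonoidHom.mem_ker.mpr
        rw [map_mul, map_inv, hu'eq, inv_mul_cancel]
      rwa [QuotientGroup.ker_mk' K] at h4'
    obtain ⟨m, hm⟩ := hppow u hu
    obtain ⟨m', hm'⟩ := hppow u' hu'
    have hcomm : Commute u' (u'⁻¹ * (g * u * g⁻¹)) := hPcK u' hu' _ hkK
    have hpow : (u'⁻¹ * (g * u * g⁻¹)) ^ p ^ (m + m') = 1 := by
      have e1 : (g * u * g⁻¹) ^ p ^ (m + m') = 1 := by
        rw [conj_pow, pow_add, pow_mul, hm, one_pow]
        group
      have e2 : u' ^ p ^ (m + m') = 1 := by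
        rw [pow_add, mul_comm, pow_mul, hm', one_pow]
      have e3 : g * u * g⁻¹ = u' * (u'⁻¹ * (g * u * g⁻¹)) := by group
      rw [e3, hcomm.mul_pow, e2, one_mul] at e1
      exact e1
    have hk1 : u'⁻¹ * (g * u * g⁻¹) = 1 :=
      eq_one_of_ppow_of_coprime _ _ hpow (coprime_orderOf_of_mem K hK _ hkK)
    have hfin : g * u * g⁻¹ = u' := by
      calc g * u * g⁻¹ = u' * (u'⁻¹ * (g * u * g⁻¹)) := by group
        _ = u' := by rw [hk1, mul_one]
    rw [hfin]
    exact hu'

/-- (SN) There is no proper normal subgroup containing `P`. -/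
theorem no_proper_normal_sup (h : MinCE p G P y x₁) (K : Subgroup G) [hKn : K.Normal]
    (hle : (P : Subgroup G) ≤ K) : K = ⊤ := by
  by_contra hK
  rcases h.sub_cases K hle hK with h1 | h1
  · obtain ⟨M, hMn, hMp, hMc⟩ := exists_normal_pcompl_of_sub P K hle (by
      intro x hx hxN
      rw [Subgroup.mem_centralizer_iff]
      intro u hu
      exact (h1 x hx hxN u hu).symm)
    haveI := hMn
    have hM := h.no_normal_pprime M hMp
    rw [hM, Subgroup.card_bot, one_mul] at hMc
    have hKP : (P : Subgroup G) = K := Subgroup.eq_of_le_of_card_ge hle (le_of_eq hMc.symm)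
    apply h.nn
    rw [hKP]
    exact hKn
  · apply h.nn
    constructor
    intro u hu g
    obtain ⟨k, hk⟩ := sylow_ppow P u hu
    have h2 : g * u * g⁻¹ ∈ K := hKn.conj_mem u (hle hu) g
    refine Cfsg.Agent.Lead.mem_sylow_of_mem_normalizer P _ k ?_ (h1 h2)
    rw [conj_pow, hk]
    group

theorem conj_x₁_mem (h : MinCE p G P y x₁) (n : G)
    (hn : n ∈ normalizer ((P : Subgroup G) : Set G)) : n * x₁ * n⁻¹ ∈ zpowers x₁ := by
  haveI := h.cyc
  apply mem_zpowers_of_order_p (P : Subgroup G) x₁ (n * x₁ * n⁻¹) h.x₁P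
    (conjN _ n hn x₁ h.x₁P) h.x₁ord
  rw [conj_pow, h.x₁pow]
  group

theorem N_le_normalizer_zpowers (h : MinCE p G P y x₁) :
    normalizer ((P : Subgroup G) : Set G) ≤ normalizer ((zpowers x₁ : Subgroup G) : Set G) := by
  intro n hn
  apply mem_normalizer_of_conj_mem'
  intro u hu
  obtain ⟨i, hi⟩ := Subgroup.mem_zpowers_iff.mp hu
  rw [← hi, ← conj_zpow]
  exact zpow_mem (h.conj_x₁_mem n hn) i

/-- (S3) The normaliser of the subgroup of order `p` of `P` is `N_G(P)`. -/
theorem normalizer_zpowers_le (h : MinCE p G P y x₁) :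
    normalizer ((zpowers x₁ : Subgroup G) : Set G) ≤ normalizer ((P : Subgroup G) : Set G) := by
  have hPab := h.Pab
  have hPle : (P : Subgroup G) ≤ normalizer ((zpowers x₁ : Subgroup G) : Set G) :=
    le_trans Subgroup.le_normalizer h.N_le_normalizer_zpowers
  by_cases htop : normalizer ((zpowers x₁ : Subgroup G) : Set G) = ⊤
  · exfalso
    haveI hZn : (zpowers x₁ : Subgroup G).Normal := Subgroup.normalizer_eq_top_iff.mp htop
    haveI hCn := centralizer_normal_of_normal (zpowers x₁ : Subgroup G)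
    have hPC : (P : Subgroup G) ≤ centralizer ((zpowers x₁ : Subgroup G) : Set G) := by
      intro a ha
      rw [Subgroup.mem_centralizer_iff]
      intro u hu
      obtain ⟨i, hi⟩ := Subgroup.mem_zpowers_iff.mp hu
      rw [← hi]
      exact hPab _ (zpow_mem h.x₁P i) a ha
    have htop' := h.no_proper_normal_sup _ hPC
    have hy : y ∈ centralizer ((zpowers x₁ : Subgroup G) : Set G) := by
      rw [htop']; exact Subgroup.mem_top y
    exact h.ync (Subgroup.mem_centralizer_iff.mp hy x₁ (mem_zpowers x₁)).symm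
  · exact h.sub_le_of_y _ hPle htop (h.N_le_normalizer_zpowers h.yN)

/-- An element commuting with a nonidentity element of `P` normalises `P`. -/
theorem cent_mem_N (h : MinCE p G P y x₁) (x : G) (hx : x ∈ (P : Subgroup G)) (hx1 : x ≠ 1)
    (c : G) (hc : c * x = x * c) : c ∈ normalizer ((P : Subgroup G) : Set G) := by
  haveI := h.cyc
  obtain ⟨k, hk⟩ := sylow_ppow P x hx
  obtain ⟨i, hi⟩ := exists_order_p_power x k hk hx1
  have h1 : x₁ ∈ zpowers (x ^ i) :=
    mem_zpowers_of_order_p (P : Subgroup G) (x ^ i) x₁ (pow_mem hx i) h.x₁P hi h.x₁pow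
  obtain ⟨j, hj⟩ := Subgroup.mem_zpowers_iff.mp h1
  have h2 : c * x₁ = x₁ * c := by
    rw [← hj]
    exact ((show Commute c x from hc).pow_right i).zpow_right j
  apply h.normalizer_zpowers_le
  apply mem_normalizer_of_conj_mem'
  intro u hu
  obtain ⟨m, hm⟩ := Subgroup.mem_zpowers_iff.mp hu
  have h3 : c * u * c⁻¹ = u := by
    have hcu : Commute c u := by
      rw [← hm]
      exact (show Commute c x₁ from h2).zpow_right m
    rw [hcu.eq, mul_inv_cancel_right]
  rw [h3]
  exact hu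

/-- An element conjugating some element of order `p` of `P` into `P` normalises `P`. -/
theorem mem_N_of_conj (h : MinCE p G P y x₁) (x : G) (hx : x ∈ (P : Subgroup G))
    (hxo : orderOf x = p) (n : G) (hn : n * x * n⁻¹ ∈ (P : Subgroup G)) :
    n ∈ normalizer ((P : Subgroup G) : Set G) := by
  haveI := h.cyc
  have hxp : x ^ p = 1 := by
    have := pow_orderOf_eq_one x
    rwa [hxo] at this
  have h1 : x₁ ∈ zpowers x := mem_zpowers_of_order_p (P : Subgroup G) x x₁ hx h.x₁P hxo h.x₁pow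
  have h2 : n * x * n⁻¹ ∈ zpowers x₁ := by
    apply mem_zpowers_of_order_p (P : Subgroup G) x₁ (n * x * n⁻¹) h.x₁P hn h.x₁ord
    rw [conj_pow, hxp]
    group
  obtain ⟨j, hj⟩ := Subgroup.mem_zpowers_iff.mp h1
  have h3 : n * x₁ * n⁻¹ ∈ zpowers x₁ := by
    have e : n * x₁ * n⁻¹ = (n * x * n⁻¹) ^ j := by rw [conj_zpow, hj]
    rw [e]
    exact zpow_mem h2 j
  apply h.normalizer_zpowers_le
  apply mem_normalizer_of_conj_mem'
  intro u hu
  obtain ⟨m, hm⟩ := Subgroup.mem_zpowers_iff.mp hu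
  rw [← hm, ← conj_zpow]
  exact zpow_mem h3 m

end MinCE

end Cfsg.Agent.Helper23.Cyc
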