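import Mathlib
import Cfsg.Agent.Helper23.CycB

set_option autoImplicit false

universe u

namespace Cfsg.Agent.Helper23.Cyc

open Subgroup

namespace MinCE

variable {p : ℕ} [hp : Fact p.Prime] {G : Type u} [Group G] [Finite G] {P : Sylow p G} {y x₁ : G}

/-- (S4) A nontrivial Sylow `r`-subgroup `R`, `r ≠ p`, is normalised by an element of order `p`
acting fixed-point-freely. -/
theorem sylow_fpf_aux (h : MinCE p G P y x₁) (r : ℕ) [hr : Fact r.Prime] (hrp : r ≠ p)
    (R : Sylow r G) (hR : (R : Subgroup G) ≠ ⊥) (H : Subgroup G)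
    (hHdef : H = normalizer ((R : Subgroup G) : Set G)) :
    ∃ z : G, orderOf z = p ∧ z ∈ H ∧ ∀ v ∈ (R : Subgroup G), z * v = v * z → v = 1 := by
  by_contra hcon
  have hstar : ∀ z : G, orderOf z = p → z ∈ H →
      ∃ v ∈ (R : Subgroup G), v ≠ 1 ∧ z * v = v * z := by
    intro z hz hzN
    by_contra h'
    apply hcon
    refine ⟨z, hz, hzN, ?_⟩
    intro v hv hzv
    by_contra hv1
    exact h' ⟨v, hv, hv1, hzv⟩
  have hPab := h.Pab
  have hppow := sylow_ppow P
  have hRp : ¬ p ∣ Nat.card (R : Subgroup G) := by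
    obtain ⟨n, hn⟩ := IsPGroup.iff_card.mp R.isPGroup'
    rw [hn]
    intro hd
    exact hrp ((Nat.prime_dvd_prime_iff_eq hp.1 hr.1).mp (hp.1.dvd_of_dvd_pow hd)).symm
  haveI hRab : IsMulCommutative (R : Subgroup G) := h.hab _ hRp
  have hRcop : ∀ v ∈ (R : Subgroup G), (orderOf v).Coprime p :=
    fun v hv => coprime_orderOf_of_mem _ hRp v hv
  have hkey : ∀ v ∈ (R : Subgroup G), v ≠ 1 → (∀ n ∈ H, n * v = v * n) → False := by
    intro v hv hv1 hcen
    have hcen' : ∀ n ∈ normalizer ((R : Subgroup G) : Set G), n * v = v * n := by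
      rw [← hHdef]
      exact hcen
    obtain ⟨M, hMn, hMtop, hMall⟩ := exists_normal_of_central_sylow R v hv hv1 hcen'
    haveI := hMn
    apply hMtop
    apply h.no_proper_normal_sup M
    intro u hu
    apply hMall
    obtain ⟨k, hk⟩ := hppow u hu
    have h1 : orderOf u ∣ p ^ k := orderOf_dvd_of_pow_eq_one hk
    have h2 : (p ^ k).Coprime r :=
      Nat.Coprime.pow_left k ((Nat.coprime_primes hp.1 hr.1).mpr hrp.symm)
    exact Nat.Coprime.coprime_dvd_left h1 h2
  have hRH : (R : Subgroup G) ≤ H := by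
    rw [hHdef]
    exact Subgroup.le_normalizer
  have hHtop : H ≠ ⊤ := by
    intro htop
    rw [hHdef] at htop
    haveI : (R : Subgroup G).Normal := Subgroup.normalizer_eq_top_iff.mp htop
    exact hR (h.no_normal_pprime _ hRp)
  obtain ⟨v₀, hv₀, hv₀1⟩ : ∃ v ∈ (R : Subgroup G), v ≠ 1 := by
    by_contra h'
    apply hR
    rw [Subgroup.eq_bot_iff_forall]
    intro v hv
    by_contra hv1
    exact h' ⟨v, hv, hv1⟩
  by_cases hpH : ¬ p ∣ Nat.card H
  · have hHab := h.hab H hpH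
    apply hkey v₀ hv₀ hv₀1
    intro n hn
    exact congrArg Subtype.val (isMulCommutative_iff.mp hHab ⟨n, hn⟩ ⟨v₀, hRH hv₀⟩)
  have hpH' : p ∣ Nat.card H := not_not.mp hpH
  obtain ⟨Q⟩ : Nonempty (Sylow p ↥H) := inferInstance
  have hQbot : (Q : Subgroup ↥H) ≠ ⊥ := Sylow.ne_bot_of_dvd_card Q hpH'
  obtain ⟨q₀, hq₀, hq₀1⟩ : ∃ q ∈ (Q : Subgroup ↥H), q ≠ 1 := by
    by_contra h'
    apply hQbot
    rw [Subgroup.eq_bot_iff_forall]
    intro v hv
    by_contra hv1
    exact h' ⟨v, hv, hv1⟩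
  obtain ⟨k₀, hk₀⟩ := sylow_ppow Q q₀ hq₀
  obtain ⟨i₀, hi₀⟩ := exists_order_p_power q₀ k₀ hk₀ hq₀1
  obtain ⟨zH, hzHQ, hzHo⟩ : ∃ zH : ↥H, zH ∈ (Q : Subgroup ↥H) ∧ orderOf (zH : G) = p :=
    ⟨q₀ ^ i₀, pow_mem hq₀ i₀, by rw [Subgroup.orderOf_coe]; exact hi₀⟩
  obtain ⟨v, hv, hv1, hzv⟩ := hstar (zH : G) hzHo zH.2
  obtain ⟨g, hg⟩ := exists_conj_mem_sylow P ((Q : Subgroup ↥H).map H.subtype)
    (Q.isPGroup'.map H.subtype)
  have hgQ : ∀ q : ↥H, q ∈ (Q : Subgroup ↥H) → g⁻¹ * (q : G) * g ∈ (P : Subgroup G) :=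
    fun q hq => hg (q : G) (Subgroup.mem_map.mpr ⟨q, hq, rfl⟩)
  have hxP : g⁻¹ * (zH : G) * g ∈ (P : Subgroup G) := hgQ zH hzHQ
  have hxo : orderOf (g⁻¹ * (zH : G) * g) = p := by
    rw [orderOf_conj']
    exact hzHo
  have hx1 : g⁻¹ * (zH : G) * g ≠ 1 := by
    intro h1
    rw [h1, orderOf_one] at hxo
    exact hp.1.one_lt.ne hxo
  have hv'x : (g⁻¹ * v * g) * (g⁻¹ * (zH : G) * g) = (g⁻¹ * (zH : G) * g) * (g⁻¹ * v * g) :=
    (conj_comm_iff g v (zH : G)).mpr hzv.symm
  have hv'N : g⁻¹ * v * g ∈ normalizer ((P : Subgroup G) : Set G) :=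
    h.cent_mem_N _ hxP hx1 _ hv'x
  have hv'cop : (orderOf (g⁻¹ * v * g)).Coprime p := by
    rw [orderOf_conj']
    exact hRcop v hv
  have hv'C : ∀ u ∈ (P : Subgroup G), (g⁻¹ * v * g) * u = u * (g⁻¹ * v * g) :=
    h.centP _ hv'N hv'cop _ hxP hx1 hv'x
  have hvQ : ∀ q : ↥H, q ∈ (Q : Subgroup ↥H) → v * (q : G) = (q : G) * v := by
    intro q hq
    exact (conj_comm_iff g v (q : G)).mp (hv'C _ (hgQ q hq))
  have hlt : Nat.card H < Nat.card G :=
    lt_of_le_of_ne (Subgroup.card_le_card_group H)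
      (fun hh => hHtop ((Subgroup.card_eq_iff_eq_top H).mp hh))
  have hcycQ : IsCyclic (Q : Subgroup ↥H) := by
    haveI := h.cyc
    let f : ↥(Q : Subgroup ↥H) →* ↥(P : Subgroup G) :=
      MonoidHom.mk' (fun q => ⟨g⁻¹ * ((q : ↥H) : G) * g, hgQ _ q.2⟩) (by
        intro a b
        apply Subtype.ext
        show g⁻¹ * (((a : ↥H) : G) * ((b : ↥H) : G)) * g =
          (g⁻¹ * ((a : ↥H) : G) * g) * (g⁻¹ * ((b : ↥H) : G) * g)
        group)
    have hf : Function.Injective f := by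
      intro a b hab'
      have e : g⁻¹ * ((a : ↥H) : G) * g = g⁻¹ * ((b : ↥H) : G) * g := congrArg Subtype.val hab'
      apply Subtype.ext
      apply Subtype.ext
      exact mul_left_cancel (mul_right_cancel e)
    exact isCyclic_of_injective f hf
  rcases h.ih ↥H hlt Q hcycQ (hab_subgroup p h.hab H) with h1 | h1
  · -- normal `p`-complement `M'` of `H`
    obtain ⟨M', hM'n, hM'c⟩ := (Cfsg.Agent.Lead.hasNormalPComplement_iff Q).mp
      (Cfsg.Agent.Lead.burnside_npc Q h1)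
    have hmul : Nat.card M' * Nat.card (Q : Subgroup ↥H) = Nat.card ↥H := hM'c.card_mul_card
    have hcop : ¬ p ∣ Nat.card M' := by
      have e1 := (Q : Subgroup ↥H).card_mul_index
      have e3 : Nat.card (Q : Subgroup ↥H) * (Q : Subgroup ↥H).index =
          Nat.card (Q : Subgroup ↥H) * Nat.card M' := by
        rw [e1, ← hmul, mul_comm]
      rw [← Nat.eq_of_mul_eq_mul_left Nat.card_pos e3]
      exact Q.not_dvd_index
    have hcop' : ¬ p ∣ Nat.card (M'.map H.subtype) := by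
      rw [Subgroup.card_map_of_injective H.subtype_injective]
      exact hcop
    have hvn : v ∈ normalizer ((M'.map H.subtype : Subgroup G) : Set G) := by
      apply mem_normalizer_of_conj_mem'
      intro k hk
      obtain ⟨m, hm, hmk⟩ := Subgroup.mem_map.mp hk
      rw [← hmk]
      exact Subgroup.mem_map.mpr
        ⟨⟨v, hRH hv⟩ * m * ⟨v, hRH hv⟩⁻¹, hM'n.conj_mem m hm ⟨v, hRH hv⟩, rfl⟩
    have hvM : ∀ k ∈ M'.map H.subtype, v * k = k * v :=
      comm_of_pprime p h.hab _ hcop' v (hRcop v hv) hvn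
    apply hkey v hv hv1
    intro n hn
    have hbij : Function.Bijective
        (fun x : ↥(M' : Set ↥H) × ↥((Q : Subgroup ↥H) : Set ↥H) => x.1.1 * x.2.1) := hM'c
    obtain ⟨⟨⟨m, hm⟩, ⟨q, hq⟩⟩, hmq⟩ := hbij.2 ⟨n, hn⟩
    have hmq' : m * q = ⟨n, hn⟩ := hmq
    have hmq'' : (m : G) * (q : G) = n := congrArg Subtype.val hmq'
    have e1 : v * (m : G) = (m : G) * v := hvM _ (Subgroup.mem_map.mpr ⟨m, hm, rfl⟩)
    have e2 : v * (q : G) = (q : G) * v := hvQ q hq
    rw [← hmq'']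
    calc (m : G) * (q : G) * v = (m : G) * ((q : G) * v) := mul_assoc _ _ _
      _ = (m : G) * (v * (q : G)) := by rw [e2]
      _ = ((m : G) * v) * (q : G) := (mul_assoc _ _ _).symm
      _ = (v * (m : G)) * (q : G) := by rw [e1]
      _ = v * ((m : G) * (q : G)) := mul_assoc _ _ _
  · -- `Q` is normal in `H`
    apply hkey v hv hv1
    intro n hn
    have hnz : g⁻¹ * ((⟨n, hn⟩ * zH * ⟨n, hn⟩⁻¹ : ↥H) : G) * g ∈ (P : Subgroup G) :=
      hgQ _ (h1.conj_mem _ hzHQ ⟨n, hn⟩)
    have hn'N : g⁻¹ * n * g ∈ normalizer ((P : Subgroup G) : Set G) := by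
      apply h.mem_N_of_conj _ hxP hxo
      have e : (g⁻¹ * n * g) * (g⁻¹ * (zH : G) * g) * (g⁻¹ * n * g)⁻¹ =
          g⁻¹ * ((⟨n, hn⟩ * zH * ⟨n, hn⟩⁻¹ : ↥H) : G) * g := by
        show (g⁻¹ * n * g) * (g⁻¹ * (zH : G) * g) * (g⁻¹ * n * g)⁻¹ =
          g⁻¹ * (n * (zH : G) * n⁻¹) * g
        group
      rw [e]
      exact hnz
    have e2 := pcent_central P hPab h.hab (g⁻¹ * v * g) hv'C hv'cop (g⁻¹ * n * g) hn'N
    exact (conj_comm_iff g n v).mp e2

theorem sylow_fpf (h : MinCE p G P y x₁) (r : ℕ) [hr : Fact r.Prime] (hrp : r ≠ p)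
    (R : Sylow r G) (hR : (R : Subgroup G) ≠ ⊥) :
    ∃ z : G, orderOf z = p ∧ z ∈ normalizer ((R : Subgroup G) : Set G) ∧
      ∀ v ∈ (R : Subgroup G), z * v = v * z → v = 1 :=
  h.sylow_fpf_aux r hrp R hR _ rfl

theorem sylow_card_modEq (h : MinCE p G P y x₁) (r : ℕ) [hr : Fact r.Prime] (hrp : r ≠ p)
    (R : Sylow r G) : Nat.card (R : Subgroup G) ≡ 1 [MOD p] := by
  by_cases hR : (R : Subgroup G) = ⊥
  · have e : Nat.card (R : Subgroup G) = 1 := by
      rw [hR]
      exact Subgroup.card_bot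
    show Nat.card (R : Subgroup G) % p = 1 % p
    rw [e]
  · obtain ⟨z, hzo, hzN, hzfix⟩ := h.sylow_fpf r hrp R hR
    have hQ : IsPGroup p (zpowers z) := by
      apply IsPGroup.of_card (n := 1)
      rw [Nat.card_zpowers, hzo, pow_one]
    refine card_modEq_one_of_fpf (zpowers z) (R : Subgroup G) hQ ((zpowers_le).mpr hzN) ?_
    intro v hv hq
    exact hzfix v hv (hq z (mem_zpowers z))

theorem index_modEq (h : MinCE p G P y x₁) : (P : Subgroup G).index ≡ 1 [MOD p] := by
  apply modEq_one_of_prime_powers p _ Subgroup.index_ne_zero_of_finite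
  intro r hr hrd
  haveI : Fact r.Prime := ⟨hr⟩
  have hrp : r ≠ p := by
    intro hrp'
    rw [hrp'] at hrd
    exact P.not_dvd_index hrd
  obtain ⟨R⟩ : Nonempty (Sylow r G) := inferInstance
  have h1 := h.sylow_card_modEq r hrp R
  have h2 : Nat.card (R : Subgroup G) = r ^ ((P : Subgroup G).index.factorization r) := by
    rw [Sylow.card_eq_multiplicity R, ← (P : Subgroup G).card_mul_index]
    rw [Nat.factorization_eq_of_coprime_right (Sylow.card_coprime_index P)
      ((Nat.mem_primeFactorsList Subgroup.index_ne_zero_of_finite).mpr ⟨hr, hrd⟩)]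
  rw [← h2]
  exact h1

theorem relIndex_modEq (h : MinCE p G P y x₁) :
    (P : Subgroup G).relIndex (normalizer ((P : Subgroup G) : Set G)) ≡ 1 [MOD p] := by
  have h1 := h.index_modEq
  have h2 : (normalizer ((P : Subgroup G) : Set G)).index ≡ 1 [MOD p] := by
    have e : Nat.card (Sylow p G) = (normalizer ((P : Subgroup G) : Set G)).index :=
      Sylow.card_eq_index_normalizer P
    rw [← e]
    exact card_sylow_modEq_one p G
  have h3 := Subgroup.relIndex_mul_index
    (Subgroup.le_normalizer : (P : Subgroup G) ≤ normalizer ((P : Subgroup G) : Set G))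
  rw [← h3] at h1
  have h4 : (P : Subgroup G).relIndex (normalizer ((P : Subgroup G) : Set G)) * 1 ≡
      (P : Subgroup G).relIndex (normalizer ((P : Subgroup G) : Set G)) *
        (normalizer ((P : Subgroup G) : Set G)).index [MOD p] :=
    Nat.ModEq.mul_left _ h2.symm
  rw [mul_one] at h4
  exact h4.trans h1

/-- Case A: no nontrivial `p'`-element centralises `P`. -/
theorem caseA (h : MinCE p G P y x₁)
    (hA : ∀ w : G, (∀ u ∈ (P : Subgroup G), w * u = u * w) → (orderOf w).Coprime p → w = 1) :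
    False := by
  haveI := h.cyc
  have hPab := h.Pab
  have hCN : ∀ n ∈ normalizer ((P : Subgroup G) : Set G), n * x₁ = x₁ * n →
      n ∈ (P : Subgroup G) := by
    intro n hn hnx
    obtain ⟨c, a, k, hc, ha, hnca, hck, hac⟩ := Cfsg.Agent.Lead.exists_p_decomp p n
    have hcN : c ∈ normalizer ((P : Subgroup G) : Set G) := by
      obtain ⟨i, hi⟩ := Subgroup.mem_zpowers_iff.mp hc
      rw [← hi]
      exact zpow_mem hn i
    have haN : a ∈ normalizer ((P : Subgroup G) : Set G) := by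
      obtain ⟨i, hi⟩ := Subgroup.mem_zpowers_iff.mp ha
      rw [← hi]
      exact zpow_mem hn i
    have hcP : c ∈ (P : Subgroup G) := Cfsg.Agent.Lead.mem_sylow_of_mem_normalizer P c k hck hcN
    have hax : a * x₁ = x₁ * a := by
      obtain ⟨i, hi⟩ := Subgroup.mem_zpowers_iff.mp ha
      rw [← hi]
      exact (show Commute n x₁ from hnx).zpow_left i
    have ha1 : a = 1 := hA a (h.centP a haN hac x₁ h.x₁P h.x₁ne hax) hac
    rw [hnca, ha1, mul_one]
    exact hcP
  have hNZ := h.N_le_normalizer_zpowers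
  have hZcard : Nat.card (zpowers x₁) = p := by rw [Nat.card_zpowers, h.x₁ord]
  obtain ⟨hcycA, hcardA⟩ := mulAut_prime_card (zpowers x₁) hZcard
  haveI : Finite (MulAut ↥(zpowers x₁)) := by
    apply Nat.finite_of_card_ne_zero
    rw [hcardA]
    have := hp.1.two_le
    omega
  let φ : ↥(normalizer ((P : Subgroup G) : Set G)) →* MulAut ↥(zpowers x₁) :=
    (zpowers x₁).normalizerMonoidHom.comp (Subgroup.inclusion hNZ)
  have hker : φ.ker = (P : Subgroup G).subgroupOf (normalizer ((P : Subgroup G) : Set G)) := by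
    ext n
    rw [MonoidHom.mem_ker, Subgroup.mem_subgroupOf]
    constructor
    · intro h1
      have h2 : Subgroup.inclusion hNZ n ∈ (zpowers x₁).normalizerMonoidHom.ker :=
        MonoidHom.mem_ker.mpr h1
      rw [Subgroup.normalizerMonoidHom_ker, Subgroup.mem_subgroupOf] at h2
      have h3 : (n : G) * x₁ = x₁ * (n : G) :=
        (Subgroup.mem_centralizer_iff.mp h2 x₁ (mem_zpowers x₁)).symm
      exact hCN (n : G) n.2 h3
    · intro h1
      have h2 : Subgroup.inclusion hNZ n ∈ (zpowers x₁).normalizerMonoidHom.ker := by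
        rw [Subgroup.normalizerMonoidHom_ker, Subgroup.mem_subgroupOf,
          Subgroup.mem_centralizer_iff]
        intro u hu
        obtain ⟨i, hi⟩ := Subgroup.mem_zpowers_iff.mp hu
        rw [← hi]
        exact hPab _ (zpow_mem h.x₁P i) _ h1
      exact MonoidHom.mem_ker.mp h2
  have hle : (P : Subgroup G).relIndex (normalizer ((P : Subgroup G) : Set G)) ≤ p - 1 := by
    have e1 : (P : Subgroup G).relIndex (normalizer ((P : Subgroup G) : Set G)) =
        φ.ker.index := by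
      rw [hker]
      rfl
    rw [e1, Subgroup.index_ker, ← hcardA]
    exact Subgroup.card_le_card_group φ.range
  have hmod := h.relIndex_modEq
  have hne1 : (P : Subgroup G).relIndex (normalizer ((P : Subgroup G) : Set G)) ≠ 1 := by
    intro h1
    have h2 := Subgroup.relIndex_eq_one.mp h1
    have hyP : y ∈ (P : Subgroup G) := h2 h.yN
    obtain ⟨k, hk⟩ := sylow_ppow P y hyP
    have hy1 : y = 1 := eq_one_of_ppow_of_coprime y k hk h.ycop
    apply h.ync
    rw [hy1, one_mul, mul_one]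
  have hne0 : (P : Subgroup G).relIndex (normalizer ((P : Subgroup G) : Set G)) ≠ 0 := by
    intro h0
    have h3 := Subgroup.relIndex_mul_index
      (Subgroup.le_normalizer : (P : Subgroup G) ≤ normalizer ((P : Subgroup G) : Set G))
    rw [h0, zero_mul] at h3
    exact Subgroup.index_ne_zero_of_finite h3.symm
  have h5 := (Nat.modEq_iff_dvd' (Nat.one_le_iff_ne_zero.mpr hne0)).mp hmod.symm
  have h6 : p ≤ (P : Subgroup G).relIndex (normalizer ((P : Subgroup G) : Set G)) - 1 :=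
    Nat.le_of_dvd (by omega) h5
  have := hp.1.two_le
  omega

end MinCE

end Cfsg.Agent.Helper23.Cyc
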