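import Mathlib
import Cfsg.Agent.Helper23.CycC
import Cfsg.Agent.Helper23.Friend

set_option autoImplicit false

universe u

namespace Cfsg.Agent.Helper23.Cyc

open Subgroup

namespace MinCE

variable {p : ℕ} [hp : Fact p.Prime] {G : Type u} [Group G] [Finite G] {P : Sylow p G} {y x₁ : G}

set_option maxHeartbeats 1600000 in
/-- Case B: an element `t` of prime order `r ≠ p` centralises `P`. -/
theorem caseB (h : MinCE p G P y x₁) (t : G) (r : ℕ) [hr : Fact r.Prime] (hrp : r ≠ p)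
    (hto : orderOf t = r) (htC : ∀ u ∈ (P : Subgroup G), t * u = u * t) : False := by
  haveI := h.cyc
  have hPab := h.Pab
  have hppow := sylow_ppow P
  have ht1 : t ≠ 1 := by
    intro h1
    rw [h1, orderOf_one] at hto
    exact hr.1.one_lt.ne hto
  have htr : t ^ r = 1 := by
    have := pow_orderOf_eq_one t
    rwa [hto] at this
  have htcop : (orderOf t).Coprime p := by
    rw [hto]
    exact (Nat.coprime_primes hr.1 hp.1).mpr hrp
  -- B1: `p'`-elements centralising `P` are central in `N`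
  have hB1 : ∀ w : G, (∀ u ∈ (P : Subgroup G), w * u = u * w) → (orderOf w).Coprime p →
      ∀ n ∈ normalizer ((P : Subgroup G) : Set G), n * w = w * n :=
    fun w hw hwc n hn => pcent_central P hPab h.hab w hw hwc n hn
  -- B2: the centraliser of a nonidentity `p'`-element centralising `P` lies in `N`
  have hB2 : ∀ w : G, w ≠ 1 → (∀ u ∈ (P : Subgroup G), w * u = u * w) →
      (orderOf w).Coprime p →
      ∀ g : G, g * w = w * g → g ∈ normalizer ((P : Subgroup G) : Set G) := by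
    intro w hw1 hw hwc g hg
    have hPH : (P : Subgroup G) ≤ cent2 w w :=
      fun u hu => (mem_cent2 w w u).mpr ⟨(hw u hu).symm, (hw u hu).symm⟩
    have hyH : y ∈ cent2 w w := by
      have e := hB1 w hw hwc y h.yN
      exact (mem_cent2 w w y).mpr ⟨e, e⟩
    by_cases htop : cent2 w w = ⊤
    · exfalso
      have hcen : ∀ g' : G, g' * w = w * g' := by
        intro g'
        have hg' : g' ∈ cent2 w w := by
          rw [htop]
          exact Subgroup.mem_top g'
        exact ((mem_cent2 w w g').mp hg').1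
      haveI : (zpowers w : Subgroup G).Normal := by
        constructor
        intro u hu g'
        obtain ⟨i, hi⟩ := Subgroup.mem_zpowers_iff.mp hu
        have e : g' * u * g'⁻¹ = u := by
          have hc : Commute g' u := by
            rw [← hi]
            exact (show Commute g' w from hcen g').zpow_right i
          rw [hc.eq, mul_inv_cancel_right]
        rw [e]
        exact hu
      have hZp : ¬ p ∣ Nat.card (zpowers w) := by
        rw [Nat.card_zpowers]
        exact not_dvd_of_coprime hp.1 hwc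
      have hbot := h.no_normal_pprime (zpowers w) hZp
      exact hw1 (Subgroup.zpowers_eq_bot.mp hbot)
    · have hle := h.sub_le_of_y (cent2 w w) hPH htop hyH
      exact hle ((mem_cent2 w w g).mpr ⟨hg, hg⟩)
  have htN : ∀ g : G, g * t = t * g → g ∈ normalizer ((P : Subgroup G) : Set G) :=
    hB2 t ht1 htC htcop
  -- B3: a Sylow `r`-subgroup containing `t`
  have hZt : IsPGroup r (zpowers t) := by
    apply IsPGroup.of_card (n := 1)
    rw [Nat.card_zpowers, hto, pow_one]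
  obtain ⟨R, hR⟩ := hZt.exists_le_sylow
  have htR : t ∈ (R : Subgroup G) := hR (mem_zpowers t)
  have hRp : ¬ p ∣ Nat.card (R : Subgroup G) := by
    obtain ⟨n, hn⟩ := IsPGroup.iff_card.mp R.isPGroup'
    rw [hn]
    intro hd
    exact hrp ((Nat.prime_dvd_prime_iff_eq hp.1 hr.1).mp (hp.1.dvd_of_dvd_pow hd)).symm
  have hRab : ∀ a ∈ (R : Subgroup G), ∀ b ∈ (R : Subgroup G), a * b = b * a := by
    intro a ha b hb
    exact congrArg Subtype.val (isMulCommutative_iff.mp (h.hab _ hRp) ⟨a, ha⟩ ⟨b, hb⟩)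
  have hRN : (R : Subgroup G) ≤ normalizer ((P : Subgroup G) : Set G) :=
    fun a ha => htN a (hRab a ha t htR)
  have hRbot : (R : Subgroup G) ≠ ⊥ := by
    intro hbot
    rw [hbot, Subgroup.mem_bot] at htR
    exact ht1 htR
  -- B4: the fixed-point-free element `z` of order `p`
  obtain ⟨z, hzo, hzN, hzfix⟩ := h.sylow_fpf r hrp R hRbot
  have hzp : z ^ p = 1 := by
    have := pow_orderOf_eq_one z
    rwa [hzo] at this
  have hzN' : z ∉ normalizer ((P : Subgroup G) : Set G) := by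
    intro hzn
    have hzP : z ∈ (P : Subgroup G) :=
      Cfsg.Agent.Lead.mem_sylow_of_mem_normalizer P z 1 (by rw [pow_one]; exact hzp) hzn
    exact ht1 (hzfix t htR (htC z hzP).symm)
  -- `W = Ω₁(R)`
  obtain ⟨W, hWdef⟩ : ∃ W : Subgroup G, W = omegaSub (R : Subgroup G) hRab r := ⟨_, rfl⟩
  have hWmem : ∀ v : G, v ∈ W ↔ v ∈ (R : Subgroup G) ∧ v ^ r = 1 := by
    intro v
    rw [hWdef]
    exact mem_omegaSub _ hRab r v
  have htW : t ∈ W := (hWmem t).mpr ⟨htR, htr⟩
  have hWR : W ≤ (R : Subgroup G) := fun v hv => ((hWmem v).mp hv).1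
  have hWN : W ≤ normalizer ((P : Subgroup G) : Set G) := fun v hv => hRN (hWR hv)
  have hWr : ∀ v ∈ W, v ^ r = 1 := fun v hv => ((hWmem v).mp hv).2
  have hWcop : ∀ v ∈ W, (orderOf v).Coprime p := fun v hv =>
    coprime_of_pow_prime_eq_one hp.1 hr.1 hrp v (hWr v hv)
  have hzW : ∀ v ∈ W, z * v * z⁻¹ ∈ W := by
    intro v hv
    refine (hWmem _).mpr ⟨conjN _ z hzN v (hWR hv), ?_⟩
    rw [conj_pow, hWr v hv]
    group
  have hzW' : ∀ v ∈ W, z⁻¹ * v * z ∈ W := by
    intro v hv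
    refine (hWmem _).mpr ⟨conjN' _ z hzN v (hWR hv), ?_⟩
    have e : z⁻¹ * v * z = z⁻¹ * v * z⁻¹⁻¹ := by rw [inv_inv]
    rw [e, conj_pow, hWr v hv]
    group
  -- (KB)
  have hKB : ∀ w ∈ W, w ≠ 1 → (∀ u ∈ (P : Subgroup G), w * u = u * w) →
      (∀ u ∈ (P : Subgroup G), (z⁻¹ * w * z) * u = u * (z⁻¹ * w * z)) → False := by
    intro w hw hw1 hwC hwC'
    apply hzN'
    apply mem_normalizer_of_conj_mem'
    intro u hu
    have e1 := hwC' u hu
    have e2 : (z * u * z⁻¹) * w = w * (z * u * z⁻¹) := by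
      calc (z * u * z⁻¹) * w = z * (u * (z⁻¹ * w * z)) * z⁻¹ := by group
        _ = z * ((z⁻¹ * w * z) * u) * z⁻¹ := by rw [e1]
        _ = w * (z * u * z⁻¹) := by group
    have e3 : z * u * z⁻¹ ∈ normalizer ((P : Subgroup G) : Set G) :=
      hB2 w hw1 hwC (hWcop w hw) _ e2
    obtain ⟨k, hk⟩ := hppow u hu
    refine Cfsg.Agent.Lead.mem_sylow_of_mem_normalizer P _ k ?_ e3
    rw [conj_pow, hk]
    group
  have hNZ := h.N_le_normalizer_zpowers
  have hZcard : Nat.card (zpowers x₁) = p := by rw [Nat.card_zpowers, h.x₁ord]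
  have hWle : Nat.card W ≤ r ^ 2 := by
    apply card_le_sq_of_two_actions (zpowers x₁) hZcard W r hr.1.pos hWr
      (fun v hv => hNZ (hWN hv)) z hzW'
    intro w hw hwZ hwZ'
    by_contra hw1
    have hwC := h.centP w (hWN hw) (hWcop w hw) x₁ h.x₁P h.x₁ne (hwZ x₁ (mem_zpowers x₁))
    have hwC' := h.centP (z⁻¹ * w * z) (hWN (hzW' w hw)) (hWcop _ (hzW' w hw)) x₁ h.x₁P h.x₁ne
      (hwZ' x₁ (mem_zpowers x₁))
    exact hKB w hw hw1 hwC hwC'
  have hZz : IsPGroup p (zpowers z) := by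
    apply IsPGroup.of_card (n := 1)
    rw [Nat.card_zpowers, hzo, pow_one]
  have hWmod : Nat.card W ≡ 1 [MOD p] := by
    refine card_modEq_one_of_fpf (zpowers z) W hZz
      ((zpowers_le).mpr (mem_normalizer_of_conj_mem' W z hzW)) ?_
    intro v hv hq
    exact hzfix v (hWR hv) (hq z (mem_zpowers z))
  have hWp : IsPGroup r W := by
    rw [IsPGroup]
    rintro ⟨v, hv⟩
    refine ⟨1, ?_⟩
    apply Subtype.ext
    show v ^ r ^ 1 = 1
    rw [pow_one]
    exact hWr v hv
  obtain ⟨d, hd⟩ := IsPGroup.iff_card.mp hWp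
  have hW1 : 1 < Nat.card W := by
    rw [Subgroup.one_lt_card_iff_ne_bot]
    intro hbot
    rw [hbot, Subgroup.mem_bot] at htW
    exact ht1 htW
  have hu₁W : z * t * z⁻¹ ∈ W := hzW t htW
  have hu₂W : z⁻¹ * t * z ∈ W := hzW' t htW
  have hu₁1 : z * t * z⁻¹ ≠ 1 := by
    intro h1
    apply ht1
    calc t = z⁻¹ * (z * t * z⁻¹) * z := by group
      _ = 1 := by rw [h1]; group
  have hu₂1 : z⁻¹ * t * z ≠ 1 := by
    intro h1
    apply ht1
    calc t = z * (z⁻¹ * t * z) * z⁻¹ := by group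
      _ = 1 := by rw [h1]; group
  have hu₁nc : ¬ ∀ u ∈ (P : Subgroup G), (z * t * z⁻¹) * u = u * (z * t * z⁻¹) := by
    intro hC
    apply hKB (z * t * z⁻¹) hu₁W hu₁1 hC
    have e : z⁻¹ * (z * t * z⁻¹) * z = t := by group
    rw [e]
    exact htC
  have hrdvd : r ∣ p - 1 := by
    apply prime_dvd_pred_of_action (zpowers x₁) hZcard r hr.1 (z * t * z⁻¹) (hNZ (hWN hu₁W))
      (hWr _ hu₁W)
    intro hcomm
    exact hu₁nc (h.centP (z * t * z⁻¹) (hWN hu₁W) (hWcop _ hu₁W) x₁ h.x₁P h.x₁ne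
      (hcomm x₁ (mem_zpowers x₁)))
  obtain ⟨hp3, hr2, hd2⟩ := arith_p3 p r d hp.1 hr.1 hrdvd (by rw [← hd]; exact hWmod)
    (by rw [← hd]; exact hWle) (by rw [← hd]; exact hW1)
  have hW4 : Nat.card W ≤ 4 := by
    calc Nat.card W ≤ r ^ 2 := hWle
      _ = 4 := by norm_num [hr2]
  have hp2 : p ≠ 2 := by omega
  have ht2 : t ^ 2 = 1 := by
    have := htr
    rw [hr2] at this
    exact this
  have hW2 : ∀ v ∈ W, v ^ 2 = 1 := by
    intro v hv
    have := hWr v hv
    rw [hr2] at this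
    exact this
  have hinvcop : ∀ a : G, a ^ 2 = 1 → (orderOf a).Coprime p := fun a ha2 =>
    coprime_of_pow_prime_eq_one hp.1 hr.1 hrp a (by rw [hr2]; exact ha2)
  have hz3 : z ^ 3 = 1 := by
    have := hzp
    rw [hp3] at this
    exact this
  have hzz : z * z = z⁻¹ := by
    have e : z * z * z = z ^ 3 := (pow_three' z).symm
    rw [eq_inv_iff_mul_eq_one, e, hz3]
  have hzt : z * t ≠ t * z := fun e => ht1 (hzfix t htR e)
  have htu₁ : t ≠ z * t * z⁻¹ := by
    intro e
    apply hzt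
    calc z * t = (z * t * z⁻¹) * z := by group
      _ = t * z := by rw [← e]
  have htu₂ : t ≠ z⁻¹ * t * z := by
    intro e
    apply hzt
    calc z * t = z * (z⁻¹ * t * z) := by rw [← e]
      _ = t * z := by group
  have hu₁u₂ : z * t * z⁻¹ ≠ z⁻¹ * t * z := by
    intro e
    apply hzt
    have e1 : (z * z) * t = t * (z * z) := by
      calc (z * z) * t = z * (z * t * z⁻¹) * z := by group
        _ = z * (z⁻¹ * t * z) * z := by rw [e]
        _ = t * (z * z) := by group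
    rw [hzz] at e1
    calc z * t = z * (t * z⁻¹) * z := by group
      _ = z * (z⁻¹ * t) * z := by rw [e1]
      _ = t * z := by group
  -- B7: the involutions of `W`
  have hW3 : ∀ w ∈ W, w ≠ 1 → w = t ∨ w = z * t * z⁻¹ ∨ w = z⁻¹ * t * z := by
    intro w hw hw1
    by_contra hcon
    have c1 : w ≠ t := fun e => hcon (Or.inl e)
    have c2 : w ≠ z * t * z⁻¹ := fun e => hcon (Or.inr (Or.inl e))
    have c3 : w ≠ z⁻¹ * t * z := fun e => hcon (Or.inr (Or.inr e))
    exact no_four_of_card_le W hW4 t (z * t * z⁻¹) (z⁻¹ * t * z) w htW hu₁W hu₂W hw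
      ht1 hu₁1 hu₂1 hw1 htu₁ htu₂ (Ne.symm c1) hu₁u₂ (Ne.symm c2) (Ne.symm c3)
  -- every involution is conjugate to `t`
  have hconj : ∀ a : G, a ≠ 1 → a ^ 2 = 1 → ∃ g : G, g⁻¹ * a * g = t := by
    intro a ha1 ha2
    have hZa : IsPGroup r (zpowers a) := by
      apply IsPGroup.of_card (n := 1)
      rw [Nat.card_zpowers, pow_one, hr2]
      exact orderOf_eq_prime ha2 ha1
    obtain ⟨g, hg⟩ := exists_conj_mem_sylow R (zpowers a) hZa
    have h1 : g⁻¹ * a * g ∈ (R : Subgroup G) := hg a (mem_zpowers a)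
    have h2 : (g⁻¹ * a * g) ^ 2 = 1 := by
      have e : g⁻¹ * a * g = g⁻¹ * a * g⁻¹⁻¹ := by rw [inv_inv]
      rw [e, conj_pow, ha2]
      group
    have h3 : g⁻¹ * a * g ∈ W := (hWmem _).mpr ⟨h1, by rw [hr2]; exact h2⟩
    have h4 : g⁻¹ * a * g ≠ 1 := by
      intro e
      apply ha1
      calc a = g * (g⁻¹ * a * g) * g⁻¹ := by group
        _ = 1 := by rw [e]; group
    rcases hW3 _ h3 h4 with e | e | e
    · exact ⟨g, e⟩
    · refine ⟨g * z, ?_⟩
      calc (g * z)⁻¹ * a * (g * z) = z⁻¹ * (g⁻¹ * a * g) * z := by group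
        _ = z⁻¹ * (z * t * z⁻¹) * z := by rw [e]
        _ = t := by group
    · refine ⟨g * z⁻¹, ?_⟩
      calc (g * z⁻¹)⁻¹ * a * (g * z⁻¹) = z * (g⁻¹ * a * g) * z⁻¹ := by group
        _ = z * (z⁻¹ * t * z) * z⁻¹ := by rw [e]
        _ = t := by group
  -- (U): `t` is the only involution centralising `P`
  have hU : ∀ s : G, s ≠ 1 → s ^ 2 = 1 → (∀ u ∈ (P : Subgroup G), s * u = u * s) → s = t := by
    intro s hs1 hs2 hsC
    have hscop : (orderOf s).Coprime p := hinvcop s hs2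
    have hsR : s ∈ (R : Subgroup G) := by
      refine Cfsg.Agent.Lead.mem_sylow_of_mem_normalizer R s 1
        (by rw [pow_one, hr2]; exact hs2) ?_
      apply mem_normalizer_of_conj_mem'
      intro v hv
      have e : s * v = v * s := (hB1 s hsC hscop v (hRN hv)).symm
      have e' : s * v * s⁻¹ = v := by rw [e, mul_inv_cancel_right]
      rw [e']
      exact hv
    have hsW : s ∈ W := (hWmem s).mpr ⟨hsR, by rw [hr2]; exact hs2⟩
    rcases hW3 s hsW hs1 with e | e | e
    · exact e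
    · exfalso
      apply hKB s hsW hs1 hsC
      have e2 : z⁻¹ * s * z = t := by
        rw [e]
        group
      rw [e2]
      exact htC
    · exfalso
      apply hKB t htW ht1 htC
      rw [← e]
      exact hsC
  -- (AB): the common centraliser of two distinct involutions is abelian
  have hAB : ∀ a b : G, a ≠ 1 → a ^ 2 = 1 → b ≠ 1 → b ^ 2 = 1 → a ≠ b →
      ∀ c ∈ cent2 a b, ∀ d ∈ cent2 a b, c * d = d * c := by
    intro a b ha1 ha2 hb1 hb2 hab'
    have hpc : ¬ p ∣ Nat.card (cent2 a b) := by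
      intro hdvd
      obtain ⟨x, hx⟩ := exists_prime_orderOf_dvd_card' p hdvd
      have hxo : orderOf (x : G) = p := by
        rw [Subgroup.orderOf_coe]
        exact hx
      obtain ⟨hxa, hxb⟩ := (mem_cent2 a b (x : G)).mp x.2
      obtain ⟨g, hg⟩ := hconj a ha1 ha2
      have hx't : (g⁻¹ * (x : G) * g) * t = t * (g⁻¹ * (x : G) * g) := by
        rw [← hg]
        exact (conj_comm_iff g (x : G) a).mpr hxa
      have hx'N := htN _ hx't
      have hx'o : orderOf (g⁻¹ * (x : G) * g) = p := by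
        rw [orderOf_conj']
        exact hxo
      have hx'p : (g⁻¹ * (x : G) * g) ^ p ^ 1 = 1 := by
        have := pow_orderOf_eq_one (g⁻¹ * (x : G) * g)
        rw [hx'o] at this
        rw [pow_one]
        exact this
      have hx'P : g⁻¹ * (x : G) * g ∈ (P : Subgroup G) :=
        Cfsg.Agent.Lead.mem_sylow_of_mem_normalizer P _ 1 hx'p hx'N
      have hx'1 : g⁻¹ * (x : G) * g ≠ 1 := by
        intro e
        rw [e, orderOf_one] at hx'o
        exact hp.1.one_lt.ne hx'o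
      have hb'x : (g⁻¹ * b * g) * (g⁻¹ * (x : G) * g) =
          (g⁻¹ * (x : G) * g) * (g⁻¹ * b * g) :=
        (conj_comm_iff g b (x : G)).mpr hxb.symm
      have hb'N := h.cent_mem_N _ hx'P hx'1 _ hb'x
      have hb'2 : (g⁻¹ * b * g) ^ 2 = 1 := by
        have e : g⁻¹ * b * g = g⁻¹ * b * g⁻¹⁻¹ := by rw [inv_inv]
        rw [e, conj_pow, hb2]
        group
      have hb'C := h.centP _ hb'N (hinvcop _ hb'2) _ hx'P hx'1 hb'x
      have hb'1 : g⁻¹ * b * g ≠ 1 := by
        intro e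
        apply hb1
        calc b = g * (g⁻¹ * b * g) * g⁻¹ := by group
          _ = 1 := by rw [e]; group
      have hb't := hU _ hb'1 hb'2 hb'C
      apply hab'
      calc a = g * (g⁻¹ * a * g) * g⁻¹ := by group
        _ = g * (g⁻¹ * b * g) * g⁻¹ := by rw [hg, hb't]
        _ = b := by group
    have hcomm := h.hab _ hpc
    intro c hc d hd
    exact congrArg Subtype.val (isMulCommutative_iff.mp hcomm ⟨c, hc⟩ ⟨d, hd⟩)
  -- existence of a common neighbour
  have hex : ∀ a b : G, a ≠ 1 → a ^ 2 = 1 → b ≠ 1 → b ^ 2 = 1 → a ≠ b →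
      ∃ c : G, c ≠ 1 ∧ c ^ 2 = 1 ∧ c ≠ a ∧ c ≠ b ∧ c * a = a * c ∧ c * b = b * c := by
    intro a b ha1 ha2 hb1 hb2 hab'
    have hbinv : b⁻¹ = b := by rw [inv_eq_iff_mul_eq_one, ← sq, hb2]
    by_cases hc : a * b = b * a
    · refine ⟨a * b, ?_, ?_, ?_, ?_, ?_, ?_⟩
      · intro e
        exact hab' ((eq_inv_of_mul_eq_one_left e).trans hbinv)
      · rw [(show Commute a b from hc).mul_pow, ha2, hb2, one_mul]
      · intro e
        apply hb1
        have e' : a * b = a * 1 := by rw [e, mul_one]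
        exact mul_left_cancel e'
      · intro e
        apply ha1
        have e' : a * b = 1 * b := by rw [e, one_mul]
        exact mul_right_cancel e'
      · calc a * b * a = a * (b * a) := mul_assoc _ _ _
          _ = a * (a * b) := by rw [hc]
      · calc a * b * b = b * a * b := by rw [hc]
          _ = b * (a * b) := mul_assoc _ _ _
    · obtain ⟨x, hxo, hxa, hxb⟩ := exists_inverted_of_not_comm p hp2 h.hab a b ha2 hb2 hc
      have hZx : IsPGroup p (zpowers x) := by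
        apply IsPGroup.of_card (n := 1)
        rw [Nat.card_zpowers, hxo, pow_one]
      obtain ⟨g, hg⟩ := exists_conj_mem_sylow P (zpowers x) hZx
      have hx'P : g⁻¹ * x * g ∈ (P : Subgroup G) := hg x (mem_zpowers x)
      have hx'o : orderOf (g⁻¹ * x * g) = p := by
        rw [orderOf_conj']
        exact hxo
      have hxinv : x⁻¹ ≠ x := by
        intro e
        have e2 : x ^ 2 = 1 := by
          rw [sq]
          exact inv_eq_iff_mul_eq_one.mp e
        have h2 : orderOf x ∣ 2 := orderOf_dvd_of_pow_eq_one e2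
        rw [hxo, hp3] at h2
        omega
      have haux : ∀ e : G, e * x * e⁻¹ = x⁻¹ →
          (g * t * g⁻¹) * e = e * (g * t * g⁻¹) ∧ g * t * g⁻¹ ≠ e := by
        intro e he
        have he' : (g⁻¹ * e * g) * (g⁻¹ * x * g) * (g⁻¹ * e * g)⁻¹ = (g⁻¹ * x * g)⁻¹ := by
          calc (g⁻¹ * e * g) * (g⁻¹ * x * g) * (g⁻¹ * e * g)⁻¹
              = g⁻¹ * (e * x * e⁻¹) * g := by group
            _ = g⁻¹ * x⁻¹ * g := by rw [he]
            _ = (g⁻¹ * x * g)⁻¹ := by group
        have heN : g⁻¹ * e * g ∈ normalizer ((P : Subgroup G) : Set G) := by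
          apply h.mem_N_of_conj _ hx'P hx'o
          rw [he']
          exact inv_mem hx'P
        have hcomm := hB1 t htC htcop _ heN
        constructor
        · calc (g * t * g⁻¹) * e = g * (t * (g⁻¹ * e * g)) * g⁻¹ := by group
            _ = g * ((g⁻¹ * e * g) * t) * g⁻¹ := by rw [hcomm]
            _ = e * (g * t * g⁻¹) := by group
        · intro hce
          have e1 : g⁻¹ * e * g = t := by
            rw [← hce]
            group
          rw [e1] at he'
          have e2 := htC _ hx'P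
          rw [e2, mul_inv_cancel_right] at he'
          apply hxinv
          have e3 : g⁻¹ * x⁻¹ * g = g⁻¹ * x * g := by
            calc g⁻¹ * x⁻¹ * g = (g⁻¹ * x * g)⁻¹ := by group
              _ = g⁻¹ * x * g := he'.symm
          exact mul_left_cancel (mul_right_cancel e3)
      obtain ⟨hca, hcna⟩ := haux a hxa
      obtain ⟨hcb, hcnb⟩ := haux b hxb
      refine ⟨g * t * g⁻¹, ?_, ?_, hcna, hcnb, hca, hcb⟩
      · intro e
        apply ht1
        calc t = g⁻¹ * (g * t * g⁻¹) * g := by group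
          _ = 1 := by rw [e]; group
      · rw [conj_pow, ht2]
        group
  -- uniqueness of the common neighbour
  have huniq : ∀ a b c d : G, a ≠ 1 → a ^ 2 = 1 → b ≠ 1 → b ^ 2 = 1 → c ≠ 1 → c ^ 2 = 1 →
      d ≠ 1 → d ^ 2 = 1 → a ≠ b → c ≠ d → c ≠ a → c ≠ b → d ≠ a → d ≠ b →
      c * a = a * c → c * b = b * c → d * a = a * d → d * b = b * d → False := by
    intro a b c d ha1 ha2 hb1 hb2 hc1 hc2 hd1 hd2 hab' hcd hca hcb hda hdb hca' hcb' hda' hdb'
    have hab'' : a * b = b * a :=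
      hAB c d hc1 hc2 hd1 hd2 hcd a ((mem_cent2 c d a).mpr ⟨hca'.symm, hda'.symm⟩) b
        ((mem_cent2 c d b).mpr ⟨hcb'.symm, hdb'.symm⟩)
    obtain ⟨E, hE⟩ : ∃ E : Subgroup G,
        E = omegaSub (cent2 a b) (hAB a b ha1 ha2 hb1 hb2 hab') 2 := ⟨_, rfl⟩
    have hEmem : ∀ v : G, v ∈ E ↔ v ∈ cent2 a b ∧ v ^ 2 = 1 := by
      intro v
      rw [hE]
      exact mem_omegaSub _ _ 2 v
    have haE : a ∈ E := (hEmem a).mpr ⟨(mem_cent2 a b a).mpr ⟨rfl, hab''⟩, ha2⟩
    have hbE : b ∈ E := (hEmem b).mpr ⟨(mem_cent2 a b b).mpr ⟨hab''.symm, rfl⟩, hb2⟩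
    have hcE : c ∈ E := (hEmem c).mpr ⟨(mem_cent2 a b c).mpr ⟨hca', hcb'⟩, hc2⟩
    have hdE : d ∈ E := (hEmem d).mpr ⟨(mem_cent2 a b d).mpr ⟨hda', hdb'⟩, hd2⟩
    have hEp : IsPGroup r E := by
      rw [IsPGroup]
      rintro ⟨v, hv⟩
      refine ⟨1, ?_⟩
      apply Subtype.ext
      show v ^ r ^ 1 = 1
      rw [pow_one, hr2]
      exact ((hEmem v).mp hv).2
    obtain ⟨g, hg⟩ := exists_conj_mem_sylow R E hEp
    have hEW : ∀ v ∈ E, g⁻¹ * v * g ∈ W := by
      intro v hv
      refine (hWmem _).mpr ⟨hg v hv, ?_⟩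
      have e : g⁻¹ * v * g = g⁻¹ * v * g⁻¹⁻¹ := by rw [inv_inv]
      rw [e, conj_pow, hr2, ((hEmem v).mp hv).2]
      group
    have hne1 : ∀ v : G, v ≠ 1 → g⁻¹ * v * g ≠ 1 := by
      intro v hv e
      apply hv
      calc v = g * (g⁻¹ * v * g) * g⁻¹ := by group
        _ = 1 := by rw [e]; group
    have hne : ∀ v w : G, v ≠ w → g⁻¹ * v * g ≠ g⁻¹ * w * g := by
      intro v w hvw e
      exact hvw (mul_left_cancel (mul_right_cancel e))
    exact no_four_of_card_le W hW4 _ _ _ _ (hEW a haE) (hEW b hbE) (hEW c hcE) (hEW d hdE)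
      (hne1 a ha1) (hne1 b hb1) (hne1 c hc1) (hne1 d hd1) (hne a b hab')
      (hne a c (Ne.symm hca)) (hne a d (Ne.symm hda)) (hne b c (Ne.symm hcb))
      (hne b d (Ne.symm hdb)) (hne c d hcd)
  -- the friendship theorem
  obtain ⟨τ, hτ1, hτ2, hτall⟩ := Cfsg.Agent.Helper23.Friend.friendship_involutions
    ⟨t, ht1, ht2⟩ hex huniq
  have hall : ∀ a b : G, a ≠ 1 → a ^ 2 = 1 → b ≠ 1 → b ^ 2 = 1 → a * b = b * a := by
    intro a b ha1 ha2 hb1 hb2
    obtain ⟨g, hg⟩ := hconj a ha1 ha2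
    obtain ⟨k, hk⟩ := hconj τ hτ1 hτ2
    have ea : a = (g * k⁻¹) * τ * (g * k⁻¹)⁻¹ := by
      calc a = g * (g⁻¹ * a * g) * g⁻¹ := by group
        _ = g * (k⁻¹ * τ * k) * g⁻¹ := by rw [hg, hk]
        _ = (g * k⁻¹) * τ * (g * k⁻¹)⁻¹ := by group
    have hb'1 : (g * k⁻¹)⁻¹ * b * (g * k⁻¹) ≠ 1 := by
      intro e
      apply hb1
      calc b = (g * k⁻¹) * ((g * k⁻¹)⁻¹ * b * (g * k⁻¹)) * (g * k⁻¹)⁻¹ := by group
        _ = 1 := by rw [e]; group
    have hb'2 : ((g * k⁻¹)⁻¹ * b * (g * k⁻¹)) ^ 2 = 1 := by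
      have e : (g * k⁻¹)⁻¹ * b * (g * k⁻¹) = (g * k⁻¹)⁻¹ * b * (g * k⁻¹)⁻¹⁻¹ := by
        rw [inv_inv]
      rw [e, conj_pow, hb2]
      group
    have e1 := hτall _ hb'1 hb'2
    rw [ea]
    calc (g * k⁻¹) * τ * (g * k⁻¹)⁻¹ * b
        = (g * k⁻¹) * (τ * ((g * k⁻¹)⁻¹ * b * (g * k⁻¹))) * (g * k⁻¹)⁻¹ := by group
      _ = (g * k⁻¹) * (((g * k⁻¹)⁻¹ * b * (g * k⁻¹)) * τ) * (g * k⁻¹)⁻¹ := by rw [e1]
      _ = b * ((g * k⁻¹) * τ * (g * k⁻¹)⁻¹) := by group
  -- final contradiction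
  apply hu₁nc
  intro u hu
  have hu₁2 : (z * t * z⁻¹) ^ 2 = 1 := hW2 _ hu₁W
  have hu₁inv : (z * t * z⁻¹)⁻¹ = z * t * z⁻¹ := by rw [inv_eq_iff_mul_eq_one, ← sq, hu₁2]
  have h1 : u * (z * t * z⁻¹) * u⁻¹ ≠ 1 := by
    intro e
    apply hu₁1
    calc z * t * z⁻¹ = u⁻¹ * (u * (z * t * z⁻¹) * u⁻¹) * u := by group
      _ = 1 := by rw [e]; group
  have h2 : (u * (z * t * z⁻¹) * u⁻¹) ^ 2 = 1 := by
    rw [conj_pow, hu₁2]
    group
  have h3 := hall _ _ hu₁1 hu₁2 h1 h2
  have he : (z * t * z⁻¹) * u * (z * t * z⁻¹)⁻¹ * u⁻¹ ∈ (P : Subgroup G) :=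
    mul_mem (conjN _ _ (hWN hu₁W) u hu) (inv_mem hu)
  have he2 : ((z * t * z⁻¹) * u * (z * t * z⁻¹)⁻¹ * u⁻¹) ^ 2 = 1 := by
    rw [hu₁inv]
    have e : (z * t * z⁻¹) * u * (z * t * z⁻¹) * u⁻¹ =
        (z * t * z⁻¹) * (u * (z * t * z⁻¹) * u⁻¹) := by group
    rw [e, (show Commute (z * t * z⁻¹) (u * (z * t * z⁻¹) * u⁻¹) from h3).mul_pow, hu₁2, h2,
      one_mul]
  obtain ⟨k, hk⟩ := hppow _ he
  have he1 := eq_one_of_ppow_of_coprime _ k hk (hinvcop _ he2)
  calc (z * t * z⁻¹) * u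
      = ((z * t * z⁻¹) * u * (z * t * z⁻¹)⁻¹ * u⁻¹) * u * (z * t * z⁻¹) := by group
    _ = u * (z * t * z⁻¹) := by rw [he1, one_mul]

end MinCE

/-- Main induction. -/
theorem cyc_main (p : ℕ) [hp : Fact p.Prime] :
    ∀ (n : ℕ) (G : Type u) [Group G] [Finite G], Nat.card G = n → CycStmt p G := by
  intro n
  induction n using Nat.strong_induction_on with
  | _ n ih =>
    intro G _ _ hn
    unfold CycStmt
    intro P hcyc hab
    by_contra hcon
    obtain ⟨hNC, hnn⟩ := not_or.mp hcon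
    haveI : IsCyclic (P : Subgroup G) := hcyc
    have hPab := cyc_comm (P : Subgroup G)
    obtain ⟨n₀, hn₀N, hn₀C⟩ := SetLike.not_le_iff_exists.mp hNC
    obtain ⟨c, a, k, hc, ha, hnca, hck, hac⟩ := Cfsg.Agent.Lead.exists_p_decomp p n₀
    have hcN : c ∈ normalizer ((P : Subgroup G) : Set G) := by
      obtain ⟨i, hi⟩ := Subgroup.mem_zpowers_iff.mp hc
      rw [← hi]
      exact zpow_mem hn₀N i
    have haN : a ∈ normalizer ((P : Subgroup G) : Set G) := by
      obtain ⟨i, hi⟩ := Subgroup.mem_zpowers_iff.mp ha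
      rw [← hi]
      exact zpow_mem hn₀N i
    have hcP : c ∈ (P : Subgroup G) := Cfsg.Agent.Lead.mem_sylow_of_mem_normalizer P c k hck hcN
    have haC : ¬ ∀ u ∈ (P : Subgroup G), a * u = u * a := by
      intro haC'
      apply hn₀C
      rw [Subgroup.mem_centralizer_iff]
      intro u hu
      rw [hnca]
      calc u * (c * a) = (u * c) * a := (mul_assoc _ _ _).symm
        _ = (c * u) * a := by rw [hPab u hu c hcP]
        _ = c * (u * a) := mul_assoc _ _ _
        _ = c * (a * u) := by rw [haC' u hu]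
        _ = c * a * u := (mul_assoc _ _ _).symm
    have hPbot : (P : Subgroup G) ≠ ⊥ := by
      intro hbot
      apply hnn
      rw [hbot]
      infer_instance
    obtain ⟨x₀, hx₀, hx₀1⟩ : ∃ x ∈ (P : Subgroup G), x ≠ 1 := by
      by_contra h'
      apply hPbot
      rw [Subgroup.eq_bot_iff_forall]
      intro v hv
      by_contra hv1
      exact h' ⟨v, hv, hv1⟩
    obtain ⟨k₀, hk₀⟩ := sylow_ppow P x₀ hx₀
    obtain ⟨i₀, hi₀⟩ := exists_order_p_power x₀ k₀ hk₀ hx₀1
    have hmin : MinCE p G P a (x₀ ^ i₀) :=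
      { ih := fun H _ _ hlt => ih (Nat.card H) (lt_of_lt_of_eq hlt hn) H rfl
        cyc := hcyc
        hab := hab
        nn := hnn
        yN := haN
        ycop := hac
        yfix := by
          intro u hu hau
          by_contra hu1
          exact haC (cyc_centralize (P : Subgroup G) P.isPGroup' a haN hac u hu hu1 hau)
        x₁P := pow_mem hx₀ i₀
        x₁ord := hi₀ }
    by_cases hA : ∀ w : G, (∀ u ∈ (P : Subgroup G), w * u = u * w) →
        (orderOf w).Coprime p → w = 1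
    · exact hmin.caseA hA
    · have hexw : ∃ w : G, (∀ u ∈ (P : Subgroup G), w * u = u * w) ∧
          (orderOf w).Coprime p ∧ w ≠ 1 := by
        by_contra h'
        apply hA
        intro w hw hwc
        by_contra hw1
        exact h' ⟨w, hw, hwc, hw1⟩
      obtain ⟨w, hwC, hwcop, hw1⟩ := hexw
      have hwo : orderOf w ≠ 1 := fun e => hw1 (orderOf_eq_one_iff.mp e)
      have hrprime : (orderOf w).minFac.Prime := Nat.minFac_prime hwo
      haveI : Fact (orderOf w).minFac.Prime := ⟨hrprime⟩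
      have hrdvd : (orderOf w).minFac ∣ orderOf w := Nat.minFac_dvd _
      have hrp : (orderOf w).minFac ≠ p := by
        intro e
        have hrdvd' := hrdvd
        rw [e] at hrdvd'
        exact not_dvd_of_coprime hp.1 hwcop hrdvd'
      have hwpos : orderOf w ≠ 0 := (orderOf_pos w).ne'
      have hdiv0 : orderOf w / (orderOf w).minFac ≠ 0 := by
        intro e
        have e' := Nat.div_mul_cancel hrdvd
        rw [e, zero_mul] at e'
        exact hwpos e'.symm
      have hto : orderOf (w ^ (orderOf w / (orderOf w).minFac)) = (orderOf w).minFac := by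
        rw [orderOf_pow_of_dvd hdiv0 (Nat.div_dvd_of_dvd hrdvd), Nat.div_div_self hrdvd hwpos]
      exact hmin.caseB (w ^ (orderOf w / (orderOf w).minFac)) (orderOf w).minFac hrp hto
        (fun u hu => (Commute.pow_left (show Commute w u from hwC u hu) _).eq)

end Cfsg.Agent.Helper23.Cyc
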