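import Mathlib
import Cfsg.Agent.S3820
import Cfsg.Agent.Helper1.Basic

set_option autoImplicit false

namespace Cfsg.Agent.Helper23

open Cfsg Cfsg.Agent.Helper20
open scoped Pointwise

theorem pn_conj_inj {G : Type*} [Group G] (g : G) :
    Function.Injective (MulAut.conj g).toMonoidHom := (MulAut.conj g).injective

theorem pn_conj_surj {G : Type*} [Group G] (g : G) :
    Function.Surjective (MulAut.conj g).toMonoidHom := (MulAut.conj g).surjective

theorem pn_conj_smul_eq_map {G : Type*} [Group G] (g : G) (K : Subgroup G) :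
    MulAut.conj g • K = K.map (MulAut.conj g).toMonoidHom := by
  ext y
  rw [Cfsg.Agent.Helper1.mem_conj_smul, mem_map_conj]

theorem pn_map_conj_map {X Y : Type*} [Group X] [Group Y] (f : X →* Y) (K : Subgroup X) (x : X) :
    (K.map (MulAut.conj x).toMonoidHom).map f
      = (K.map f).map (MulAut.conj (f x)).toMonoidHom := by
  have h : f.comp (MulAut.conj x).toMonoidHom = (MulAut.conj (f x)).toMonoidHom.comp f := by
    ext y
    simp
  rw [Subgroup.map_map, Subgroup.map_map, h]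

/-- Two Sylow subgroups are conjugate inside their join. -/
theorem pn_sylow_conj_in_sup {X : Type*} [Group X] [Finite X] {p : ℕ} [Fact p.Prime]
    (P₁ P₂ : Sylow p X) :
    ∃ x ∈ (P₁ : Subgroup X) ⊔ (P₂ : Subgroup X),
      (P₂ : Subgroup X) = (P₁ : Subgroup X).map (MulAut.conj x).toMonoidHom := by
  have h1 : (P₁ : Subgroup X) ≤ (P₁ : Subgroup X) ⊔ (P₂ : Subgroup X) := le_sup_left
  have h2 : (P₂ : Subgroup X) ≤ (P₁ : Subgroup X) ⊔ (P₂ : Subgroup X) := le_sup_right
  obtain ⟨j, hj⟩ := MulAction.exists_smul_eq ↥((P₁ : Subgroup X) ⊔ (P₂ : Subgroup X))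
    (P₁.subtype h1) (P₂.subtype h2)
  rw [Sylow.smul_subtype h1 j] at hj
  have hj2 : j • P₁ = P₂ := Sylow.subtype_injective hj
  refine ⟨j, j.2, ?_⟩
  ext y
  have hmem : y ∈ (P₂ : Subgroup X) ↔ y ∈ ((j • P₁ : Sylow p X) : Subgroup X) := by rw [hj2]
  rw [mem_map_conj, hmem]
  show y ∈ MulAut.conj (j : X) • (P₁ : Subgroup X) ↔ _
  exact Cfsg.Agent.Helper1.mem_conj_smul

theorem pn_sylow_pronormal {G : Type*} [Group G] [Finite G] {p : ℕ} [Fact p.Prime]
    (P : Sylow p G) : Cfsg.IsPronormal (P : Subgroup G) := by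
  intro g
  obtain ⟨x, hx, hxe⟩ := pn_sylow_conj_in_sup P (g • P)
  have e : ((g • P : Sylow p G) : Subgroup G)
      = (P : Subgroup G).map (MulAut.conj g).toMonoidHom := by
    rw [Sylow.coe_subgroup_smul, pn_conj_smul_eq_map]
  rw [e] at hx hxe
  exact ⟨x, hx, hxe⟩

theorem pn_eq_of_pgroup_ge {G : Type*} [Group G] {p : ℕ} (A : Subgroup G)
    (PA : Sylow p ↥A) (T' : Subgroup G) (hT'A : T' ≤ A) (hT' : IsPGroup p T')
    (hle : (PA : Subgroup ↥A).map A.subtype ≤ T') : T' = (PA : Subgroup ↥A).map A.subtype := by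
  have h1 : IsPGroup p (T'.subgroupOf A) := hT'.comap_subtype
  have h2 : (PA : Subgroup ↥A) ≤ T'.subgroupOf A := by
    intro x hx
    rw [Subgroup.mem_subgroupOf]
    exact hle (Subgroup.mem_map_of_mem A.subtype hx)
  have h3 : T'.subgroupOf A = PA := PA.is_maximal' h1 h2
  rw [← h3, Subgroup.map_subgroupOf_eq_of_le hT'A]

theorem pn_conj_of_card_eq {G : Type*} [Group G] [Finite G] {p : ℕ} [Fact p.Prime]
    (A : Subgroup G) (PA : Sylow p ↥A) (T' : Subgroup G) (hT'A : T' ≤ A)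
    (hcard : Nat.card T' = Nat.card ((PA : Subgroup ↥A).map A.subtype)) :
    ∃ d ∈ (PA : Subgroup ↥A).map A.subtype ⊔ T',
      T' = ((PA : Subgroup ↥A).map A.subtype).map (MulAut.conj d).toMonoidHom := by
  have hc : Nat.card (T'.subgroupOf A) = p ^ (Nat.card A).factorization p := by
    rw [Nat.card_congr (Subgroup.subgroupOfEquivOfLe hT'A).toEquiv, hcard,
      Subgroup.card_map_of_injective A.subtype_injective, PA.card_eq_multiplicity]
  obtain ⟨x, hx, hxe⟩ := pn_sylow_conj_in_sup PA (Sylow.ofCard (T'.subgroupOf A) hc)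
  rw [Sylow.coe_ofCard] at hx hxe
  refine ⟨x, ?_, ?_⟩
  · have h1 := Subgroup.mem_map_of_mem A.subtype hx
    rw [Subgroup.map_sup, Subgroup.map_subgroupOf_eq_of_le hT'A] at h1
    exact h1
  · have h1 := congrArg (Subgroup.map A.subtype) hxe
    rw [Subgroup.map_subgroupOf_eq_of_le hT'A, pn_map_conj_map] at h1
    exact h1

theorem pn_exists_sylow_le {G : Type*} [Group G] [Finite G] {p : ℕ} [Fact p.Prime]
    (K : Subgroup G) (h : ¬ p ∣ K.index) : ∃ P : Sylow p G, (P : Subgroup G) ≤ K := by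
  obtain ⟨P'⟩ : Nonempty (Sylow p ↥K) := inferInstance
  have hidx : K.index ≠ 0 := by
    intro h0
    apply h
    rw [h0]
    exact dvd_zero p
  have hc : Nat.card ((P' : Subgroup ↥K).map K.subtype) = p ^ (Nat.card G).factorization p := by
    rw [Subgroup.card_map_of_injective K.subtype_injective, P'.card_eq_multiplicity,
      ← K.card_mul_index, Nat.factorization_mul Nat.card_pos.ne' hidx, Finsupp.add_apply,
      Nat.factorization_eq_zero_of_not_dvd h, add_zero]
  exact ⟨Sylow.ofCard _ hc, Subgroup.map_subtype_le _⟩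

theorem pn_not_dvd_index_of_sylow_le {G : Type*} [Group G] [Finite G] {p : ℕ} [Fact p.Prime]
    (K : Subgroup G) (P : Sylow p G) (h : (P : Subgroup G) ≤ K) : ¬ p ∣ K.index :=
  fun hd => P.not_dvd_index (dvd_trans hd (Subgroup.index_dvd_of_le h))

theorem pn_subgroupOf {G : Type*} [Group G] (K N : Subgroup G) (hKN : K ≤ N)
    (h : Cfsg.IsPronormal K) : Cfsg.IsPronormal (K.subgroupOf N) := by
  intro n
  obtain ⟨x, hx, hxe⟩ := h (n : G)
  have hcj : K.map (MulAut.conj (n : G)).toMonoidHom ≤ N := map_conj_le_of_mem K N n hKN n.2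
  have hxN : x ∈ N := (sup_le hKN hcj) hx
  refine ⟨⟨x, hxN⟩, ?_, ?_⟩
  · rw [subgroupOf_map_conj, ← Subgroup.subgroupOf_sup hKN hcj, Subgroup.mem_subgroupOf]
    exact hx
  · rw [subgroupOf_map_conj, subgroupOf_map_conj]
    exact congrArg (fun L : Subgroup G => L.subgroupOf N) hxe

theorem pn_map {X Y : Type*} [Group X] [Group Y] (f : X →* Y) (hf : Function.Surjective f)
    (K : Subgroup X) (h : Cfsg.IsPronormal K) : Cfsg.IsPronormal (K.map f) := by
  intro c
  obtain ⟨n, rfl⟩ := hf c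
  obtain ⟨x, hx, hxe⟩ := h n
  refine ⟨f x, ?_, ?_⟩
  · rw [← pn_map_conj_map f K n, ← Subgroup.map_sup]
    exact Subgroup.mem_map_of_mem f hx
  · rw [← pn_map_conj_map f K n, ← pn_map_conj_map f K x, hxe]

theorem pn_of_map {X Y : Type*} [Group X] [Group Y] (f : X →* Y)
    (K : Subgroup X) (hker : f.ker ≤ K) (h : Cfsg.IsPronormal (K.map f)) :
    Cfsg.IsPronormal K := by
  intro n
  obtain ⟨c, hc, hce⟩ := h (f n)
  rw [← pn_map_conj_map f K n, ← Subgroup.map_sup] at hc
  obtain ⟨x, hx, rfl⟩ := Subgroup.mem_map.mp hc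
  refine ⟨x, hx, ?_⟩
  rw [← pn_map_conj_map f K n, ← pn_map_conj_map f K x] at hce
  have hk : ∀ y : X, f.ker ≤ K.map (MulAut.conj y).toMonoidHom := by
    intro y k hk
    rw [mem_map_conj]
    apply hker
    have h1 := (MonoidHom.normal_ker f).conj_mem k hk y⁻¹
    rwa [inv_inv] at h1
  have e1 := congrArg (Subgroup.comap f) hce
  rw [Subgroup.comap_map_eq, Subgroup.comap_map_eq, sup_eq_left.mpr (hk n),
    sup_eq_left.mpr (hk x)] at e1
  exact e1

theorem pn_of_conj {G : Type*} [Group G] (H : Subgroup G) (a : G)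
    (h : Cfsg.IsPronormal (H.map (MulAut.conj a).toMonoidHom)) : Cfsg.IsPronormal H := by
  have h1 := pn_map (MulAut.conj a⁻¹).toMonoidHom (pn_conj_surj a⁻¹) _ h
  rwa [map_conj_mul, inv_mul_cancel, map_conj_one] at h1

theorem pn_elim {G : Type*} [Group G] (A D : Subgroup G) (hDA : D ≤ A)
    (h : Cfsg.IsPronormal (D.subgroupOf A)) (a : G) (ha : a ∈ A) :
    ∃ y ∈ D ⊔ D.map (MulAut.conj a).toMonoidHom, y ∈ A ∧
      D.map (MulAut.conj a).toMonoidHom = D.map (MulAut.conj y).toMonoidHom := by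
  obtain ⟨y, hy, hye⟩ := h ⟨a, ha⟩
  have hcj : D.map (MulAut.conj a).toMonoidHom ≤ A := map_conj_le_of_mem D A a hDA ha
  have hcjy : D.map (MulAut.conj (y : G)).toMonoidHom ≤ A :=
    map_conj_le_of_mem D A y hDA y.2
  rw [subgroupOf_map_conj] at hy
  change y ∈ D.subgroupOf A ⊔ (D.map (MulAut.conj a).toMonoidHom).subgroupOf A at hy
  rw [← Subgroup.subgroupOf_sup hDA hcj, Subgroup.mem_subgroupOf] at hy
  rw [subgroupOf_map_conj, subgroupOf_map_conj] at hye
  change (D.map (MulAut.conj a).toMonoidHom).subgroupOf A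
    = (D.map (MulAut.conj (y : G)).toMonoidHom).subgroupOf A at hye
  refine ⟨y, hy, y.2, ?_⟩
  have e := congrArg (Subgroup.map A.subtype) hye
  rw [Subgroup.map_subgroupOf_eq_of_le hcj, Subgroup.map_subgroupOf_eq_of_le hcjy] at e
  exact e

theorem pn_exists_sylow_ge {G : Type*} [Group G] [Finite G] {p : ℕ} [Fact p.Prime]
    (A : Subgroup G) [hAn : A.Normal] (PA : Sylow p ↥A) (T : Subgroup G)
    (hT : (PA : Subgroup ↥A).map A.subtype = T) :
    ∃ S : Sylow p G, T ≤ (S : Subgroup G) ∧ (S : Subgroup G) ⊓ A = T ∧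
      (S : Subgroup G) ≤ Subgroup.normalizer (T : Set G) := by
  have hTp : IsPGroup p T := by rw [← hT]; exact PA.isPGroup'.map A.subtype
  obtain ⟨S, hS⟩ := hTp.exists_le_sylow
  have hTA : T ≤ A := by rw [← hT]; exact Subgroup.map_subtype_le _
  have hSA : (S : Subgroup G) ⊓ A = T := by
    have h1 := pn_eq_of_pgroup_ge A PA ((S : Subgroup G) ⊓ A) inf_le_right
      (S.isPGroup'.to_le inf_le_left) (by rw [hT]; exact le_inf hS hTA)
    rw [h1, hT]
  refine ⟨S, hS, hSA, ?_⟩
  intro s hs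
  apply mem_normalizer_of_map_conj_eq
  rw [← hSA, Subgroup.map_inf_eq _ _ _ (pn_conj_inj s),
    map_conj_eq_of_mem_normalizer (S : Subgroup G) s (Subgroup.le_normalizer hs),
    map_conj_eq_of_mem_normalizer A s (by rw [Subgroup.normalizer_eq_top]; exact Subgroup.mem_top s)]

theorem pn_h1 {G : Type*} [Group G] [Finite G] {p : ℕ} [Fact p.Prime]
    (T N : Subgroup G) [(T.subgroupOf N).Normal]
    (hNpro : ∀ K : Subgroup (↥N ⧸ T.subgroupOf N),
      (∃ P : Sylow p (↥N ⧸ T.subgroupOf N), (P : Subgroup (↥N ⧸ T.subgroupOf N)) ≤ K) →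
        Cfsg.IsPronormal K)
    (H : Subgroup G) (S : Sylow p G) (hSH : (S : Subgroup G) ≤ H) (hSN : (S : Subgroup G) ≤ N)
    (hTH : T ≤ H) : Cfsg.IsPronormal ((H ⊓ N).subgroupOf N) := by
  apply pn_of_map (QuotientGroup.mk' (T.subgroupOf N))
  · rw [QuotientGroup.ker_mk']
    intro x hx
    rw [Subgroup.mem_subgroupOf] at hx ⊢
    exact Subgroup.mem_inf.mpr ⟨hTH hx, x.2⟩
  · apply hNpro
    apply pn_exists_sylow_le
    intro hd
    have h1 : (((H ⊓ N).subgroupOf N).map (QuotientGroup.mk' (T.subgroupOf N))).index ∣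
        ((H ⊓ N).subgroupOf N).index :=
      Subgroup.index_map_dvd _ (QuotientGroup.mk'_surjective _)
    have h2 : ((H ⊓ N).subgroupOf N).index ∣ ((S : Subgroup G).subgroupOf N).index :=
      Subgroup.index_dvd_of_le (by
        intro x hx
        rw [Subgroup.mem_subgroupOf] at hx ⊢
        exact Subgroup.mem_inf.mpr ⟨hSH hx, x.2⟩)
    have h3 : ((S : Subgroup G).subgroupOf N).index ∣ (S : Subgroup G).index :=
      Dvd.intro _ (Subgroup.relIndex_mul_index hSN)
    exact S.not_dvd_index (dvd_trans hd (dvd_trans h1 (dvd_trans h2 h3)))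

/-- The key step: conjugation by elements of `A`. -/
theorem pn_claim {G : Type*} [Group G] [Finite G] {p : ℕ} [Fact p.Prime]
    (A : Subgroup G) [hAn : A.Normal]
    (hA : ∀ K : Subgroup ↥A, (∃ P : Sylow p ↥A, (P : Subgroup ↥A) ≤ K) → Cfsg.IsPronormal K)
    (PA : Sylow p ↥A) (T : Subgroup G) (hT : (PA : Subgroup ↥A).map A.subtype = T)
    (N : Subgroup G) (hN : N = Subgroup.normalizer (T : Set G))
    (H : Subgroup G) (hTH : T ≤ H)
    (hH1 : Cfsg.IsPronormal ((H ⊓ N).subgroupOf N))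
    (a : G) (ha : a ∈ A) :
    ∃ w ∈ H ⊔ H.map (MulAut.conj a).toMonoidHom,
      H.map (MulAut.conj a).toMonoidHom = H.map (MulAut.conj w).toMonoidHom := by
  have hTA : T ≤ A := by rw [← hT]; exact Subgroup.map_subtype_le _
  obtain ⟨D, hDdef⟩ : ∃ D : Subgroup G, D = H ⊓ A := ⟨_, rfl⟩
  have hDH : D ≤ H := by rw [hDdef]; exact inf_le_left
  have hDA : D ≤ A := by rw [hDdef]; exact inf_le_right
  have hTD : T ≤ D := by rw [hDdef]; exact le_inf hTH hTA
  have hcjA : ∀ g : G, A.map (MulAut.conj g).toMonoidHom = A := fun g =>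
    map_conj_eq_of_mem_normalizer A g
      (by rw [Subgroup.normalizer_eq_top]; exact Subgroup.mem_top g)
  have hcjD : ∀ g : G, g ∈ Subgroup.normalizer (H : Set G) →
      D.map (MulAut.conj g).toMonoidHom = D := by
    intro g hg
    rw [hDdef, Subgroup.map_inf_eq _ _ _ (pn_conj_inj g),
      map_conj_eq_of_mem_normalizer H g hg, hcjA g]
  -- (i) pronormality of `D` in `A`
  have hDpro : Cfsg.IsPronormal (D.subgroupOf A) := by
    apply hA
    refine ⟨PA, ?_⟩
    intro x hx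
    rw [Subgroup.mem_subgroupOf]
    apply hTD
    rw [← hT]
    exact Subgroup.mem_map_of_mem A.subtype hx
  obtain ⟨y, hyJ, hyA, hye⟩ := pn_elim A D hDA hDpro a ha
  obtain ⟨b, hbdef⟩ : ∃ b : G, b = y⁻¹ * a := ⟨_, rfl⟩
  have hbD : D.map (MulAut.conj b).toMonoidHom = D := by
    rw [hbdef, ← map_conj_mul, hye, map_conj_mul, inv_mul_cancel, map_conj_one]
  -- (ii) Sylow conjugacy inside `D`
  have hTcj : ∀ g : G, D.map (MulAut.conj g).toMonoidHom = D →
      ∃ d ∈ D, T.map (MulAut.conj g).toMonoidHom = T.map (MulAut.conj d).toMonoidHom := by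
    intro g hg
    have h1 : T.map (MulAut.conj g).toMonoidHom ≤ D :=
      calc T.map (MulAut.conj g).toMonoidHom ≤ D.map (MulAut.conj g).toMonoidHom :=
            map_conj_mono g hTD
        _ = D := hg
    have h2 : Nat.card (T.map (MulAut.conj g).toMonoidHom)
        = Nat.card ((PA : Subgroup ↥A).map A.subtype) := by
      rw [card_map_conj, hT]
    obtain ⟨d, hd, hde⟩ := pn_conj_of_card_eq A PA (T.map (MulAut.conj g).toMonoidHom)
      (h1.trans hDA) h2
    rw [hT] at hd hde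
    exact ⟨d, (sup_le hTD h1) hd, hde⟩
  obtain ⟨d, hdD, hde⟩ := hTcj b hbD
  obtain ⟨c, hcdef⟩ : ∃ c : G, c = d⁻¹ * b := ⟨_, rfl⟩
  have hcT : T.map (MulAut.conj c).toMonoidHom = T := by
    rw [hcdef, ← map_conj_mul, hde, map_conj_mul, inv_mul_cancel, map_conj_one]
  have hcN : c ∈ N := by
    rw [hN]
    exact mem_normalizer_of_map_conj_eq T c hcT
  have hdDn : D.map (MulAut.conj d⁻¹).toMonoidHom = D :=
    map_conj_eq_of_mem_normalizer D d⁻¹ (Subgroup.le_normalizer (D.inv_mem hdD))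
  have hcD : D.map (MulAut.conj c).toMonoidHom = D := by
    rw [hcdef, ← map_conj_mul, hbD, hdDn]
  -- (iii) pronormality of `H ⊓ N` in `N`
  obtain ⟨z, hzJ, hzN, hze⟩ := pn_elim N (H ⊓ N) inf_le_right hH1 c hcN
  -- (iv) `z` normalizes `D`
  have hzD : D.map (MulAut.conj z).toMonoidHom = D := by
    apply map_conj_eq_of_mem_normalizer
    have hle : (H ⊓ N) ⊔ (H ⊓ N).map (MulAut.conj c).toMonoidHom
        ≤ Subgroup.normalizer (D : Set G) := by
      apply sup_le
      · intro h hh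
        exact mem_normalizer_of_map_conj_eq D h
          (hcjD h (Subgroup.le_normalizer (Subgroup.mem_inf.mp hh).1))
      · intro x hx
        rw [mem_map_conj] at hx
        have h1 : c⁻¹ * x * c ∈ Subgroup.normalizer (D : Set G) :=
          mem_normalizer_of_map_conj_eq D _
            (hcjD _ (Subgroup.le_normalizer (Subgroup.mem_inf.mp hx).1))
        have h2 : c ∈ Subgroup.normalizer (D : Set G) := mem_normalizer_of_map_conj_eq D c hcD
        have h3 := Subgroup.mul_mem _ (Subgroup.mul_mem _ h2 h1) (Subgroup.inv_mem _ h2)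
        have e : c * (c⁻¹ * x * c) * c⁻¹ = x := by group
        rwa [e] at h3
    exact hle hzJ
  -- (v) Frattini decomposition of `H`
  have hfrat : ∀ h ∈ H, ∃ e ∈ D, e⁻¹ * h ∈ H ⊓ N := by
    intro h hh
    obtain ⟨e, heD, hee⟩ := hTcj h (hcjD h (Subgroup.le_normalizer hh))
    refine ⟨e, heD, Subgroup.mem_inf.mpr ⟨H.mul_mem (H.inv_mem (hDH heD)) hh, ?_⟩⟩
    rw [hN]
    apply mem_normalizer_of_map_conj_eq
    rw [← map_conj_mul, hee, map_conj_mul, inv_mul_cancel, map_conj_one]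
  -- (vi)
  have hle : H.map (MulAut.conj c).toMonoidHom ≤ H.map (MulAut.conj z).toMonoidHom := by
    intro x hx
    rw [mem_map_conj] at hx ⊢
    obtain ⟨e, heD, heh⟩ := hfrat _ hx
    have h1 : c * e * c⁻¹ ∈ D := by
      have h := conj_mem_map_conj D c e heD
      rwa [hcD] at h
    have h2 : z⁻¹ * (c * e * c⁻¹) * z ∈ D := by
      have h := h1
      rw [← hzD, mem_map_conj] at h
      exact h
    have h3 : c * (e⁻¹ * (c⁻¹ * x * c)) * c⁻¹ ∈ (H ⊓ N).map (MulAut.conj c).toMonoidHom :=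
      conj_mem_map_conj (H ⊓ N) c _ heh
    rw [hze, mem_map_conj] at h3
    have h4 := H.mul_mem (hDH h2) (Subgroup.mem_inf.mp h3).1
    have e2 : z⁻¹ * (c * e * c⁻¹) * z * (z⁻¹ * (c * (e⁻¹ * (c⁻¹ * x * c)) * c⁻¹) * z)
        = z⁻¹ * x * z := by group
    rwa [e2] at h4
  have hceq : H.map (MulAut.conj c).toMonoidHom = H.map (MulAut.conj z).toMonoidHom := by
    apply Subgroup.eq_of_le_of_card_ge hle
    exact le_of_eq (by rw [card_map_conj, card_map_conj])
  -- (vii) assemble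
  obtain ⟨J, hJdef⟩ : ∃ J : Subgroup G, J = H ⊔ H.map (MulAut.conj a).toMonoidHom := ⟨_, rfl⟩
  rw [← hJdef]
  have hHJ : H ≤ J := by rw [hJdef]; exact le_sup_left
  have haHJ : H.map (MulAut.conj a).toMonoidHom ≤ J := by rw [hJdef]; exact le_sup_right
  have hyJ' : y ∈ J := by
    rw [hJdef]
    exact (sup_le_sup hDH (map_conj_mono a hDH)) hyJ
  have hdJ : d ∈ J := hHJ (hDH hdD)
  have hcH : H.map (MulAut.conj c).toMonoidHom ≤ J := by
    have e : c = (d⁻¹ * y⁻¹) * a := by rw [hcdef, hbdef]; group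
    rw [e, ← map_conj_mul]
    exact map_conj_le_of_mem _ J _ haHJ (J.mul_mem (J.inv_mem hdJ) (J.inv_mem hyJ'))
  have hzJ' : z ∈ J := by
    have h1 : (H ⊓ N) ⊔ (H ⊓ N).map (MulAut.conj c).toMonoidHom ≤ J :=
      sup_le (inf_le_left.trans hHJ) ((map_conj_mono c inf_le_left).trans hcH)
    exact h1 hzJ
  refine ⟨y * d * z, J.mul_mem (J.mul_mem hyJ' hdJ) hzJ', ?_⟩
  have ea : a = y * d * c := by rw [hcdef, hbdef]; group
  calc H.map (MulAut.conj a).toMonoidHom
      = H.map (MulAut.conj (y * d * c)).toMonoidHom := by rw [← ea]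
    _ = (H.map (MulAut.conj c).toMonoidHom).map (MulAut.conj (y * d)).toMonoidHom :=
        (map_conj_mul H (y * d) c).symm
    _ = (H.map (MulAut.conj z).toMonoidHom).map (MulAut.conj (y * d)).toMonoidHom := by
        rw [hceq]
    _ = H.map (MulAut.conj (y * d * z)).toMonoidHom := map_conj_mul H (y * d) z

theorem pn_forward {G : Type*} [Group G] [Finite G] {p : ℕ} [Fact p.Prime]
    (A : Subgroup G) [A.Normal] (PA : Sylow p ↥A) (T : Subgroup G)
    (hT : (PA : Subgroup ↥A).map A.subtype = T) (N : Subgroup G)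
    (hN : N = Subgroup.normalizer (T : Set G)) [(T.subgroupOf N).Normal]
    (hG : ∀ K : Subgroup G, (∃ P : Sylow p G, (P : Subgroup G) ≤ K) → Cfsg.IsPronormal K)
    (Kbar : Subgroup (↥N ⧸ T.subgroupOf N))
    (hK : ∃ P : Sylow p (↥N ⧸ T.subgroupOf N), (P : Subgroup (↥N ⧸ T.subgroupOf N)) ≤ Kbar) :
    Cfsg.IsPronormal Kbar := by
  obtain ⟨Pbar, hPbar⟩ := hK
  obtain ⟨S, hTS, hSA, hSN⟩ := pn_exists_sylow_ge A PA T hT
  rw [← hN] at hSN
  have hπ : Function.Surjective (QuotientGroup.mk' (T.subgroupOf N)) :=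
    QuotientGroup.mk'_surjective _
  have h1 : ¬ p ∣ Kbar.index := pn_not_dvd_index_of_sylow_le Kbar Pbar hPbar
  have h2 : ¬ p ∣ N.index := pn_not_dvd_index_of_sylow_le N S hSN
  have h3 : ¬ p ∣ ((Kbar.comap (QuotientGroup.mk' (T.subgroupOf N))).map N.subtype).index := by
    rw [Subgroup.index_map_subtype, Subgroup.index_comap_of_surjective _ hπ]
    intro hd
    rcases (Nat.Prime.dvd_mul Fact.out).mp hd with h | h
    · exact h1 h
    · exact h2 h
  have h4 := hG _ (pn_exists_sylow_le _ h3)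
  have h5 := pn_subgroupOf _ N (Subgroup.map_subtype_le _) h4
  have e1 : ((Kbar.comap (QuotientGroup.mk' (T.subgroupOf N))).map N.subtype).subgroupOf N
      = Kbar.comap (QuotientGroup.mk' (T.subgroupOf N)) :=
    Subgroup.comap_map_eq_self_of_injective N.subtype_injective _
  rw [e1] at h5
  have h6 := pn_map (QuotientGroup.mk' (T.subgroupOf N)) hπ _ h5
  rwa [Subgroup.map_comap_eq_self_of_surjective hπ] at h6

end Cfsg.Agent.Helper23
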