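import Mathlib
import Cfsg.Prelude.Def_HallClasses
import Cfsg.Agent.Helper23.Pronormal

set_option autoImplicit false

namespace Cfsg.Agent.Helper23.HallSym

open Equiv Equiv.Perm MulAction

/-- An `s`-element has a conjugate in any subgroup whose index is prime to `s`. -/
theorem exists_conj_mem {G : Type*} [Group G] [Finite G] (H : Subgroup G) {s : ℕ} [Fact s.Prime]
    (hs : ¬ s ∣ H.index) (c : G) (hc : ∃ k : ℕ, orderOf c = s ^ k) :
    ∃ g : G, g * c * g⁻¹ ∈ H := by
  obtain ⟨k, hk⟩ := hc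
  have hP : IsPGroup s (Subgroup.zpowers c) := by
    apply IsPGroup.of_card (n := k)
    rw [Nat.card_zpowers, hk]
  have hcard : ¬ s ∣ Nat.card (G ⧸ H) := by
    rwa [← Subgroup.index_eq_card]
  obtain ⟨x, hx⟩ := hP.nonempty_fixed_point_of_prime_not_dvd_card (G ⧸ H) hcard
  obtain ⟨y, rfl⟩ := QuotientGroup.mk_surjective x
  refine ⟨y⁻¹, ?_⟩
  have h1 := hx ⟨c, Subgroup.mem_zpowers c⟩
  have h2 : ((c * y : G) : G ⧸ H) = (y : G ⧸ H) := h1
  rw [QuotientGroup.eq] at h2
  have h3 : ((c * y)⁻¹ * y)⁻¹ ∈ H := H.inv_mem h2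
  simpa [mul_assoc] using h3

/-- In `Perm (Fin (n+1))` there is a cycle with support of each size `2 ≤ s ≤ n+1`. -/
theorem exists_cycle (n s : ℕ) (hs2 : 2 ≤ s) (hsn : s ≤ n + 1) :
    ∃ c : Perm (Fin (n + 1)), c.IsCycle ∧ c.support.card = s ∧ orderOf c = s := by
  have hi : (⟨s - 1, by omega⟩ : Fin (n + 1)) ≠ 0 := by
    intro h
    have h' := congrArg Fin.val h
    simp at h'
    omega
  have hct := Fin.cycleType_cycleRange hi
  have hcyc := Fin.isCycle_cycleRange hi
  have hsum : (Fin.cycleRange (⟨s - 1, by omega⟩ : Fin (n + 1))).support.card = s := by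
    rw [← sum_cycleType, hct, Multiset.sum_singleton]
    show s - 1 + 1 = s
    omega
  exact ⟨_, hcyc, hsum, by rw [hcyc.orderOf, hsum]⟩

/-- A Hall `π`-subgroup of `Perm (Fin (n+1))` contains an `s`-cycle for each prime `s ∈ π`,
`s ≤ n+1`. -/
theorem exists_cycle_mem (π : Set ℕ) {n s : ℕ} (hs : s.Prime) (hsn : s ≤ n + 1) (hsπ : s ∈ π)
    (H : Subgroup (Perm (Fin (n + 1)))) (hH : Cfsg.IsPiHall π H) :
    ∃ τ ∈ H, τ.IsCycle ∧ τ.support.card = s := by
  haveI : Fact s.Prime := ⟨hs⟩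
  obtain ⟨c, hc, hcs, hco⟩ := exists_cycle n s hs.two_le hsn
  obtain ⟨g, hg⟩ := exists_conj_mem H (hH.2 _ hs hsπ) c ⟨1, by rw [hco, pow_one]⟩
  exact ⟨g * c * g⁻¹, hg, hc.conj, by rw [card_support_conj, hcs]⟩

/-- If `Perm (Fin ℓ)` (`ℓ` prime) has a Hall `π`-subgroup with `ℓ ∈ π` and a prime `s ∈ π`,
`s < ℓ`, then every prime `t ≤ ℓ` lies in `π`. -/
theorem primes_le_mem (π : Set ℕ) {ℓ s : ℕ} (hℓ : ℓ.Prime) (hs : s.Prime) (hsℓ : s < ℓ)
    (hℓπ : ℓ ∈ π) (hsπ : s ∈ π) (H : Subgroup (Perm (Fin ℓ))) (hH : Cfsg.IsPiHall π H) :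
    ∀ t : ℕ, t.Prime → t ≤ ℓ → t ∈ π := by
  obtain ⟨n, rfl⟩ : ∃ n, ℓ = n + 1 := ⟨ℓ - 1, by have := hℓ.two_le; omega⟩
  have hs2 := hs.two_le
  have hcardα : Fintype.card (Fin (n + 1)) = n + 1 := Fintype.card_fin _
  -- the full cycle
  obtain ⟨σ, hσH, hσc, hσs'⟩ := exists_cycle_mem π hℓ le_rfl hℓπ H hH
  have hσs : σ.support = Finset.univ := by
    apply Finset.eq_univ_of_card
    rw [hσs', hcardα]
  -- the s-cycle
  obtain ⟨τ, hτH, hτc, hτs⟩ := exists_cycle_mem π hs (by omega) hsπ H hH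
  -- H is transitive, hence primitive
  haveI htr : IsPretransitive H (Fin (n + 1)) := by
    refine ⟨fun x y => ?_⟩
    have hx : σ x ≠ x := by
      rw [← mem_support, hσs]; exact Finset.mem_univ x
    have hy : σ y ≠ y := by
      rw [← mem_support, hσs]; exact Finset.mem_univ y
    obtain ⟨i, hi⟩ := hσc.exists_pow_eq hx hy
    exact ⟨⟨σ ^ i, H.pow_mem hσH i⟩, hi⟩
  have hprim : IsPreprimitive H (Fin (n + 1)) := by
    apply IsPreprimitive.of_prime_card
    rw [Nat.card_eq_fintype_card, hcardα]; exact hℓ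
  -- Jordan: H is 2-transitive
  have h2t : IsMultiplyPretransitive H (Fin (n + 1)) 2 := by
    have hJ := Equiv.Perm.isPretransitive_of_isCycle_mem hτc hτH
    have hnc : ((τ.support : Set (Fin (n + 1)))ᶜ).ncard = (n - s) + 1 := by
      have h1 := Set.ncard_add_ncard_compl (τ.support : Set (Fin (n + 1)))
      rw [Set.ncard_coe_finset, hτs, Nat.card_eq_fintype_card, hcardα] at h1
      omega
    exact hprim.is_two_pretransitive hnc
      (by rw [Nat.card_eq_fintype_card, hcardα]; omega) hJ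
  -- hence 2 ∈ π
  have h2π : 2 ∈ π := by
    rw [MulAction.is_two_pretransitive_iff] at h2t
    have h01 : (0 : Fin (n + 1)) ≠ ⟨1, by omega⟩ := by
      intro h
      have h' := congrArg Fin.val h
      simp at h'
    obtain ⟨h, hh0, hh1⟩ := h2t h01 h01.symm
    apply hH.1 2 Nat.prime_two
    have hdiv : 2 ∣ orderOf h := by
      by_contra hodd
      have hoddk : Odd (orderOf h) := Nat.not_even_iff_odd.mp (by rwa [even_iff_two_dvd])
      obtain ⟨k, hk⟩ := hoddk
      have hpow : h ^ (2 * k + 1) = 1 := by rw [← hk]; exact pow_orderOf_eq_one h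
      have hsq : ∀ j : ℕ, (h ^ (2 * j)) • (0 : Fin (n + 1)) = 0 := by
        intro j
        induction j with
        | zero => simp
        | succ j ih =>
          rw [show 2 * (j + 1) = 2 * j + 2 by ring, pow_add, mul_smul, pow_two, mul_smul,
            hh0, hh1, ih]
      have h1 : (h ^ (2 * k + 1)) • (0 : Fin (n + 1)) = ⟨1, by omega⟩ := by
        rw [pow_succ', mul_smul, hsq k, hh0]
      rw [hpow, one_smul] at h1
      exact h01 h1
    exact dvd_trans hdiv (orderOf_dvd_natCard h)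
  -- a swap in H, so H = ⊤
  obtain ⟨ρ, hρH, -, hρs⟩ := exists_cycle_mem π Nat.prime_two (by omega) h2π H hH
  have hsw : ρ.IsSwap := card_support_eq_two.mp hρs
  have htop : H = ⊤ := by
    have hcl := closure_prime_cycle_swap (by rw [hcardα]; exact hℓ) hσc hσs hsw
    rw [eq_top_iff, ← hcl, Subgroup.closure_le]
    intro x hx
    rcases hx with rfl | rfl
    · exact hσH
    · exact hρH
  intro t ht htℓ
  apply hH.1 t ht
  rw [htop, Subgroup.card_top, Nat.card_perm, Nat.card_eq_fintype_card, hcardα]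
  exact (Nat.Prime.dvd_factorial ht).mpr htℓ

theorem sq_not_dvd_factorial_succ {r : ℕ} (hr : r.Prime) : ¬ r ^ 2 ∣ (r + 1).factorial := by
  intro h
  obtain ⟨m, rfl⟩ : ∃ m, r = m + 1 := ⟨r - 1, by have := hr.two_le; omega⟩
  have h1 : (m + 1 + 1).factorial = (m + 1) * ((m + 2) * m.factorial) := by
    rw [Nat.factorial_succ, Nat.factorial_succ]; ring
  rw [h1, pow_two] at h
  have h2 : (m + 1) ∣ (m + 2) * m.factorial := Nat.dvd_of_mul_dvd_mul_left (by omega) h
  rcases (Nat.Prime.dvd_mul hr).mp h2 with h3 | h3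
  · have h4 : (m + 1) ∣ 1 := by
      have h5 : m + 2 = (m + 1) + 1 := by omega
      rw [h5] at h3
      exact (Nat.dvd_add_right (dvd_refl _)).mp h3
    have h6 := Nat.le_of_dvd (by norm_num) h4
    have h7 := hr.two_le
    omega
  · have h6 := (Nat.Prime.dvd_factorial hr).mp h3
    omega

/-- If `r ≥ 5` is the least prime outside `π`, then `Perm (Fin (r+1))` has no Hall
`π`-subgroup. -/
theorem no_hall_succ (π : Set ℕ) {r : ℕ} (hr : r.Prime) (hr5 : 5 ≤ r) (hrπ : r ∉ π)
    (hlt : ∀ t : ℕ, t.Prime → t < r → t ∈ π)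
    (H : Subgroup (Perm (Fin (r + 1)))) (hH : Cfsg.IsPiHall π H) : False := by
  classical
  haveI : Nontrivial (Fin (r + 1)) := Fin.nontrivial_iff_two_le.mpr (by omega)
  have hcardG : Nat.card (Perm (Fin (r + 1))) = (r + 1).factorial := by
    rw [Nat.card_perm, Nat.card_eq_fintype_card, Fintype.card_fin]
  have hmul : Nat.card H * H.index = (r + 1).factorial := by
    rw [← hcardG]; exact H.card_mul_index
  have hidx0 : H.index ≠ 0 := Subgroup.index_ne_zero_of_finite
  -- the index is a power of r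
  have hpow : ∀ {d : ℕ}, d.Prime → d ∣ H.index → d = r := by
    intro d hd hdvd
    have hdfac : d ∣ (r + 1).factorial := by rw [← hmul]; exact dvd_mul_of_dvd_right hdvd _
    have hdle : d ≤ r + 1 := (Nat.Prime.dvd_factorial hd).mp hdfac
    have hdπ : d ∉ π := fun h => hH.2 d hd h hdvd
    by_contra hne
    rcases Nat.lt_or_ge d r with h | h
    · exact hdπ (hlt d hd h)
    · have hd1 : d = r + 1 := by omega
      have hodd : Odd r := hr.odd_of_ne_two (by omega)
      have h2 : 2 ∣ d := by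
        rw [hd1]; obtain ⟨k, hk⟩ := hodd; exact ⟨k + 1, by omega⟩
      have h3 := (Nat.prime_dvd_prime_iff_eq Nat.prime_two hd).mp h2
      omega
  obtain ⟨k, hk⟩ : ∃ k, H.index = r ^ k :=
    ⟨_, Nat.eq_prime_pow_of_unique_prime_dvd hidx0 hpow⟩
  have hidx_r : H.index = r := by
    rcases k with _ | _ | k
    · exfalso
      rw [pow_zero] at hk
      have h1 : r ∣ (r + 1).factorial := (Nat.Prime.dvd_factorial hr).mpr (by omega)
      rw [← hmul, hk, mul_one] at h1
      exact hrπ (hH.1 r hr h1)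
    · rw [hk]; simp
    · exfalso
      apply sq_not_dvd_factorial_succ hr
      rw [← hmul, hk]
      exact dvd_mul_of_dvd_right (pow_dvd_pow r (by omega)) _
  -- the alternating group acts on the r cosets
  haveI hsimple : IsSimpleGroup (alternatingGroup (Fin (r + 1))) :=
    alternatingGroup.isSimpleGroup (by rw [Nat.card_eq_fintype_card, Fintype.card_fin]; omega)
  let φ : alternatingGroup (Fin (r + 1)) →* Perm (Perm (Fin (r + 1)) ⧸ H) :=
    (MulAction.toPermHom (Perm (Fin (r + 1))) (Perm (Fin (r + 1)) ⧸ H)).comp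
      (alternatingGroup (Fin (r + 1))).subtype
  rcases (MonoidHom.normal_ker φ).eq_bot_or_eq_top with hbot | htop
  · have hinj : Function.Injective φ := (MonoidHom.ker_eq_bot_iff φ).mp hbot
    have hle : Nat.card (alternatingGroup (Fin (r + 1)))
        ≤ Nat.card (Perm (Perm (Fin (r + 1)) ⧸ H)) := Nat.card_le_card_of_injective φ hinj
    rw [Nat.card_perm, ← Subgroup.index_eq_card, hidx_r] at hle
    have h2 : 2 * Nat.card (alternatingGroup (Fin (r + 1))) = (r + 1).factorial := by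
      rw [two_mul_nat_card_alternatingGroup, hcardG]
    rw [Nat.factorial_succ] at h2
    have hpos : 0 < r.factorial := Nat.factorial_pos r
    have h5 : 3 * r.factorial ≤ (r + 1) * r.factorial := Nat.mul_le_mul_right _ (by omega)
    linarith
  · have hAH : alternatingGroup (Fin (r + 1)) ≤ H := by
      intro a ha
      have h1 : (⟨a, ha⟩ : alternatingGroup (Fin (r + 1))) ∈ φ.ker := by rw [htop]; trivial
      rw [MonoidHom.mem_ker] at h1
      have h2 := DFunLike.congr_fun h1 (QuotientGroup.mk (1 : Perm (Fin (r + 1))))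
      have h3 : ((a * 1 : Perm (Fin (r + 1))) : Perm (Fin (r + 1)) ⧸ H)
          = QuotientGroup.mk (1 : Perm (Fin (r + 1))) := h2
      rw [QuotientGroup.eq] at h3
      simpa using H.inv_mem h3
    have hdvd : H.index ∣ (alternatingGroup (Fin (r + 1))).index := Subgroup.index_dvd_of_le hAH
    rw [hidx_r, alternatingGroup.index_eq_two] at hdvd
    have h6 := Nat.le_of_dvd (by norm_num) hdvd
    omega

/-- `D_π` implies `E_π` for finite groups. -/
theorem epi_of_dpi (π : Set ℕ) {G : Type*} [Group G] [Finite G] (h : Cfsg.IsDPiGroup π G) :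
    Cfsg.IsEPiGroup π G := by
  have hfin : ({K : Subgroup G | Cfsg.IsPiSubgroup π K}).Finite := Set.toFinite _
  have hbot : (⊥ : Subgroup G) ∈ {K : Subgroup G | Cfsg.IsPiSubgroup π K} := by
    intro p hp hdvd
    rw [Subgroup.card_bot] at hdvd
    exact absurd (Nat.le_of_dvd one_pos hdvd) (by have := hp.two_le; omega)
  obtain ⟨M, -, hM1, hM2⟩ := hfin.exists_le_maximal hbot
  have hMmax : Maximal (Cfsg.IsPiSubgroup π) M := ⟨hM1, fun y hy hle => hM2 hy hle⟩
  refine ⟨M, hM1, ?_⟩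
  intro s hs hsπ hdvd
  haveI : Fact s.Prime := ⟨hs⟩
  obtain ⟨S⟩ : Nonempty (Sylow s G) := inferInstance
  have hS : (S : Subgroup G) ∈ {K : Subgroup G | Cfsg.IsPiSubgroup π K} := by
    intro p hp hpd
    rw [S.card_eq_multiplicity] at hpd
    have h1 := (Nat.prime_dvd_prime_iff_eq hp hs).mp (hp.dvd_of_dvd_pow hpd)
    rw [h1]; exact hsπ
  obtain ⟨M', hSM', hM'1, hM'2⟩ := hfin.exists_le_maximal hS
  have hM'max : Maximal (Cfsg.IsPiSubgroup π) M' := ⟨hM'1, fun y hy hle => hM'2 hy hle⟩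
  obtain ⟨g, hg⟩ := h M M' hMmax hM'max
  have hcard : Nat.card M' = Nat.card M := by
    rw [hg]
    exact Subgroup.card_map_of_injective (MulAut.conj g).injective
  have h1 : Nat.card (S : Subgroup G) ∣ Nat.card M := by
    rw [← hcard]; exact Subgroup.card_dvd_of_le hSM'
  rw [S.card_eq_multiplicity] at h1
  have h2 : s ^ ((Nat.card G).factorization s + 1) ∣ Nat.card G := by
    have h3 := mul_dvd_mul h1 hdvd
    rw [M.card_mul_index] at h3
    rw [pow_succ]
    exact h3
  exact Nat.pow_succ_factorization_not_dvd Nat.card_pos.ne' hs h2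

theorem forward (π : Set ℕ) (hE : ∀ (G : Type) [Group G] [Finite G], Cfsg.IsEPiGroup π G) :
    (∀ p q : ℕ, p.Prime → q.Prime → p ∈ π → q ∈ π → p = q) ∨ ∀ p : ℕ, p.Prime → p ∈ π := by
  by_contra hcon
  rw [not_or] at hcon
  obtain ⟨h1, h2⟩ := hcon
  push_neg at h1 h2
  obtain ⟨p, q, hp, hq, hpπ, hqπ, hpq⟩ := h1
  obtain ⟨r, hr, hrπ⟩ := h2
  have main : ∀ p q : ℕ, p.Prime → q.Prime → p ∈ π → q ∈ π → p < q → False := by
    intro p q hp hq hpπ hqπ hlt
    obtain ⟨H, hH⟩ := hE (Perm (Fin q))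
    have hle := primes_le_mem π hq hp hlt hqπ hpπ H hH
    have hq3 : 3 ≤ q := by have := hp.two_le; omega
    have h2π : 2 ∈ π := hle 2 Nat.prime_two (by omega)
    have h3π : 3 ∈ π := hle 3 Nat.prime_three hq3
    have hex : ∃ r, r.Prime ∧ r ∉ π := ⟨r, hr, hrπ⟩
    classical
    have hr₀ : (Nat.find hex).Prime ∧ Nat.find hex ∉ π := Nat.find_spec hex
    have hmin : ∀ t, t.Prime → t < Nat.find hex → t ∈ π := by
      intro t ht hlt'
      by_contra hn
      exact Nat.find_min hex hlt' ⟨ht, hn⟩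
    have hr5 : 5 ≤ Nat.find hex := by
      by_contra hlt5
      have hr2 := hr₀.1.two_le
      have h4 : Nat.find hex = 2 ∨ Nat.find hex = 3 ∨ Nat.find hex = 4 := by omega
      rcases h4 with h | h | h
      · exact hr₀.2 (by rw [h]; exact h2π)
      · exact hr₀.2 (by rw [h]; exact h3π)
      · have h5 := hr₀.1
        rw [h] at h5
        exact absurd h5 (by norm_num)
    obtain ⟨H', hH'⟩ := hE (Perm (Fin (Nat.find hex + 1)))
    exact no_hall_succ π hr₀.1 hr5 hr₀.2 hmin H' hH'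
  rcases lt_or_gt_of_ne hpq with h | h
  · exact main p q hp hq hpπ hqπ h
  · exact main q p hq hp hqπ hpπ h

theorem backwardE (π : Set ℕ)
    (h : (∀ p q : ℕ, p.Prime → q.Prime → p ∈ π → q ∈ π → p = q) ∨ ∀ p : ℕ, p.Prime → p ∈ π) :
    ∀ (G : Type) [Group G] [Finite G], Cfsg.IsEPiGroup π G := by
  intro G _ _
  rcases h with h | h
  · by_cases hex : ∃ p, p.Prime ∧ p ∈ π
    · obtain ⟨p, hp, hpπ⟩ := hex
      haveI : Fact p.Prime := ⟨hp⟩
      obtain ⟨P⟩ : Nonempty (Sylow p G) := inferInstance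
      refine ⟨(P : Subgroup G), ?_, ?_⟩
      · intro t ht htd
        rw [P.card_eq_multiplicity] at htd
        have h1 := (Nat.prime_dvd_prime_iff_eq ht hp).mp (ht.dvd_of_dvd_pow htd)
        rw [h1]; exact hpπ
      · intro t ht htπ htd
        have h1 := h t p ht hp htπ hpπ
        rw [h1] at htd
        exact P.not_dvd_index htd
    · refine ⟨⊥, ?_, ?_⟩
      · intro t ht htd
        rw [Subgroup.card_bot] at htd
        exact absurd (Nat.le_of_dvd one_pos htd) (by have := ht.two_le; omega)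
      · intro t ht htπ _
        exact hex ⟨t, ht, htπ⟩
  · refine ⟨⊤, fun t ht _ => h t ht, ?_⟩
    intro t ht _ htd
    rw [Subgroup.index_top] at htd
    exact absurd (Nat.le_of_dvd one_pos htd) (by have := ht.two_le; omega)

theorem backwardD (π : Set ℕ)
    (h : (∀ p q : ℕ, p.Prime → q.Prime → p ∈ π → q ∈ π → p = q) ∨ ∀ p : ℕ, p.Prime → p ∈ π) :
    ∀ (G : Type) [Group G] [Finite G], Cfsg.IsDPiGroup π G := by
  intro G _ _ H K hH hK
  rcases h with h | h
  · by_cases hex : ∃ p, p.Prime ∧ p ∈ π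
    · obtain ⟨p, hp, hpπ⟩ := hex
      haveI : Fact p.Prime := ⟨hp⟩
      have hpi_of_p : ∀ Q : Subgroup G, IsPGroup p Q → Cfsg.IsPiSubgroup π Q := by
        intro Q hQ t ht htd
        obtain ⟨n, hn⟩ := IsPGroup.iff_card.mp hQ
        rw [hn] at htd
        have h1 := (Nat.prime_dvd_prime_iff_eq ht hp).mp (ht.dvd_of_dvd_pow htd)
        rw [h1]; exact hpπ
      have hp_of_pi : ∀ Q : Subgroup G, Cfsg.IsPiSubgroup π Q → IsPGroup p Q := by
        intro Q hQ
        have huniq : ∀ {d : ℕ}, d.Prime → d ∣ Nat.card Q → d = p :=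
          fun hd hdd => h _ p hd hp (hQ _ hd hdd) hpπ
        exact IsPGroup.of_card (Nat.eq_prime_pow_of_unique_prime_dvd Nat.card_pos.ne' huniq)
      let PH : Sylow p G := ⟨H, hp_of_pi H hH.prop,
        fun {Q} hQ hle => le_antisymm (hH.le_of_ge (hpi_of_p Q hQ) hle) hle⟩
      let PK : Sylow p G := ⟨K, hp_of_pi K hK.prop,
        fun {Q} hQ hle => le_antisymm (hK.le_of_ge (hpi_of_p Q hQ) hle) hle⟩
      obtain ⟨g, hg⟩ := MulAction.exists_smul_eq G PH PK
      refine ⟨g, ?_⟩
      have e : ((g • PH : Sylow p G) : Subgroup G)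
          = (PH : Subgroup G).map (MulAut.conj g).toMonoidHom := by
        rw [Sylow.coe_subgroup_smul, Cfsg.Agent.Helper23.pn_conj_smul_eq_map]
      rw [hg] at e
      exact e
    · have hbot : ∀ Q : Subgroup G, Cfsg.IsPiSubgroup π Q → Q = ⊥ := by
        intro Q hQ
        apply Subgroup.eq_bot_of_card_eq
        rw [Nat.eq_one_iff_not_exists_prime_dvd]
        intro t ht htd
        exact hex ⟨t, ht, hQ t ht htd⟩
      refine ⟨1, ?_⟩
      rw [hbot H hH.prop, hbot K hK.prop, Subgroup.map_bot]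
  · have hHt : H = ⊤ := top_le_iff.mp (hH.le_of_ge (y := ⊤) (fun t ht _ => h t ht) le_top)
    have hKt : K = ⊤ := top_le_iff.mp (hK.le_of_ge (y := ⊤) (fun t ht _ => h t ht) le_top)
    refine ⟨1, ?_⟩
    rw [hHt, hKt, Subgroup.map_top_of_surjective _ (MulAut.conj (1 : G)).surjective]

end Cfsg.Agent.Helper23.HallSym
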