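import Mathlib
import Cfsg.Agent.S4419
import Cfsg.Agent.S0640
import Cfsg.Agent.Lead.PGroup
import Cfsg.Agent.Helper1.Burnside
import Cfsg.Agent.Helper24.Critical
import Cfsg.Agent.Helper11.Meta

set_option autoImplicit false

namespace Cfsg.Agent.Helper23

/-- A subgroup mapped into itself by an automorphism of finite order is stable. -/
theorem mt_inv {X : Type*} [Group X] (α : MulAut X) (r : ℕ) (hr : 0 < r) (hα : α ^ r = 1)
    (M : Subgroup X) (h : ∀ x ∈ M, α x ∈ M) : ∀ x, α x ∈ M ↔ x ∈ M := by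
  have hk : ∀ k : ℕ, ∀ x ∈ M, (α ^ k) x ∈ M := by
    intro k
    induction k with
    | zero =>
      intro x hx
      rw [pow_zero, MulAut.one_apply]
      exact hx
    | succ k ih =>
      intro x hx
      rw [pow_succ, MulAut.mul_apply]
      exact ih _ (h x hx)
  intro x
  constructor
  · intro hx
    have h1 := hk (r - 1) (α x) hx
    have h2 : (α ^ (r - 1)) (α x) = x := by
      rw [← MulAut.mul_apply, ← pow_succ, Nat.sub_add_cancel hr, hα, MulAut.one_apply]
    rw [h2] at h1
    exact h1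
  · exact h x

/-- Characteristic subgroups are stable under automorphisms, elementwise. -/
theorem mt_char_inv {Q : Type*} [Group Q] (H : Subgroup Q) [hH : H.Characteristic]
    (β : MulAut Q) (x : Q) : β x ∈ H ↔ x ∈ H := by
  have h1 : H.comap β.toMonoidHom = H := Subgroup.characteristic_iff_comap_eq.mp hH β
  constructor
  · intro h
    have h2 : x ∈ H.comap β.toMonoidHom := h
    rw [h1] at h2; exact h2
  · intro h
    have h2 : x ∈ H.comap β.toMonoidHom := by rw [h1]; exact h
    exact h2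

/-- An automorphism of order prime to `p` of a finite `p`-group that is trivial modulo the
Frattini subgroup is trivial. -/
theorem mt_frat_triv {Q : Type*} [Group Q] [Finite Q] (p : ℕ) [Fact p.Prime] (hQ : IsPGroup p Q)
    (β : MulAut Q) (r : ℕ) [Fact r.Prime] (hrp : r ≠ p) (hβr : β ^ r = 1)
    (hF : ∀ x : Q, x⁻¹ * β x ∈ frattini Q) : β = 1 := by
  classical
  have hp : p.Prime := Fact.out
  have hr : r.Prime := Fact.out
  have hΦ : ∀ x : Q, β x ∈ frattini Q ↔ x ∈ frattini Q := fun x => mt_char_inv (frattini Q) β x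
  obtain ⟨C, hC⟩ : ∃ C : Subgroup Q, ∀ x : Q, x ∈ C ↔ β x = x :=
    ⟨{ carrier := {x | β x = x}
       one_mem' := map_one β
       mul_mem' := by
         intro a b ha hb
         show β (a * b) = a * b
         rw [map_mul, show β a = a from ha, show β b = b from hb]
       inv_mem' := by
         intro a ha
         show β a⁻¹ = a⁻¹
         rw [map_inv, show β a = a from ha] }, fun x => Iff.rfl⟩
  have hsup : C ⊔ frattini Q = ⊤ := by
    rw [eq_top_iff]
    intro x _
    by_contra hx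
    have hxF : x⁻¹ * β x ∈ frattini Q := hF x
    have hcos : ∀ y : Q, x⁻¹ * β y ∈ frattini Q ↔ x⁻¹ * y ∈ frattini Q := by
      intro y
      have h1 : x⁻¹ * β y = (x⁻¹ * β x) * β (x⁻¹ * y) := by
        rw [map_mul, map_inv]; group
      rw [h1]
      constructor
      · intro h
        have h2 : β (x⁻¹ * y) ∈ frattini Q := by
          have h3 := (frattini Q).mul_mem ((frattini Q).inv_mem hxF) h
          rw [inv_mul_cancel_left] at h3
          exact h3
        exact (hΦ _).mp h2
      · intro h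
        exact (frattini Q).mul_mem hxF ((hΦ _).mpr h)
    have hnofix : ∀ y : Q, x⁻¹ * y ∈ frattini Q → β y ≠ y := by
      intro y hy hfix
      apply hx
      have h1 : x = y * (x⁻¹ * y)⁻¹ := by group
      rw [h1]
      exact Subgroup.mul_mem_sup ((hC y).mpr hfix) ((frattini Q).inv_mem hy)
    have hdvd := Cfsg.Agent.S4419.cnt β r hβr (fun y => x⁻¹ * y ∈ frattini Q) hcos hnofix
    have hcard : Nat.card {y : Q // x⁻¹ * y ∈ frattini Q} = Nat.card ↥(frattini Q) := by
      apply Nat.card_congr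
      exact
        { toFun := fun y => ⟨x⁻¹ * y.1, y.2⟩
          invFun := fun z => ⟨x * z.1, by
              show x⁻¹ * (x * z.1) ∈ frattini Q
              rw [inv_mul_cancel_left]; exact z.2⟩
          left_inv := by
            intro y; apply Subtype.ext
            show x * (x⁻¹ * y.1) = y.1
            rw [mul_inv_cancel_left]
          right_inv := by
            intro z; apply Subtype.ext
            show x⁻¹ * (x * z.1) = z.1
            rw [inv_mul_cancel_left] }
    rw [hcard] at hdvd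
    obtain ⟨j, hj⟩ := (IsPGroup.iff_card (p := p)).mp (hQ.to_subgroup (frattini Q))
    rw [hj] at hdvd
    exact hrp ((Nat.prime_dvd_prime_iff_eq hr hp).mp (hr.dvd_of_dvd_pow hdvd))
  have hCtop : C = ⊤ := frattini_nongenerating hsup
  apply MulEquiv.ext
  intro x
  have h0 : x ∈ C := by rw [hCtop]; exact Subgroup.mem_top x
  show β x = x
  exact (hC x).mp h0

/-- The Frattini subgroup of a two-generated finite `2`-group has index at most `4`. -/
theorem mt_frat_idx {X : Type*} [Group X] [Finite X] (hX : IsPGroup 2 X)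
    (c d : X) (hgen : Subgroup.closure ({c, d} : Set X) = ⊤) :
    ∃ n : ℕ, n ≤ 2 ∧ (frattini X).index = 2 ^ n := by
  classical
  haveI : Fact (Nat.Prime 2) := ⟨Nat.prime_two⟩
  obtain ⟨k, hk⟩ := (IsPGroup.iff_card (p := 2)).mp hX
  have hΦidx : (frattini X).index ∣ 2 ^ k := by
    rw [← hk]; exact Subgroup.index_dvd_card _
  obtain ⟨n, -, hn⟩ := (Nat.dvd_prime_pow Nat.prime_two).mp hΦidx
  refine ⟨n, ?_, hn⟩
  have hb := Cfsg.Agent.Helper1.burnside_lower 2 n hX hn ({c, d} : Finset X)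
  have hT : Subgroup.closure ((({c, d} : Finset X)) : Set X) = ⊤ := by
    rw [Finset.coe_insert, Finset.coe_singleton]; exact hgen
  rw [hT, top_sup_eq, Subgroup.index_top, one_mul] at hb
  have h2 : 2 ^ ({c, d} : Finset X).card ≤ 2 ^ 2 :=
    Nat.pow_le_pow_right (by norm_num) Finset.card_le_two
  exact (Nat.pow_le_pow_iff_right (by norm_num)).mp (le_trans hb h2)

/-- A two-generated finite `2`-group with a nontrivial automorphism of odd prime order has no
subgroup of index `2` stable under that automorphism. -/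
theorem mt_no_idx2 {X : Type*} [Group X] [Finite X] (hX : IsPGroup 2 X)
    (c d : X) (hgen : Subgroup.closure ({c, d} : Set X) = ⊤)
    (α : MulAut X) (r : ℕ) [Fact r.Prime] (hr2 : r ≠ 2) (hαr : α ^ r = 1) (hα1 : α ≠ 1)
    (M : Subgroup X) (hM : ∀ x ∈ M, α x ∈ M) (hidx : M.index = 2) : False := by
  haveI : Fact (Nat.Prime 2) := ⟨Nat.prime_two⟩
  have hr : r.Prime := Fact.out
  have hMiff := mt_inv α r hr.pos hαr M hM
  haveI hMn : M.Normal := Subgroup.normal_of_index_eq_two hidx
  have hΦM : frattini X ≤ M := by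
    apply Cfsg.Agent.Helper24.frattini_le_of_elementary_quotient Nat.prime_two M
    · intro x y
      rw [commutatorElement_def, Subgroup.mul_mem_iff_of_index_two hidx, Subgroup.inv_mem_iff]
      constructor
      · intro h
        have h2 := hMn.conj_mem _ h x⁻¹
        have h3 : x⁻¹ * (x * y * x⁻¹) * x⁻¹⁻¹ = y := by group
        rw [h3] at h2
        exact h2
      · intro h
        exact hMn.conj_mem _ h x
    · intro x
      exact Subgroup.sq_mem_of_index_two hidx x
  obtain ⟨n, hn2, hn⟩ := mt_frat_idx hX c d hgen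
  have hrel : (frattini X).relIndex M * 2 = 2 ^ n := by
    have h := Subgroup.relIndex_mul_index hΦM
    rw [hidx, hn] at h
    exact h
  have h1 : ∀ x : X, x⁻¹ * α x ∈ M := by
    intro x
    rw [Subgroup.mul_mem_iff_of_index_two hidx, Subgroup.inv_mem_iff]
    exact (hMiff x).symm
  have h2 : ∀ m ∈ M, m⁻¹ * α m ∈ frattini X := by
    intro m hm
    have hcase : (frattini X).relIndex M = 1 ∨ (frattini X).relIndex M = 2 := by
      have h012 : n = 0 ∨ n = 1 ∨ n = 2 := by omega
      have e4 : (2 : ℕ) ^ 2 = 4 := by norm_num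
      rcases h012 with h0 | h0 | h0
      · rw [h0, pow_zero] at hrel; omega
      · rw [h0, pow_one] at hrel; left; omega
      · rw [h0, e4] at hrel; right; omega
    rcases hcase with h | h
    · have hle : M ≤ frattini X := Subgroup.relIndex_eq_one.mp h
      exact (frattini X).mul_mem ((frattini X).inv_mem (hle hm)) (hle (hM m hm))
    · have h' : ((frattini X).subgroupOf M).index = 2 := h
      have h3 := Subgroup.mul_mem_iff_of_index_two h'
        (a := (⟨m⁻¹, M.inv_mem hm⟩ : ↥M)) (b := (⟨α m, hM m hm⟩ : ↥M))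
      have h4 : (⟨m⁻¹, M.inv_mem hm⟩ : ↥M) * (⟨α m, hM m hm⟩ : ↥M) ∈
          (frattini X).subgroupOf M := by
        rw [h3, Subgroup.mem_subgroupOf, Subgroup.mem_subgroupOf]
        show m⁻¹ ∈ frattini X ↔ α m ∈ frattini X
        rw [Subgroup.inv_mem_iff, mt_char_inv (frattini X) α m]
      exact Subgroup.mem_subgroupOf.mp h4
  have h5 : ∀ x : X, x⁻¹ * (α ^ 2) x ∈ frattini X := by
    intro x
    have e1 : (α ^ 2) x = α (α x) := by rw [pow_two, MulAut.mul_apply]
    have e2 : x⁻¹ * α (α x) = (x⁻¹ * α x) ^ 2 * ((x⁻¹ * α x)⁻¹ * α (x⁻¹ * α x)) := by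
      rw [map_mul, map_inv, pow_two]; group
    rw [e1, e2]
    exact (frattini X).mul_mem (Cfsg.Agent.Lead.pow_mem_frattini hX _) (h2 _ (h1 x))
  have h6 : α ^ 2 = 1 := by
    refine mt_frat_triv 2 hX (α ^ 2) r hr2 ?_ h5
    rw [← pow_mul, mul_comm, pow_mul, hαr, one_pow]
  apply hα1
  have hd2 : orderOf α ∣ 2 := orderOf_dvd_of_pow_eq_one h6
  have hdr : orderOf α ∣ r := orderOf_dvd_of_pow_eq_one hαr
  have hcop : Nat.Coprime 2 r := (Nat.coprime_primes Nat.prime_two hr).mpr (Ne.symm hr2)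
  have h1' : orderOf α ∣ 1 := by
    have h7 := Nat.dvd_gcd hd2 hdr
    rw [hcop.gcd_eq_one] at h7
    exact h7
  exact orderOf_eq_one_iff.mp (Nat.dvd_one.mp h1')

/-- Index two criterion. -/
theorem mt_idx2 {X : Type*} [Group X] (K : Subgroup X) (a b : X) (ha : a ∈ K) (hb : b ∉ K)
    (hb2 : b ^ 2 ∈ K) (hgen : ∀ x : X, ∃ i j : ℤ, x = a ^ i * b ^ j) : K.index = 2 := by
  have hb2' : b ^ (2 : ℤ) ∈ K := by rw [zpow_two, ← pow_two]; exact hb2
  have h2k : ∀ k : ℤ, b ^ (2 * k) ∈ K := fun k => by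
    rw [zpow_mul]; exact K.zpow_mem hb2' k
  have hodd : ∀ k : ℤ, b ^ (2 * k + 1) ∉ K := fun k h => by
    rw [zpow_add_one, mul_mem_cancel_left (h2k k)] at h
    exact hb h
  rw [Subgroup.index_eq_two_iff]
  refine ⟨b, fun x => ?_⟩
  obtain ⟨i, j, hx⟩ := hgen x
  have hai : a ^ i ∈ K := K.zpow_mem ha i
  have e1 : x * b = a ^ i * b ^ (j + 1) := by rw [hx, zpow_add_one, mul_assoc]
  rw [e1, hx, mul_mem_cancel_left hai, mul_mem_cancel_left hai]
  rcases Int.even_or_odd' j with ⟨k, hk | hk⟩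
  · rw [hk]
    exact Or.inr ⟨h2k k, hodd k⟩
  · rw [hk]
    have e2 : 2 * k + 1 + 1 = 2 * (k + 1) := by ring
    refine Or.inl ⟨?_, hodd k⟩
    rw [e2]
    exact h2k (k + 1)

/-- The unique involution among the powers of an element of order `2 ^ (s + 1)`. -/
theorem mt_uniq_inv {X : Type*} [Group X] (c : X) (s : ℕ) (hord : orderOf c = 2 ^ (s + 1))
    (a : ℤ) (h2 : (c ^ a) ^ 2 = 1) (h1 : c ^ a ≠ 1) : c ^ a = c ^ 2 ^ s := by
  have h3 : c ^ (a * 2) = 1 := by
    rw [zpow_mul, zpow_two, ← pow_two]; exact h2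
  have hdvd : ((orderOf c : ℕ) : ℤ) ∣ a * 2 := orderOf_dvd_iff_zpow_eq_one.mpr h3
  rw [hord] at hdvd
  obtain ⟨b, hb⟩ := hdvd
  have ha : a = ((2 ^ s : ℕ) : ℤ) * b := by
    have h4 : a * 2 = ((2 ^ s : ℕ) : ℤ) * b * 2 := by
      rw [hb]; push_cast; ring
    exact mul_right_cancel₀ (two_ne_zero) h4
  have hcs : (c ^ 2 ^ s) ^ 2 = 1 := by
    rw [← pow_mul, ← pow_succ, ← hord, pow_orderOf_eq_one]
  have e : c ^ a = (c ^ 2 ^ s) ^ b := by
    rw [ha, zpow_mul, zpow_natCast]
  rcases Int.even_or_odd' b with ⟨k, hk | hk⟩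
  · exfalso
    apply h1
    rw [e, hk, zpow_mul, zpow_two, ← pow_two, hcs, one_zpow]
  · rw [e, hk, zpow_add_one, zpow_mul, zpow_two, ← pow_two, hcs, one_zpow, one_mul]

/-- In a cyclic group, an element killed by the order of a subgroup lies in that subgroup. -/
theorem mt_cyc_mem {X : Type*} [Group X] [Finite X] (c : X) (H : Subgroup X)
    (hH : H ≤ Subgroup.zpowers c) (g : X) (hg : g ∈ Subgroup.zpowers c)
    (hgH : g ^ Nat.card H = 1) : g ∈ H := by
  obtain ⟨E, hE⟩ : ∃ E : Subgroup X,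
      ∀ y : X, y ∈ E ↔ y ∈ Subgroup.zpowers c ∧ y ^ Nat.card H = 1 :=
    ⟨{ carrier := {y | y ∈ Subgroup.zpowers c ∧ y ^ Nat.card H = 1}
       one_mem' := ⟨Subgroup.one_mem _, one_pow _⟩
       mul_mem' := by
         rintro y1 y2 ⟨h1, h1'⟩ ⟨h2, h2'⟩
         refine ⟨Subgroup.mul_mem _ h1 h2, ?_⟩
         obtain ⟨i, rfl⟩ := Subgroup.mem_zpowers_iff.mp h1
         obtain ⟨j, rfl⟩ := Subgroup.mem_zpowers_iff.mp h2
         have hcomm : Commute (c ^ i) (c ^ j) := (Commute.refl c).zpow_zpow i j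
         rw [hcomm.mul_pow, h1', h2', one_mul]
       inv_mem' := by
         rintro y ⟨h1, h1'⟩
         exact ⟨Subgroup.inv_mem _ h1, by rw [inv_pow, h1', inv_one]⟩ }, fun y => Iff.rfl⟩
  have hEle : E ≤ Subgroup.zpowers c := fun y hy => ((hE y).mp hy).1
  haveI : IsCyclic ↥E :=
    isCyclic_of_injective (Subgroup.inclusion hEle) (Subgroup.inclusion_injective hEle)
  have hcardE : Nat.card ↥E ≤ Nat.card ↥H := by
    apply Cfsg.Agent.Helper11.cyc_exp_card_le Nat.card_pos
    intro y
    apply Subtype.ext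
    rw [Subgroup.coe_pow]
    exact ((hE y.1).mp y.2).2
  have hHE : H ≤ E := by
    intro h hh
    rw [hE]
    refine ⟨hH hh, ?_⟩
    have h1 : (⟨h, hh⟩ : ↥H) ^ Nat.card ↥H = 1 := pow_card_eq_one'
    have h2 : h ^ Nat.card ↥H = 1 := congrArg (fun z : ↥H => (z : X)) h1
    exact h2
  have hEq : H = E := Subgroup.eq_of_le_of_card_ge hHE hcardE
  have hgE : g ∈ E := (hE g).mpr ⟨hg, hgH⟩
  rw [hEq]
  exact hgE

end Cfsg.Agent.Helper23
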