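import Mathlib
import Cfsg.Agent.Helper23.MetaTwo

set_option autoImplicit false

namespace Cfsg.Agent.Helper23

open scoped commutatorElement

/-- An abelian metacyclic `2`-group with a nontrivial automorphism of odd prime order is
homocyclic of rank two. -/
theorem mt_abelian {X : Type*} [Group X] [Finite X] (hX : IsPGroup 2 X)
    (hm : Cfsg.IsMetacyclic X) (hcomm : ∀ x y : X, x * y = y * x)
    (α : MulAut X) (r : ℕ) [Fact r.Prime] (hr2 : r ≠ 2) (hαr : α ^ r = 1) (hα1 : α ≠ 1) :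
    ∃ n : ℕ, Nonempty (X ≃* Multiplicative (ZMod (2 ^ n)) × Multiplicative (ZMod (2 ^ n))) := by
  classical
  haveI : Fact (Nat.Prime 2) := ⟨Nat.prime_two⟩
  have hr : r.Prime := Fact.out
  obtain ⟨c, -, d, -, hcd⟩ := Cfsg.Agent.S4419.two_gen hm ⊤
  have hform : ∀ x : X, ∃ i j : ℤ, x = d ^ j * c ^ i := fun x => hcd x (Subgroup.mem_top x)
  have hgen : Subgroup.closure ({c, d} : Set X) = ⊤ := by
    rw [eq_top_iff]
    intro x _
    obtain ⟨i, j, hij⟩ := hform x
    rw [hij]
    exact Subgroup.mul_mem _ (Subgroup.zpow_mem _ (Subgroup.subset_closure (by simp)) j)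
      (Subgroup.zpow_mem _ (Subgroup.subset_closure (by simp)) i)
  have hno := mt_no_idx2 hX c d hgen α r hr2 hαr hα1
  obtain ⟨k, hk⟩ := (IsPGroup.iff_card (p := 2)).mp hX
  have hex : ∃ n : ℕ, ∀ x : X, x ^ 2 ^ n = 1 :=
    ⟨k, fun x => by rw [← hk]; exact pow_card_eq_one'⟩
  obtain ⟨n, hn, hmin⟩ : ∃ n : ℕ, (∀ x : X, x ^ 2 ^ n = 1) ∧
      ∀ n' < n, ¬ ∀ x : X, x ^ 2 ^ n' = 1 :=
    ⟨Nat.find hex, Nat.find_spec hex, fun n' hn' => Nat.find_min hex hn'⟩
  rcases Nat.eq_zero_or_pos n with h0 | hpos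
  · exfalso
    apply hα1
    apply MulEquiv.ext
    intro x
    have hx1 : ∀ y : X, y = 1 := fun y => by
      have h := hn y
      rw [h0, pow_zero, pow_one] at h
      exact h
    exact (hx1 (α x)).trans (hx1 ((1 : MulAut X) x)).symm
  obtain ⟨m, rfl⟩ : ∃ m, n = m + 1 := ⟨n - 1, by omega⟩
  obtain ⟨K, hK⟩ : ∃ K : Subgroup X, ∀ x : X, x ∈ K ↔ x ^ 2 ^ m = 1 :=
    ⟨{ carrier := {x | x ^ 2 ^ m = 1}
       one_mem' := one_pow _
       mul_mem' := by
         intro a b ha hb
         show (a * b) ^ 2 ^ m = 1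
         rw [(show Commute a b from hcomm a b).mul_pow, show a ^ 2 ^ m = 1 from ha,
           show b ^ 2 ^ m = 1 from hb, one_mul]
       inv_mem' := by
         intro a ha
         show a⁻¹ ^ 2 ^ m = 1
         rw [inv_pow, show a ^ 2 ^ m = 1 from ha, inv_one] }, fun x => Iff.rfl⟩
  have hKα : ∀ x ∈ K, α x ∈ K := by
    intro x hx
    rw [hK] at hx ⊢
    rw [← map_pow, hx, map_one]
  have hKsq : ∀ x : X, x ^ 2 ∈ K := by
    intro x
    rw [hK, ← pow_mul, ← pow_succ']
    exact hn x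
  have hKtop : K ≠ ⊤ := by
    intro h
    apply hmin m (Nat.lt_succ_self m)
    intro x
    rw [← hK, h]
    exact Subgroup.mem_top x
  have hnotK : ∀ a b : X, (∀ x : X, ∃ i j : ℤ, x = a ^ i * b ^ j) → a ∉ K := by
    intro a b hab ha
    have hb : b ∉ K := by
      intro hb
      apply hKtop
      rw [eq_top_iff]
      intro x _
      obtain ⟨i, j, hx⟩ := hab x
      rw [hx]
      exact K.mul_mem (K.zpow_mem ha i) (K.zpow_mem hb j)
    exact hno K hKα (mt_idx2 K a b ha hb (hKsq b) hab)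
  have hc : c ∉ K := hnotK c d (fun x => by
    obtain ⟨i, j, hx⟩ := hform x
    exact ⟨i, j, by rw [hx]; exact hcomm _ _⟩)
  have hd : d ∉ K := hnotK d c (fun x => by
    obtain ⟨i, j, hx⟩ := hform x
    exact ⟨j, i, hx⟩)
  have hdc : d * c ∉ K := hnotK (d * c) c (fun x => by
    obtain ⟨i, j, hx⟩ := hform x
    refine ⟨j, i - j, ?_⟩
    have e : j + (i - j) = i := by ring
    rw [hx, (show Commute d c from hcomm d c).mul_zpow, mul_assoc, ← zpow_add, e])
  have hcm : c ^ 2 ^ m ≠ 1 := fun h => hc ((hK c).mpr h)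
  have hdm : d ^ 2 ^ m ≠ 1 := fun h => hd ((hK d).mpr h)
  have hdcm : d ^ 2 ^ m * c ^ 2 ^ m ≠ 1 := by
    intro h
    apply hdc
    rw [hK, (show Commute d c from hcomm d c).mul_pow]
    exact h
  have hordc : orderOf c = 2 ^ (m + 1) := orderOf_eq_prime_pow hcm (hn c)
  have hordd : orderOf d = 2 ^ (m + 1) := orderOf_eq_prime_pow hdm (hn d)
  have hint : ∀ i j : ℤ, c ^ i = d ^ j → c ^ i = 1 := by
    intro i j hij
    by_contra hne
    have hy2 : orderOf (c ^ i) ∣ 2 ^ k := by rw [← hk]; exact orderOf_dvd_natCard _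
    obtain ⟨t', -, ht'⟩ := (Nat.dvd_prime_pow Nat.prime_two).mp hy2
    rcases Nat.eq_zero_or_pos t' with h0 | hpos'
    · rw [h0, pow_zero] at ht'
      exact hne (orderOf_eq_one_iff.mp ht')
    obtain ⟨t, rfl⟩ : ∃ t, t' = t + 1 := ⟨t' - 1, by omega⟩
    have hlt : 2 ^ t < orderOf (c ^ i) := by
      rw [ht']
      exact Nat.pow_lt_pow_right (by norm_num) (Nat.lt_succ_self t)
    have hinv1 : (c ^ i) ^ 2 ^ t ≠ 1 :=
      pow_ne_one_of_lt_orderOf (pow_ne_zero t (by norm_num)) hlt
    have hinv2 : ((c ^ i) ^ 2 ^ t) ^ 2 = 1 := by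
      rw [← pow_mul, ← pow_succ, ← ht', pow_orderOf_eq_one]
    have ec : (c ^ i) ^ 2 ^ t = c ^ (i * ((2 ^ t : ℕ) : ℤ)) := by
      rw [zpow_mul, zpow_natCast]
    have ed : (c ^ i) ^ 2 ^ t = d ^ (j * ((2 ^ t : ℕ) : ℤ)) := by
      rw [hij, zpow_mul, zpow_natCast]
    have h1 : c ^ (i * ((2 ^ t : ℕ) : ℤ)) = c ^ 2 ^ m := by
      apply mt_uniq_inv c m hordc
      · rw [← ec]; exact hinv2
      · rw [← ec]; exact hinv1
    have h2 : d ^ (j * ((2 ^ t : ℕ) : ℤ)) = d ^ 2 ^ m := by
      apply mt_uniq_inv d m hordd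
      · rw [← ed]; exact hinv2
      · rw [← ed]; exact hinv1
    have h3 : c ^ 2 ^ m = d ^ 2 ^ m := by rw [← h1, ← h2, ← ec, ← ed]
    apply hdcm
    rw [← h3, ← pow_two, ← pow_mul, ← pow_succ]
    exact hn c
  obtain ⟨ψ, hψ⟩ : ∃ ψ : ↥(Subgroup.zpowers c) × ↥(Subgroup.zpowers d) →* X,
      ∀ p, ψ p = (p.1 : X) * (p.2 : X) :=
    ⟨{ toFun := fun p => (p.1 : X) * (p.2 : X)
       map_one' := by simp
       map_mul' := by
         intro p q
         show ((p.1 * q.1 : ↥(Subgroup.zpowers c)) : X) * ((p.2 * q.2 : ↥(Subgroup.zpowers d)) : X)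
           = (p.1 : X) * (p.2 : X) * ((q.1 : X) * (q.2 : X))
         rw [Subgroup.coe_mul, Subgroup.coe_mul]
         calc (p.1 : X) * (q.1 : X) * ((p.2 : X) * (q.2 : X))
             = (p.1 : X) * ((q.1 : X) * (p.2 : X)) * (q.2 : X) := by simp only [mul_assoc]
           _ = (p.1 : X) * ((p.2 : X) * (q.1 : X)) * (q.2 : X) := by
               rw [hcomm (q.1 : X) (p.2 : X)]
           _ = (p.1 : X) * (p.2 : X) * ((q.1 : X) * (q.2 : X)) := by simp only [mul_assoc] },
     fun p => rfl⟩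
  have hinj : Function.Injective ψ := by
    rw [injective_iff_map_eq_one]
    rintro ⟨⟨u, hu⟩, ⟨v, hv⟩⟩ h
    rw [hψ] at h
    have h' : u * v = 1 := h
    obtain ⟨i, rfl⟩ := Subgroup.mem_zpowers_iff.mp hu
    obtain ⟨j, rfl⟩ := Subgroup.mem_zpowers_iff.mp hv
    have e1 : c ^ i = d ^ (-j) := by
      rw [zpow_neg]; exact eq_inv_of_mul_eq_one_left h'
    have hc1 : c ^ i = 1 := hint i (-j) e1
    have hd1 : d ^ j = 1 := by
      rw [hc1, one_mul] at h'; exact h'
    apply Prod.ext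
    · exact Subtype.ext hc1
    · exact Subtype.ext hd1
  have hsurj : Function.Surjective ψ := by
    intro x
    obtain ⟨i, j, hx⟩ := hform x
    refine ⟨(⟨c ^ i, Subgroup.zpow_mem_zpowers c i⟩, ⟨d ^ j, Subgroup.zpow_mem_zpowers d j⟩), ?_⟩
    rw [hψ]
    show c ^ i * d ^ j = x
    rw [hx]; exact hcomm _ _
  have hcardc : Nat.card ↥(Subgroup.zpowers c) = 2 ^ (m + 1) := by rw [Nat.card_zpowers, hordc]
  have hcardd : Nat.card ↥(Subgroup.zpowers d) = 2 ^ (m + 1) := by rw [Nat.card_zpowers, hordd]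
  have e1 : ↥(Subgroup.zpowers c) ≃* Multiplicative (ZMod (2 ^ (m + 1))) :=
    (zmodCyclicMulEquiv (inferInstance : IsCyclic ↥(Subgroup.zpowers c))).symm.trans
      (AddEquiv.toMultiplicative (ZMod.ringEquivCongr hcardc).toAddEquiv)
  have e2 : ↥(Subgroup.zpowers d) ≃* Multiplicative (ZMod (2 ^ (m + 1))) :=
    (zmodCyclicMulEquiv (inferInstance : IsCyclic ↥(Subgroup.zpowers d))).symm.trans
      (AddEquiv.toMultiplicative (ZMod.ringEquivCongr hcardd).toAddEquiv)
  exact ⟨m + 1, ⟨(MulEquiv.ofBijective ψ ⟨hinj, hsurj⟩).symm.trans (MulEquiv.prodCongr e1 e2)⟩⟩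

/-- A nonabelian metacyclic `2`-group with a nontrivial automorphism of odd prime order has
commutator subgroup of index `4`. -/
theorem mt_nonabelian {X : Type*} [Group X] [Finite X] (hX : IsPGroup 2 X)
    (hm : Cfsg.IsMetacyclic X) (hna : ¬ ∀ x y : X, x * y = y * x)
    (α : MulAut X) (r : ℕ) [Fact r.Prime] (hr2 : r ≠ 2) (hαr : α ^ r = 1) (hα1 : α ≠ 1) :
    (commutator X).index = 4 := by
  classical
  haveI : Fact (Nat.Prime 2) := ⟨Nat.prime_two⟩
  have hr : r.Prime := Fact.out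
  obtain ⟨N, hN, hcN, hcXN⟩ := hm
  haveI := hN
  haveI := hcN
  haveI := hcXN
  obtain ⟨c0, hc0⟩ := IsCyclic.exists_generator (α := ↥N)
  obtain ⟨d0, hd0⟩ := IsCyclic.exists_generator (α := X ⧸ N)
  obtain ⟨d, rfl⟩ := QuotientGroup.mk_surjective d0
  obtain ⟨c, hcdef⟩ : ∃ c : X, c = (c0 : X) := ⟨_, rfl⟩
  have hNc : ∀ y ∈ N, y ∈ Subgroup.zpowers c := by
    intro y hy
    obtain ⟨i, hi⟩ := Subgroup.mem_zpowers_iff.mp (hc0 ⟨y, hy⟩)
    rw [hcdef]
    refine Subgroup.mem_zpowers_iff.mpr ⟨i, ?_⟩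
    have h1 := congrArg (fun z : ↥N => (z : X)) hi
    simpa using h1
  have hform : ∀ x : X, ∃ i j : ℤ, x = d ^ j * c ^ i := by
    intro x
    obtain ⟨j, hj⟩ := Subgroup.mem_zpowers_iff.mp (hd0 (x : X ⧸ N))
    have hmem : (d ^ j)⁻¹ * x ∈ N := by
      rw [← QuotientGroup.mk_zpow] at hj
      exact QuotientGroup.eq.mp hj
    obtain ⟨i, hi⟩ := Subgroup.mem_zpowers_iff.mp (hNc _ hmem)
    exact ⟨i, j, by rw [hi, mul_inv_cancel_left]⟩
  have hform' : ∀ x : X, ∃ i j : ℤ, x = c ^ i * d ^ j := by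
    intro x
    obtain ⟨i, j, h⟩ := hform x⁻¹
    refine ⟨-i, -j, ?_⟩
    rw [zpow_neg, zpow_neg, ← mul_inv_rev, ← h, inv_inv]
  have hgen : Subgroup.closure ({c, d} : Set X) = ⊤ := by
    rw [eq_top_iff]
    intro x _
    obtain ⟨i, j, hij⟩ := hform x
    rw [hij]
    exact Subgroup.mul_mem _ (Subgroup.zpow_mem _ (Subgroup.subset_closure (by simp)) j)
      (Subgroup.zpow_mem _ (Subgroup.subset_closure (by simp)) i)
  have hno := mt_no_idx2 hX c d hgen α r hr2 hαr hα1
  have hX'N : commutator X ≤ N := by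
    rw [← Subgroup.Normal.quotient_commutative_iff_commutator_le]
    exact IsCyclic.isMulCommutative
  have hX'c : commutator X ≤ Subgroup.zpowers c := fun y hy => hNc y (hX'N hy)
  have hmemX' : ∀ x y : X, ⁅x, y⁆ ∈ commutator X := fun x y =>
    Subgroup.commutator_mem_commutator (Subgroup.mem_top x) (Subgroup.mem_top y)
  -- the commutator subgroup is central
  have hcent : ∀ w ∈ commutator X, ∀ x : X, w * x = x * w := by
    obtain ⟨C, hC⟩ : ∃ C : Subgroup X, C = Subgroup.centralizer (commutator X : Set X) :=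
      ⟨_, rfl⟩
    have hcC : c ∈ C := by
      rw [hC, Subgroup.mem_centralizer_iff]
      intro w hw
      obtain ⟨j, rfl⟩ := Subgroup.mem_zpowers_iff.mp (hX'c hw)
      exact ((Commute.refl c).zpow_left j).eq
    have hCα : ∀ x ∈ C, α x ∈ C := by
      intro x hx
      rw [hC, Subgroup.mem_centralizer_iff] at hx ⊢
      intro w hw
      have hw' : α.symm w ∈ commutator X := by
        rw [← mt_char_inv (commutator X) α (α.symm w), MulEquiv.apply_symm_apply]
        exact hw
      have h1 := hx _ hw'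
      have h2 := congrArg α h1
      rw [map_mul, map_mul, MulEquiv.apply_symm_apply] at h2
      exact h2
    have hMα : ∀ x ∈ C ⊔ frattini X, α x ∈ C ⊔ frattini X := by
      have hle : C ⊔ frattini X ≤ (C ⊔ frattini X).comap α.toMonoidHom := by
        apply sup_le
        · intro x hx
          exact Subgroup.mem_comap.mpr (Subgroup.mem_sup_left (hCα x hx))
        · intro x hx
          exact Subgroup.mem_comap.mpr
            (Subgroup.mem_sup_right ((mt_char_inv (frattini X) α x).mpr hx))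
      intro x hx
      exact Subgroup.mem_comap.mp (hle hx)
    have hMtop : C ⊔ frattini X = ⊤ := by
      by_contra hne
      have hcM : c ∈ C ⊔ frattini X := Subgroup.mem_sup_left hcC
      have hdM : d ∉ C ⊔ frattini X := by
        intro hd
        apply hne
        rw [eq_top_iff]
        intro x _
        obtain ⟨i, j, hx⟩ := hform x
        rw [hx]
        exact Subgroup.mul_mem _ (Subgroup.zpow_mem _ hd j) (Subgroup.zpow_mem _ hcM i)
      exact hno _ hMα (mt_idx2 _ c d hcM hdM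
        (Subgroup.mem_sup_right (Cfsg.Agent.Lead.pow_mem_frattini hX d)) hform')
    have hCtop : C = ⊤ := frattini_nongenerating hMtop
    intro w hw x
    have hx : x ∈ C := by rw [hCtop]; exact Subgroup.mem_top x
    rw [hC, Subgroup.mem_centralizer_iff] at hx
    exact hx w hw
  -- the Frattini subgroup has index 4
  have hΦ4 : (frattini X).index = 4 := by
    obtain ⟨n, hn2, hn⟩ := mt_frat_idx hX c d hgen
    have h012 : n = 0 ∨ n = 1 ∨ n = 2 := by omega
    rcases h012 with h0 | h0 | h0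
    · exfalso
      rw [h0, pow_zero] at hn
      have hΦtop : frattini X = ⊤ := Subgroup.index_eq_one.mp hn
      have hbot : (⊥ : Subgroup X) = ⊤ :=
        frattini_nongenerating (by rw [bot_sup_eq]; exact hΦtop)
      apply hα1
      apply MulEquiv.ext
      intro x
      have hx1 : ∀ y : X, y = 1 := fun y => by
        have h : y ∈ (⊥ : Subgroup X) := by rw [hbot]; exact Subgroup.mem_top y
        exact Subgroup.mem_bot.mp h
      exact (hx1 (α x)).trans (hx1 ((1 : MulAut X) x)).symm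
    · exfalso
      rw [h0, pow_one] at hn
      exact hno (frattini X) (fun x hx => (mt_char_inv (frattini X) α x).mpr hx) hn
    · rw [h0] at hn
      rw [hn]; norm_num
  have hX'ne : commutator X ≠ ⊥ := by
    intro h
    apply hna
    intro x y
    have h1 := hmemX' x y
    rw [h, Subgroup.mem_bot] at h1
    exact (commutatorElement_eq_one_iff_commute.mp h1).eq
  obtain ⟨t', ht'⟩ := (IsPGroup.iff_card (p := 2)).mp (hX.to_subgroup (commutator X))
  have ht'pos : 0 < t' := by
    rcases Nat.eq_zero_or_pos t' with h0 | h0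
    · exfalso
      rw [h0, pow_zero] at ht'
      exact hX'ne (Subgroup.card_eq_one.mp ht')
    · exact h0
  obtain ⟨t, rfl⟩ : ∃ t, t' = t + 1 := ⟨t' - 1, by omega⟩
  have hX'pow : ∀ w ∈ commutator X, w ^ 2 ^ (t + 1) = 1 := by
    intro w hw
    have h1 : (⟨w, hw⟩ : ↥(commutator X)) ^ Nat.card ↥(commutator X) = 1 := pow_card_eq_one'
    rw [ht'] at h1
    have h2 : w ^ 2 ^ (t + 1) = 1 := congrArg (fun z : ↥(commutator X) => (z : X)) h1
    exact h2
  have hc1 : c ≠ 1 := by
    intro h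
    apply hX'ne
    rw [eq_bot_iff]
    intro w hw
    obtain ⟨j, rfl⟩ := Subgroup.mem_zpowers_iff.mp (hX'c hw)
    rw [h, one_zpow]
    exact Subgroup.mem_bot.mpr rfl
  obtain ⟨kk, hkk⟩ := (IsPGroup.iff_card (p := 2)).mp hX
  have hoc : orderOf c ∣ 2 ^ kk := by rw [← hkk]; exact orderOf_dvd_natCard c
  obtain ⟨s', -, hs'⟩ := (Nat.dvd_prime_pow Nat.prime_two).mp hoc
  have hs'pos : 0 < s' := by
    rcases Nat.eq_zero_or_pos s' with h0 | h0
    · exfalso
      rw [h0, pow_zero] at hs'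
      exact hc1 (orderOf_eq_one_iff.mp hs')
    · exact h0
  obtain ⟨s, rfl⟩ : ∃ s, s' = s + 1 := ⟨s' - 1, by omega⟩
  have hex : ∃ n : ℕ, ∀ x : X, x ^ 2 ^ n ∈ commutator X :=
    ⟨kk, fun x => by rw [← hkk, pow_card_eq_one']; exact Subgroup.one_mem _⟩
  obtain ⟨n, hn, hmin⟩ : ∃ n : ℕ, (∀ x : X, x ^ 2 ^ n ∈ commutator X) ∧
      ∀ n' < n, ¬ ∀ x : X, x ^ 2 ^ n' ∈ commutator X :=
    ⟨Nat.find hex, Nat.find_spec hex, fun n' hn' => Nat.find_min hex hn'⟩
  have hX'Φ : commutator X ≤ frattini X := Cfsg.Agent.Lead.commutator_le_frattini hX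
  have hmulpow : ∀ (a b : X) (M : ℕ),
      (a * b) ^ M = a ^ M * b ^ M * ⁅b, a⁆ ^ (∑ i ∈ Finset.range M, i) := by
    intro a b M
    apply Cfsg.Agent.S0640.mul_pow_class_two a b ⁅b, a⁆
    · rw [commutatorElement_def]; group
    · exact hcent _ (hmemX' b a) a
    · exact hcent _ (hmemX' b a) b
  rcases n with _ | _ | m
  · -- `n = 0`
    exfalso
    have htop : frattini X = ⊤ := by
      rw [eq_top_iff]
      intro x _
      have h : x ∈ commutator X := by simpa using hn x
      exact hX'Φ h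
    rw [htop, Subgroup.index_top] at hΦ4
    omega
  · -- `n = 1`
    have hΦX' : frattini X ≤ commutator X := by
      apply Cfsg.Agent.Helper24.frattini_le_of_elementary_quotient Nat.prime_two (commutator X)
      · exact hmemX'
      · intro x
        have h : x ^ 2 ∈ commutator X := by simpa using hn x
        exact h
    rw [le_antisymm hX'Φ hΦX']
    exact hΦ4
  · -- `n = m + 2`
    exfalso
    obtain ⟨K', hK'⟩ : ∃ K' : Subgroup X, ∀ x : X, x ∈ K' ↔ x ^ 2 ^ (m + 1) ∈ commutator X :=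
      ⟨{ carrier := {x | x ^ 2 ^ (m + 1) ∈ commutator X}
         one_mem' := by
           show (1 : X) ^ 2 ^ (m + 1) ∈ commutator X
           rw [one_pow]; exact Subgroup.one_mem _
         mul_mem' := by
           intro a b ha hb
           have ha' : a ^ 2 ^ (m + 1) ∈ commutator X := ha
           have hb' : b ^ 2 ^ (m + 1) ∈ commutator X := hb
           show (a * b) ^ 2 ^ (m + 1) ∈ commutator X
           rw [hmulpow]
           exact Subgroup.mul_mem _ (Subgroup.mul_mem _ ha' hb')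
             (Subgroup.pow_mem _ (hmemX' b a) _)
         inv_mem' := by
           intro a ha
           have ha' : a ^ 2 ^ (m + 1) ∈ commutator X := ha
           show a⁻¹ ^ 2 ^ (m + 1) ∈ commutator X
           rw [inv_pow]; exact Subgroup.inv_mem _ ha' }, fun x => Iff.rfl⟩
    have hK'α : ∀ x ∈ K', α x ∈ K' := by
      intro x hx
      rw [hK'] at hx ⊢
      rw [← map_pow]
      exact (mt_char_inv (commutator X) α _).mpr hx
    have hK'sq : ∀ x : X, x ^ 2 ∈ K' := by
      intro x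
      rw [hK', ← pow_mul, ← pow_succ']
      exact hn x
    have hK'top : K' ≠ ⊤ := by
      intro h
      apply hmin (m + 1) (Nat.lt_succ_self _)
      intro x
      rw [← hK', h]
      exact Subgroup.mem_top x
    have hcK' : c ∉ K' := by
      intro hc
      have hdK' : d ∉ K' := by
        intro hd
        apply hK'top
        rw [eq_top_iff]
        intro x _
        obtain ⟨i, j, hx⟩ := hform x
        rw [hx]
        exact K'.mul_mem (K'.zpow_mem hd j) (K'.zpow_mem hc i)
      exact hno K' hK'α (mt_idx2 K' c d hc hdK' (hK'sq d) hform')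
    obtain ⟨M, hMdef⟩ : ∃ M : ℕ, M = 2 ^ (t + 1) * 2 ^ (m + 1) := ⟨_, rfl⟩
    have hM1 : ∀ x : X, x ^ M = (x ^ 2 ^ (m + 1 + 1)) ^ 2 ^ t := by
      intro x
      rw [← pow_mul, hMdef]
      congr 1
      ring
    have hM2 : ∀ x : X, (x ^ M) ^ 2 = 1 := by
      intro x
      have h : (x ^ M) ^ 2 = (x ^ 2 ^ (m + 1 + 1)) ^ 2 ^ (t + 1) := by
        rw [← pow_mul, ← pow_mul, hMdef]
        congr 1
        ring
      rw [h]
      exact hX'pow _ (hn x)
    have hMX' : ∀ x : X, x ^ M ∈ commutator X := by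
      intro x
      rw [hM1]
      exact Subgroup.pow_mem _ (hn x) _
    have hS : (∑ i ∈ Finset.range M, i) = 2 ^ (t + 1) * (2 ^ m * (M - 1)) := by
      have h1 := Finset.sum_range_id_mul_two M
      have h2 : (∑ i ∈ Finset.range M, i) * 2 = 2 ^ (t + 1) * (2 ^ m * (M - 1)) * 2 := by
        rw [h1]
        generalize M - 1 = P
        rw [hMdef]; ring
      exact Nat.eq_of_mul_eq_mul_right (by norm_num) h2
    have hMmul : ∀ a b : X, (a * b) ^ M = a ^ M * b ^ M := by
      intro a b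
      rw [hmulpow, hS, pow_mul, hX'pow _ (hmemX' b a), one_pow, mul_one]
    obtain ⟨L, hL⟩ : ∃ L : Subgroup X, ∀ x : X, x ∈ L ↔ x ^ M = 1 :=
      ⟨{ carrier := {x | x ^ M = 1}
         one_mem' := one_pow _
         mul_mem' := by
           intro a b ha hb
           show (a * b) ^ M = 1
           rw [hMmul, show a ^ M = 1 from ha, show b ^ M = 1 from hb, one_mul]
         inv_mem' := by
           intro a ha
           show a⁻¹ ^ M = 1
           rw [inv_pow, show a ^ M = 1 from ha, inv_one] }, fun x => Iff.rfl⟩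
    have hLα : ∀ x ∈ L, α x ∈ L := by
      intro x hx
      rw [hL] at hx ⊢
      rw [← map_pow, hx, map_one]
    have hinvol : ∀ x : X, x ^ M = 1 ∨ x ^ M = c ^ 2 ^ s := by
      intro x
      by_cases h1 : x ^ M = 1
      · left; exact h1
      · right
        obtain ⟨a, ha⟩ := Subgroup.mem_zpowers_iff.mp (hX'c (hMX' x))
        rw [← ha]
        apply mt_uniq_inv c s hs'
        · rw [ha]; exact hM2 x
        · rw [ha]; exact h1
    have hee : c ^ 2 ^ s * c ^ 2 ^ s = 1 := by
      rw [← pow_two, ← pow_mul, ← pow_succ, ← hs', pow_orderOf_eq_one]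
    have hLtop : L = ⊤ := by
      by_contra hne
      have hex2 : ∃ a : X, a ∉ L := by
        by_contra hall
        apply hne
        rw [eq_top_iff]
        intro x _
        by_contra hx
        exact hall ⟨x, hx⟩
      obtain ⟨a, ha⟩ := hex2
      have haM : a ^ M = c ^ 2 ^ s := by
        rcases hinvol a with h | h
        · exact absurd ((hL a).mpr h) ha
        · exact h
      have hce : c ^ 2 ^ s ≠ 1 := by
        intro h
        apply ha
        rw [hL, haM]; exact h
      apply hno L hLα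
      rw [Subgroup.index_eq_two_iff]
      refine ⟨a, fun b => ?_⟩
      rw [hL, hL, hMmul, haM]
      rcases hinvol b with h | h
      · rw [h, one_mul]
        exact Or.inr ⟨rfl, hce⟩
      · rw [h, hee]
        exact Or.inl ⟨rfl, hce⟩
    have hcM : c ^ M = 1 := by
      have h : c ∈ L := by rw [hLtop]; exact Subgroup.mem_top c
      exact (hL c).mp h
    apply hcK'
    rw [hK']
    apply mt_cyc_mem c (commutator X) hX'c
    · exact Subgroup.pow_mem _ (Subgroup.mem_zpowers c) _
    · rw [ht', ← pow_mul]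
      have e : 2 ^ (m + 1) * 2 ^ (t + 1) = M := by rw [hMdef]; ring
      rw [e]; exact hcM

end Cfsg.Agent.Helper23
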