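import Mathlib
import Cfsg.Agent.Lead.NilBound

set_option autoImplicit false

namespace Cfsg.Agent.Helper23

/-- A Sylow `p`-subgroup of a nilpotent group acting faithfully and transitively on `Ω`
embeds in the symmetric group on one of its orbits, whose length is a power of `p`
dividing the degree. -/
theorem nil_sylow_card_dvd {N Ω : Type} [Group N] [Finite N] [Fintype Ω] [MulAction N Ω]
    [FaithfulSMul N Ω] [MulAction.IsPretransitive N Ω] (hN : Group.IsNilpotent N) (p : ℕ)
    [Fact p.Prime] (P : Sylow p N) :
    Nat.card P ∣ (p ^ (Fintype.card Ω).factorization p).factorial := by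
  classical
  have hp : p.Prime := Fact.out
  rcases isEmpty_or_nonempty Ω with hΩ | hΩ
  · have hsub : Subsingleton N :=
      ⟨fun a b => eq_of_smul_eq_smul (α := Ω) (fun x => (hΩ.false x).elim)⟩
    have h1 : Nat.card P = 1 := by
      rw [Nat.card_eq_one_iff_unique]
      exact ⟨⟨fun a b => Subtype.ext (Subsingleton.elim _ _)⟩, ⟨1⟩⟩
    rw [h1]
    exact one_dvd _
  obtain ⟨w⟩ := hΩ
  haveI : Nonempty Ω := ⟨w⟩
  haveI := hN
  obtain ⟨H, hHdef⟩ : ∃ H : Subgroup N, H = (P : Subgroup N) := ⟨_, rfl⟩
  have hcard : Nat.card P = Nat.card H := by rw [hHdef]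
  have hPn : H.Normal := by
    rw [hHdef]
    exact Sylow.normal_of_normalizerCondition Group.normalizerCondition_of_isNilpotent P
  haveI := hPn
  have hHp : IsPGroup p H := by
    rw [hHdef]
    exact P.isPGroup'
  -- `N = H * C_N(H)`
  have hK : H ⊔ Subgroup.centralizer (H : Set N) = ⊤ := by
    rw [← Subgroup.index_eq_one, Nat.eq_one_iff_not_exists_prime_dvd]
    intro r hr hdvd
    haveI : Fact r.Prime := ⟨hr⟩
    by_cases hrp : r = p
    · have h1 : ¬ p ∣ H.index := by
        rw [hHdef]
        exact P.not_dvd_index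
      rw [hrp] at hdvd
      exact h1 (dvd_trans hdvd (Subgroup.index_dvd_of_le le_sup_left))
    · obtain ⟨R⟩ : Nonempty (Sylow r N) := inferInstance
      have hRn : (R : Subgroup N).Normal :=
        Sylow.normal_of_normalizerCondition Group.normalizerCondition_of_isNilpotent R
      have hdisj : Disjoint (R : Subgroup N) H :=
        IsPGroup.disjoint_of_ne r p hrp _ _ R.isPGroup' hHp
      have hRC : (R : Subgroup N) ≤ Subgroup.centralizer (H : Set N) := by
        intro x hx
        rw [Subgroup.mem_centralizer_iff]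
        intro y hy
        exact ((Subgroup.commute_of_normal_of_disjoint _ _ hRn hPn hdisj x y hx hy).eq).symm
      exact R.not_dvd_index
        (dvd_trans hdvd (Subgroup.index_dvd_of_le (le_trans hRC le_sup_right)))
  -- the orbit of `w` under `H`
  obtain ⟨k, hk⟩ := hHp.card_orbit w
  have hblock : MulAction.IsBlock N (MulAction.orbit H w) := MulAction.IsBlock.orbit_of_normal w
  have hdvd : (MulAction.orbit H w).ncard ∣ Nat.card Ω :=
    hblock.ncard_dvd_card ⟨w, MulAction.mem_orbit_self w⟩
  have hk' : p ^ k ∣ Fintype.card Ω := by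
    rw [← hk, ← Nat.card_eq_fintype_card, Nat.card_coe_set_eq]
    exact hdvd
  have hkv : k ≤ (Fintype.card Ω).factorization p :=
    (hp.pow_dvd_iff_le_factorization Fintype.card_ne_zero).mp hk'
  -- `H` acts faithfully on the orbit
  haveI : FaithfulSMul H (MulAction.orbit H w) := by
    constructor
    intro x y hxy
    apply Subtype.ext
    apply eq_of_smul_eq_smul (α := Ω)
    intro a
    obtain ⟨g, rfl⟩ := MulAction.exists_smul_eq N w a
    have hg : g ∈ H ⊔ Subgroup.centralizer (H : Set N) := by
      rw [hK]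
      exact Subgroup.mem_top g
    obtain ⟨h, hh, c, hc, rfl⟩ := Subgroup.mem_sup_of_normal_left.mp hg
    have hcx : ∀ z : N, z ∈ H → z * c = c * z := fun z hz =>
      Subgroup.mem_centralizer_iff.mp hc z hz
    have key : ∀ z : H, (z : N) • ((h * c) • w) = c • ((z : N) • (h • w)) := by
      intro z
      calc (z : N) • ((h * c) • w) = ((z : N) * h * c) • w := by rw [← mul_smul, mul_assoc]
        _ = (c * ((z : N) * h)) • w := by rw [hcx ((z : N) * h) (H.mul_mem z.2 hh)]
        _ = c • ((z : N) • (h • w)) := by rw [mul_smul, mul_smul]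
    have e := hxy ⟨h • w, ⟨⟨h, hh⟩, rfl⟩⟩
    have e' : (x : N) • (h • w) = (y : N) • (h • w) := congrArg Subtype.val e
    show (x : N) • ((h * c) • w) = (y : N) • ((h * c) • w)
    rw [key x, key y, e']
  have hinj : Function.Injective (MulAction.toPermHom H (MulAction.orbit H w)) :=
    fun a b hab => MulAction.toPerm_injective hab
  have h1 : Nat.card H ∣ Nat.card (Equiv.Perm (MulAction.orbit H w)) :=
    Subgroup.card_dvd_of_injective _ hinj
  rw [Nat.card_perm, hk] at h1
  rw [hcard]
  exact dvd_trans h1 (Nat.factorial_dvd_factorial (Nat.pow_le_pow_right hp.pos hkv))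

end Cfsg.Agent.Helper23
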